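import Mathlib
import Groth.Agent.EtaleAlgebra.MilnorSpec

/-!
The spectrum of a fibre product of rings with one surjection is the pushout in schemes.
-/

set_option autoImplicit false

universe u

open CategoryTheory CategoryTheory.Limits AlgebraicGeometry TopologicalSpace

noncomputable section

namespace Groth.SpecFerrand

/-- `Spec` of a ring map. -/
abbrev Sp {R S : Type u} [CommRing R] [CommRing S] (f : R →+* S) :
    Spec (CommRingCat.of S) ⟶ Spec (CommRingCat.of R) :=
  Spec.map (CommRingCat.ofHom f)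

theorem Sp_comp {R S T : Type u} [CommRing R] [CommRing S] [CommRing T] (g : S →+* T) (f : R →+* S) :
    Sp g ≫ Sp f = Sp (g.comp f) :=
  (Spec.map_comp _ _).symm

variable {B' B A' A : Type u} [CommRing B'] [CommRing B] [CommRing A'] [CommRing A]

/-- A fibre square of rings with one surjection. -/
structure Sq (p1 : B' →+* B) (p2 : B' →+* A') (q : B →+* A) (p : A' →+* A) : Prop where
  comm : q.comp p1 = p.comp p2
  surj : Function.Surjective p
  exu : ∀ b a, q b = p a → ∃! x, p1 x = b ∧ p2 x = a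

variable {p1 : B' →+* B} {p2 : B' →+* A'} {q : B →+* A} {p : A' →+* A}

theorem Sq.comm' (h : Sq p1 p2 q p) (x : B') : q (p1 x) = p (p2 x) := RingHom.congr_fun h.comm x

theorem Sq.ext (h : Sq p1 p2 q p) {x y : B'} (h1 : p1 x = p1 y) (h2 : p2 x = p2 y) : x = y :=
  (h.exu (p1 x) (p2 x) (h.comm' x)).unique ⟨rfl, rfl⟩ ⟨h1.symm, h2.symm⟩

theorem top_facts (h : Sq p1 p2 q p) :
    (∀ P : PrimeSpectrum B', (∃ Q, PrimeSpectrum.comap p1 Q = P) ∨ ∃ Q, PrimeSpectrum.comap p2 Q = P) ∧
    ∀ {W : Type u} [TopologicalSpace W] (g₁ : PrimeSpectrum B → W) (g₂ : PrimeSpectrum A' → W),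
      Continuous g₁ → Continuous g₂ →
      (∀ r, g₁ (PrimeSpectrum.comap q r) = g₂ (PrimeSpectrum.comap p r)) →
      ∃ g : PrimeSpectrum B' → W, Continuous g ∧ (∀ Q, g (PrimeSpectrum.comap p1 Q) = g₁ Q) ∧
        ∀ Q, g (PrimeSpectrum.comap p2 Q) = g₂ Q := by
  letI := p1.toAlgebra
  letI := p2.toAlgebra
  letI := q.toAlgebra
  letI := p.toAlgebra
  letI := (q.comp p1).toAlgebra
  haveI : IsScalarTower B' B A := IsScalarTower.of_algebraMap_eq' rfl
  haveI : IsScalarTower B' A' A := IsScalarTower.of_algebraMap_eq' h.comm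
  have hs : EtMil.IsFibreSquare B' B A' A := ⟨h.surj, h.exu⟩
  exact ⟨Groth.EtaleAlgebra.MilnorSpec.exists_left_or_right hs,
    fun g₁ g₂ => Groth.EtaleAlgebra.MilnorSpec.exists_desc hs g₁ g₂⟩

/-! ### Localisation -/

variable (p1 p2) in
/-- The localised first projection. -/
def loc1 (r : B') : Localization.Away r →+* Localization.Away (p1 r) :=
  IsLocalization.Away.lift r (g := (algebraMap B (Localization.Away (p1 r))).comp p1)
    (IsLocalization.Away.algebraMap_isUnit (p1 r))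

variable (p1 p2) in
/-- The localised second projection. -/
def loc2 (r : B') : Localization.Away r →+* Localization.Away (p2 r) :=
  IsLocalization.Away.lift r (g := (algebraMap A' (Localization.Away (p2 r))).comp p2)
    (IsLocalization.Away.algebraMap_isUnit (p2 r))

variable (p1 q) in
/-- The localised bottom map. -/
def locq (r : B') : Localization.Away (p1 r) →+* Localization.Away (q (p1 r)) :=
  IsLocalization.Away.lift (p1 r) (g := (algebraMap A (Localization.Away (q (p1 r)))).comp q)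
    (IsLocalization.Away.algebraMap_isUnit (q (p1 r)))

/-- The localised right map. -/
def locp (h : Sq p1 p2 q p) (r : B') : Localization.Away (p2 r) →+* Localization.Away (q (p1 r)) :=
  IsLocalization.Away.lift (p2 r) (g := (algebraMap A (Localization.Away (q (p1 r)))).comp p)
    (by rw [RingHom.comp_apply, ← h.comm']; exact IsLocalization.Away.algebraMap_isUnit (q (p1 r)))

theorem loc1_comp (r : B') :
    (loc1 p1 r).comp (algebraMap B' _) = (algebraMap B (Localization.Away (p1 r))).comp p1 :=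
  IsLocalization.Away.lift_comp _ _

theorem loc2_comp (r : B') :
    (loc2 p2 r).comp (algebraMap B' _) = (algebraMap A' (Localization.Away (p2 r))).comp p2 :=
  IsLocalization.Away.lift_comp _ _

theorem locq_comp (r : B') :
    (locq p1 q r).comp (algebraMap B _) = (algebraMap A (Localization.Away (q (p1 r)))).comp q :=
  IsLocalization.Away.lift_comp _ _

theorem locp_comp (h : Sq p1 p2 q p) (r : B') :
    (locp h r).comp (algebraMap A' _) = (algebraMap A (Localization.Away (q (p1 r)))).comp p :=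
  IsLocalization.Away.lift_comp _ _

theorem Sq.loc (h : Sq p1 p2 q p) (r : B') :
    Sq (loc1 p1 r) (loc2 p2 r) (locq p1 q r) (locp h r) := by
  have e1 := fun x => RingHom.congr_fun (loc1_comp (p1 := p1) r) x
  have e2 := fun x => RingHom.congr_fun (loc2_comp (p2 := p2) r) x
  have e3 := fun x => RingHom.congr_fun (locq_comp (p1 := p1) (q := q) r) x
  have e4 := fun x => RingHom.congr_fun (locp_comp h r) x
  simp only [RingHom.comp_apply] at e1 e2 e3 e4
  refine ⟨IsLocalization.ringHom_ext (Submonoid.powers r) (RingHom.ext fun x => ?_), fun z => ?_,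
    fun z w hzw => ?_⟩
  · simp only [RingHom.comp_apply]
    rw [e1, e3, e2, e4]
    exact congrArg _ (h.comm' x)
  · obtain ⟨n, a, ha⟩ := IsLocalization.Away.surj (q (p1 r)) z
    obtain ⟨a', rfl⟩ := h.surj a
    obtain ⟨u, hu⟩ := (IsLocalization.Away.algebraMap_isUnit (S := Localization.Away (p2 r)) (p2 r)).pow n
    refine ⟨algebraMap A' _ a' * ↑u⁻¹, ?_⟩
    apply ((IsLocalization.Away.algebraMap_isUnit (S := Localization.Away (q (p1 r))) (q (p1 r))).pow n).mul_right_cancel
    have h5 : locp h r ↑u = algebraMap A (Localization.Away (q (p1 r))) (q (p1 r)) ^ n := by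
      rw [hu, map_pow, e4, h.comm']
    rw [ha, ← h5, ← map_mul, _root_.mul_assoc, u.inv_mul, _root_.mul_one, e4]
  · obtain ⟨n, b, hb⟩ := IsLocalization.Away.surj (p1 r) z
    obtain ⟨m, a, ha⟩ := IsLocalization.Away.surj (p2 r) w
    have h6 : algebraMap A (Localization.Away (q (p1 r))) (q (b * p1 r ^ m)) =
        algebraMap A _ (p (a * p2 r ^ n)) := by
      rw [← e3, ← e4, map_mul (algebraMap B _), map_mul (algebraMap A' _), ← hb, ← ha]
      simp only [map_mul, map_pow, hzw, e3, e4, ← h.comm']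
      ring
    obtain ⟨⟨_, k, rfl⟩, hk⟩ := (IsLocalization.eq_iff_exists (Submonoid.powers (q (p1 r))) _).mp h6
    obtain ⟨x, ⟨hx1, hx2⟩, -⟩ := h.exu (p1 r ^ k * (b * p1 r ^ m)) (p2 r ^ k * (a * p2 r ^ n)) (by
      simp only [map_mul, map_pow] at hk ⊢
      rw [← h.comm' r] at hk ⊢
      exact hk)
    obtain ⟨u, hu⟩ := (IsLocalization.Away.algebraMap_isUnit (S := Localization.Away r) r).pow (n + m + k)
    have hl1 : loc1 p1 r (algebraMap B' _ x * ↑u⁻¹) = z := by
      apply ((IsLocalization.Away.algebraMap_isUnit (S := Localization.Away (p1 r)) (p1 r)).pow (n + m + k)).mul_right_cancel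
      have h5 : loc1 p1 r ↑u = algebraMap B (Localization.Away (p1 r)) (p1 r) ^ (n + m + k) := by
        rw [hu, map_pow, e1]
      rw [← h5, ← map_mul, _root_.mul_assoc, u.inv_mul, _root_.mul_one, e1, hx1, h5, map_mul,
        map_mul, map_pow, map_pow, ← hb]
      ring
    have hl2 : loc2 p2 r (algebraMap B' _ x * ↑u⁻¹) = w := by
      apply ((IsLocalization.Away.algebraMap_isUnit (S := Localization.Away (p2 r)) (p2 r)).pow (n + m + k)).mul_right_cancel
      have h5 : loc2 p2 r ↑u = algebraMap A' (Localization.Away (p2 r)) (p2 r) ^ (n + m + k) := by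
        rw [hu, map_pow, e2]
      rw [← h5, ← map_mul, _root_.mul_assoc, u.inv_mul, _root_.mul_one, e2, hx2, h5, map_mul,
        map_mul, map_pow, map_pow, ← ha]
      ring
    refine ⟨_, ⟨hl1, hl2⟩, fun y ⟨hy1, hy2⟩ => ?_⟩
    rw [← sub_eq_zero]
    generalize hd : y - algebraMap B' _ x * ↑u⁻¹ = d
    have hd1 : loc1 p1 r d = 0 := by rw [← hd, map_sub, hy1, hl1, sub_self]
    have hd2 : loc2 p2 r d = 0 := by rw [← hd, map_sub, hy2, hl2, sub_self]
    obtain ⟨l, c, hc⟩ := IsLocalization.Away.surj r d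
    have hc1 : algebraMap B (Localization.Away (p1 r)) (p1 c) = 0 := by
      rw [← e1, ← hc, map_mul, hd1, zero_mul]
    have hc2 : algebraMap A' (Localization.Away (p2 r)) (p2 c) = 0 := by
      rw [← e2, ← hc, map_mul, hd2, zero_mul]
    obtain ⟨⟨_, i, rfl⟩, hi⟩ := (IsLocalization.map_eq_zero_iff (Submonoid.powers (p1 r)) _ _).mp hc1
    obtain ⟨⟨_, j, rfl⟩, hj⟩ := (IsLocalization.map_eq_zero_iff (Submonoid.powers (p2 r)) _ _).mp hc2
    have hc0 : r ^ (i + j) * c = 0 := by
      apply h.ext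
      · simp only [map_mul, map_pow, map_zero, pow_add]
        rw [_root_.mul_comm (p1 r ^ i), _root_.mul_assoc, show p1 r ^ i * p1 c = 0 from hi, mul_zero]
      · simp only [map_mul, map_pow, map_zero, pow_add]
        rw [_root_.mul_assoc, show p2 r ^ j * p2 c = 0 from hj, mul_zero]
    have : algebraMap B' (Localization.Away r) c = 0 :=
      (IsLocalization.map_eq_zero_iff (Submonoid.powers r) _ _).mpr ⟨⟨_, i + j, rfl⟩, hc0⟩
    rw [this] at hc
    exact ((IsLocalization.Away.algebraMap_isUnit (S := Localization.Away r) r).pow l).mul_left_eq_zero.mp hc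

/-! ### Schemes -/

variable (h : Sq p1 p2 q p) {T : Scheme.{u}}

theorem range_awayι {R : Type u} [CommRing R] (r : R) :
    Set.range (Sp (algebraMap R (Localization.Away r))) = (PrimeSpectrum.basicOpen r : Set (PrimeSpectrum R)) :=
  PrimeSpectrum.localization_away_comap_range (Localization.Away r) r

instance isOpenImmersion_Sp_away {R : Type u} [CommRing R] (r : R) :
    IsOpenImmersion (Sp (algebraMap R (Localization.Away r))) :=
  IsOpenImmersion.of_isLocalization r

include h in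
theorem existsUnique_affine {W : T.Opens} (hW : IsAffineOpen W) (u : Spec (CommRingCat.of B) ⟶ T)
    (v : Spec (CommRingCat.of A') ⟶ T) (hu : Set.range u ⊆ (W : Set T)) (hv : Set.range v ⊆ (W : Set T))
    (huv : Sp q ≫ u = Sp p ≫ v) :
    ∃! g : Spec (CommRingCat.of B') ⟶ T, Set.range g ⊆ (W : Set T) ∧ Sp p1 ≫ g = u ∧ Sp p2 ≫ g = v := by
  rw [← hW.range_fromSpec] at hu hv ⊢
  obtain ⟨u, rfl⟩ : ∃ u', u' ≫ hW.fromSpec = u := ⟨_, IsOpenImmersion.lift_fac _ _ hu⟩
  obtain ⟨v, rfl⟩ : ∃ v', v' ≫ hW.fromSpec = v := ⟨_, IsOpenImmersion.lift_fac _ _ hv⟩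
  obtain ⟨φu, rfl⟩ := Spec.map_surjective u
  obtain ⟨φv, rfl⟩ := Spec.map_surjective v
  rw [← Category.assoc, ← Category.assoc, cancel_mono, ← Spec.map_comp, ← Spec.map_comp] at huv
  have hq : ∀ x, q (φu.hom x) = p (φv.hom x) := fun x => congr($(Spec.map_injective huv).hom x)
  choose ψ hψ hψu using fun x => h.exu (φu.hom x) (φv.hom x) (hq x)
  let Ψ : Γ(T, W) ⟶ CommRingCat.of B' := CommRingCat.ofHom
    { toFun := ψ
      map_one' := h.ext (by simp [(hψ 1).1]) (by simp [(hψ 1).2])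
      map_zero' := h.ext (by simp [(hψ 0).1]) (by simp [(hψ 0).2])
      map_mul' := fun x y => h.ext (by simp [(hψ _).1]) (by simp [(hψ _).2])
      map_add' := fun x y => h.ext (by simp [(hψ _).1]) (by simp [(hψ _).2]) }
  refine ⟨Spec.map Ψ ≫ hW.fromSpec, ⟨?_, ?_, ?_⟩, ?_⟩
  · rw [Scheme.Hom.comp_base, TopCat.coe_comp]; exact Set.range_comp_subset_range _ _
  · rw [← Category.assoc, ← Spec.map_comp]
    congr 2; ext x; exact (hψ x).1
  · rw [← Category.assoc, ← Spec.map_comp]
    congr 2; ext x; exact (hψ x).2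
  · rintro g ⟨hg, g1, g2⟩
    obtain ⟨g, rfl⟩ : ∃ g', g' ≫ hW.fromSpec = g := ⟨_, IsOpenImmersion.lift_fac _ _ hg⟩
    obtain ⟨φ, rfl⟩ := Spec.map_surjective g
    rw [← Category.assoc, cancel_mono, ← Spec.map_comp] at g1 g2
    congr 2; ext x
    exact h.ext (congr($(Spec.map_injective g1).hom x).trans (hψ x).1.symm)
      (congr($(Spec.map_injective g2).hom x).trans (hψ x).2.symm)

include h in
theorem hom_ext {g g' : Spec (CommRingCat.of B') ⟶ T} (h1 : Sp p1 ≫ g = Sp p1 ≫ g')
    (h2 : Sp p2 ≫ g = Sp p2 ≫ g') : g = g' := by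
  have heq : ∀ x, g x = g' x := by
    intro x
    rcases (top_facts h).1 x with ⟨y, rfl⟩ | ⟨y, rfl⟩
    · exact congr(($h1) y)
    · exact congr(($h2) y)
  have hex : ∀ x : Spec (CommRingCat.of B'), ∃ (W : T.Opens) (r : B'), IsAffineOpen W ∧
      x ∈ PrimeSpectrum.basicOpen r ∧ (PrimeSpectrum.basicOpen r : Set (PrimeSpectrum B')) ⊆ g ⁻¹' W := by
    intro x
    obtain ⟨_, ⟨W, hW, rfl⟩, hxW, -⟩ :=
      T.isBasis_affineOpens.exists_subset_of_mem_open (Set.mem_univ (g x)) isOpen_univ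
    obtain ⟨_, ⟨r, rfl⟩, hxr, hr⟩ := PrimeSpectrum.isTopologicalBasis_basic_opens.exists_subset_of_mem_open
      (show x ∈ g ⁻¹' (W : Set T) from hxW) (W.2.preimage g.continuous)
    exact ⟨W, r, hW, hxr, hr⟩
  choose W r hW hxr hr using hex
  have hs : Ideal.span (Set.range r) = ⊤ := by
    rw [← PrimeSpectrum.iSup_basicOpen_eq_top_iff, eq_top_iff]
    exact fun x _ => Opens.mem_iSup.mpr ⟨x, hxr x⟩
  refine (Scheme.affineOpenCoverOfSpanRangeEqTop (R := CommRingCat.of B') r hs).openCover.hom_ext _ _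
    fun x => ?_
  have hrg : ∀ z, (Sp (algebraMap B' (Localization.Away (r x))) ≫ g) z ∈ W x := by
    intro z
    refine hr x ?_
    rw [← range_awayι]
    exact ⟨z, rfl⟩
  change Sp (algebraMap B' (Localization.Away (r x))) ≫ g = Sp (algebraMap B' (Localization.Away (r x))) ≫ g'
  have k1 : ∀ f : Spec (CommRingCat.of B') ⟶ T, Sp (loc1 p1 (r x)) ≫ Sp (algebraMap B' _) ≫ f =
      Sp (algebraMap B (Localization.Away (p1 (r x)))) ≫ Sp p1 ≫ f := fun f => by
    rw [← Category.assoc, ← Category.assoc, Sp_comp, Sp_comp, loc1_comp]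
  have k2 : ∀ f : Spec (CommRingCat.of B') ⟶ T, Sp (loc2 p2 (r x)) ≫ Sp (algebraMap B' _) ≫ f =
      Sp (algebraMap A' (Localization.Away (p2 (r x)))) ≫ Sp p2 ≫ f := fun f => by
    rw [← Category.assoc, ← Category.assoc, Sp_comp, Sp_comp, loc2_comp]
  refine (existsUnique_affine (h.loc (r x)) (hW x) (Sp (loc1 p1 (r x)) ≫ Sp (algebraMap B' _) ≫ g)
    (Sp (loc2 p2 (r x)) ≫ Sp (algebraMap B' _) ≫ g) ?_ ?_ ?_).unique ⟨?_, rfl, rfl⟩ ⟨?_, ?_, ?_⟩
  · rintro _ ⟨z, rfl⟩; exact hrg _
  · rintro _ ⟨z, rfl⟩; exact hrg _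
  · rw [← Category.assoc, ← Category.assoc, Sp_comp, Sp_comp, (h.loc (r x)).comm]
    simp only [← Sp_comp, Category.assoc]
  · rintro _ ⟨z, rfl⟩; exact hrg z
  · rintro _ ⟨z, rfl⟩
    have := hrg z
    rw [Scheme.Hom.comp_apply] at this ⊢
    rwa [← heq]
  · rw [k1, k1, h1]
  · rw [k2, k2, h2]

theorem comp_eq_of_fac (r : B') {Z : Scheme.{u}} (a : Z ⟶ Spec (CommRingCat.of B))
    (b : Z ⟶ Spec (CommRingCat.of (Localization.Away r)))
    (u : Spec (CommRingCat.of B) ⟶ T) (g : Spec (CommRingCat.of (Localization.Away r)) ⟶ T)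
    (hg : Sp (loc1 p1 r) ≫ g = Sp (algebraMap B (Localization.Away (p1 r))) ≫ u)
    (hab : a ≫ Sp p1 = b ≫ Sp (algebraMap B' (Localization.Away r))) : b ≫ g = a ≫ u := by
  obtain ⟨a, rfl⟩ : ∃ a', a' ≫ Sp (algebraMap B (Localization.Away (p1 r))) = a := by
    refine ⟨_, IsOpenImmersion.lift_fac _ _ ?_⟩
    rintro _ ⟨z, rfl⟩
    have : (a ≫ Sp p1) z ∈ (PrimeSpectrum.basicOpen r : Set (PrimeSpectrum B')) := by
      rw [hab, ← range_awayι]; exact ⟨b z, rfl⟩
    rw [range_awayι]
    exact this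
  rw [Category.assoc, Sp_comp, ← loc1_comp, ← Sp_comp, ← Category.assoc, cancel_mono] at hab
  rw [← hab, Category.assoc, hg, Category.assoc]

include h in
theorem exists_desc (u : Spec (CommRingCat.of B) ⟶ T) (v : Spec (CommRingCat.of A') ⟶ T)
    (huv : Sp q ≫ u = Sp p ≫ v) :
    ∃ g : Spec (CommRingCat.of B') ⟶ T, Sp p1 ≫ g = u ∧ Sp p2 ≫ g = v := by
  obtain ⟨g, gc, g1, g2⟩ := (top_facts h).2 (fun x => u x) (fun x => v x) u.continuous v.continuous
    (fun r => congr(($huv) r))
  have hex : ∀ x : PrimeSpectrum B', ∃ (W : T.Opens) (r : B'), IsAffineOpen W ∧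
      x ∈ PrimeSpectrum.basicOpen r ∧ (PrimeSpectrum.basicOpen r : Set (PrimeSpectrum B')) ⊆ g ⁻¹' W := by
    intro x
    obtain ⟨_, ⟨W, hW, rfl⟩, hxW, -⟩ :=
      T.isBasis_affineOpens.exists_subset_of_mem_open (Set.mem_univ (g x)) isOpen_univ
    obtain ⟨_, ⟨r, rfl⟩, hxr, hr⟩ := PrimeSpectrum.isTopologicalBasis_basic_opens.exists_subset_of_mem_open
      (show x ∈ g ⁻¹' (W : Set T) from hxW) (W.2.preimage gc)
    exact ⟨W, r, hW, hxr, hr⟩
  choose W r hW hxr hr using hex
  have hs : Ideal.span (Set.range r) = ⊤ := by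
    rw [← PrimeSpectrum.iSup_basicOpen_eq_top_iff, eq_top_iff]
    exact fun x _ => Opens.mem_iSup.mpr ⟨x, hxr x⟩
  have hloc : ∀ x, ∃ f : Spec (CommRingCat.of (Localization.Away (r x))) ⟶ T,
      Sp (loc1 p1 (r x)) ≫ f = Sp (algebraMap B (Localization.Away (p1 (r x)))) ≫ u ∧
      Sp (loc2 p2 (r x)) ≫ f = Sp (algebraMap A' (Localization.Away (p2 (r x)))) ≫ v := by
    intro x
    refine ExistsUnique.exists (existsUnique_affine (h.loc (r x)) (hW x) _ _ ?_ ?_ ?_) |>.imp fun f hf => hf.2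
    · rintro _ ⟨z, rfl⟩
      rw [Scheme.Hom.comp_apply, ← g1]
      refine hr x ?_
      exact (range_awayι (p1 (r x))).le ⟨z, rfl⟩
    · rintro _ ⟨z, rfl⟩
      rw [Scheme.Hom.comp_apply, ← g2]
      refine hr x ?_
      exact (range_awayι (p2 (r x))).le ⟨z, rfl⟩
    · rw [← Category.assoc, ← Category.assoc, Sp_comp, Sp_comp, locq_comp, locp_comp,
        ← Sp_comp _ q, ← Sp_comp _ p, Category.assoc, Category.assoc, huv]
  choose f hf1 hf2 using hloc
  let 𝒰 := (Scheme.affineOpenCoverOfSpanRangeEqTop (R := CommRingCat.of B') r hs).openCover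
  have hcompat : ∀ i j, pullback.fst (𝒰.f i) (𝒰.f j) ≫ f i = pullback.snd _ _ ≫ f j := by
    intro (i : PrimeSpectrum B') (j : PrimeSpectrum B')
    let ι₁ : Spec (CommRingCat.of (Localization.Away (r i))) ⟶ Spec (CommRingCat.of B') := Sp (algebraMap _ _)
    let ι₂ : Spec (CommRingCat.of (Localization.Away (r j))) ⟶ Spec (CommRingCat.of B') := Sp (algebraMap _ _)
    change pullback.fst ι₁ ι₂ ≫ f i = pullback.snd ι₁ ι₂ ≫ f j
    let c := pullback.fst ι₁ ι₂ ≫ ι₁
    have hex : ∀ z, ∃ (s : B') (l : Spec (CommRingCat.of (Localization.Away s)) ⟶ pullback ι₁ ι₂),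
        IsOpenImmersion l ∧ z ∈ Set.range l ∧ l ≫ c = Sp (algebraMap B' _) := by
      intro z
      obtain ⟨_, ⟨s, rfl⟩, hzs, hs'⟩ := PrimeSpectrum.isTopologicalBasis_basic_opens.exists_subset_of_mem_open
        (show c z ∈ Set.range c from ⟨z, rfl⟩) c.isOpenEmbedding.isOpen_range
      have hl : Set.range (Sp (algebraMap B' (Localization.Away s))) ⊆ Set.range c := by
        rw [range_awayι]; exact hs'
      refine ⟨s, IsOpenImmersion.lift c _ hl, ?_, ?_, IsOpenImmersion.lift_fac _ _ _⟩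
      · have : IsOpenImmersion (IsOpenImmersion.lift c _ hl ≫ c) := by
          rw [IsOpenImmersion.lift_fac]; infer_instance
        exact IsOpenImmersion.of_comp _ c
      · obtain ⟨y, hy⟩ := (range_awayι s).ge hzs
        refine ⟨y, c.isOpenEmbedding.injective ?_⟩
        rw [← Scheme.Hom.comp_apply, IsOpenImmersion.lift_fac, hy]
    choose s l hlo hzl hlc using hex
    refine (Scheme.Cover.mkOfCovers (P := @IsOpenImmersion) (↥(pullback ι₁ ι₂))
      (fun z => Spec (CommRingCat.of (Localization.Away (s z)))) l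
      (fun z => ⟨z, hzl z⟩) hlo).hom_ext _ _ fun z => ?_
    change l z ≫ pullback.fst ι₁ ι₂ ≫ f i = l z ≫ pullback.snd ι₁ ι₂ ≫ f j
    have hlc1 : l z ≫ pullback.fst ι₁ ι₂ ≫ ι₁ = Sp (algebraMap B' _) := hlc z
    have hlc2 : l z ≫ pullback.snd ι₁ ι₂ ≫ ι₂ = Sp (algebraMap B' _) := by
      rw [← pullback.condition, hlc1]
    refine hom_ext (h.loc (s z)) ?_ ?_
    · trans Sp (algebraMap B (Localization.Away (p1 (s z)))) ≫ u
      · rw [← Category.assoc, ← Category.assoc]
        refine comp_eq_of_fac (r i) _ _ u (f i) (hf1 i) ?_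
        simp only [Category.assoc]
        rw [hlc1, Sp_comp, Sp_comp, loc1_comp]
      · symm
        rw [← Category.assoc, ← Category.assoc]
        refine comp_eq_of_fac (r j) _ _ u (f j) (hf1 j) ?_
        simp only [Category.assoc]
        rw [hlc2, Sp_comp, Sp_comp, loc1_comp]
    · trans Sp (algebraMap A' (Localization.Away (p2 (s z)))) ≫ v
      · rw [← Category.assoc, ← Category.assoc]
        refine comp_eq_of_fac (r i) _ _ v (f i) (hf2 i) ?_
        simp only [Category.assoc]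
        rw [hlc1, Sp_comp, Sp_comp, loc2_comp]
      · symm
        rw [← Category.assoc, ← Category.assoc]
        refine comp_eq_of_fac (r j) _ _ v (f j) (hf2 j) ?_
        simp only [Category.assoc]
        rw [hlc2, Sp_comp, Sp_comp, loc2_comp]
  have hfac : ∀ x, Sp (algebraMap B' (Localization.Away (r x))) ≫ 𝒰.glueMorphisms f hcompat = f x :=
    fun x => 𝒰.ι_glueMorphisms f hcompat x
  refine ⟨𝒰.glueMorphisms f hcompat, ?_, ?_⟩
  · refine Scheme.Cover.hom_ext (𝒰.pullback₁ (Sp p1)) _ _ fun (x : PrimeSpectrum B') => ?_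
    change pullback.fst (Sp p1) (Sp (algebraMap B' (Localization.Away (r x)))) ≫ _ ≫ _ = _ ≫ u
    rw [← Category.assoc, pullback.condition, Category.assoc, hfac]
    exact comp_eq_of_fac (r x) _ _ u (f x) (hf1 x) pullback.condition
  · refine Scheme.Cover.hom_ext (𝒰.pullback₁ (Sp p2)) _ _ fun (x : PrimeSpectrum B') => ?_
    change pullback.fst (Sp p2) (Sp (algebraMap B' (Localization.Away (r x)))) ≫ _ ≫ _ = _ ≫ v
    rw [← Category.assoc, pullback.condition, Category.assoc, hfac]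
    exact comp_eq_of_fac (r x) _ _ v (f x) (hf2 x) pullback.condition

/-- The spectrum of a fibre product of rings with one surjection is a pushout of schemes. -/
theorem isPushout_Sp (h : Sq p1 p2 q p) : IsPushout (Sp q) (Sp p) (Sp p1) (Sp p2) := by
  have w : Sp q ≫ Sp p1 = Sp p ≫ Sp p2 := by rw [Sp_comp, Sp_comp, h.comm]
  have hd : ∀ s : PushoutCocone (Sp q) (Sp p), ∃ g, Sp p1 ≫ g = s.inl ∧ Sp p2 ≫ g = s.inr := fun s =>
    exists_desc h s.inl s.inr s.condition
  choose g hg1 hg2 using hd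
  exact IsPushout.of_isColimit' ⟨w⟩ (PushoutCocone.IsColimit.mk _ g hg1 hg2
    fun s m m1 m2 => hom_ext h (m1.trans (hg1 s).symm) (m2.trans (hg2 s).symm))

end Groth.SpecFerrand
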