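import Mathlib
import Groth.Agent.SpecFerrand.Basic

/-!
Topology and localisation of fibre squares of rings with one surjection.
-/

set_option autoImplicit false

universe u

open PrimeSpectrum

namespace Groth.SpecFerrand

variable {B' B A' A : Type u} [CommRing B'] [CommRing B] [CommRing A'] [CommRing A]
  {p1 : B' →+* B} {p2 : B' →+* A'} {q : B →+* A} {p : A' →+* A}

theorem Sq.surjective_fst (h : Sq p1 p2 q p) : Function.Surjective p1 := fun b => by
  obtain ⟨a, ha⟩ := h.surj (q b)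
  obtain ⟨x, ⟨hx, -⟩, -⟩ := h.exu b a ha.symm
  exact ⟨x, hx⟩

theorem Sq.comap_fst_injective (h : Sq p1 p2 q p) : Function.Injective (PrimeSpectrum.comap p1) :=
  comap_injective_of_surjective _ h.surjective_fst

theorem Sq.topology (h : Sq p1 p2 q p) :
    (∀ (y : PrimeSpectrum B) (x : PrimeSpectrum A'), PrimeSpectrum.comap p1 y = PrimeSpectrum.comap p2 x →
      ∃ z, PrimeSpectrum.comap q z = y ∧ PrimeSpectrum.comap p z = x) ∧
    (∀ x x' : PrimeSpectrum A', PrimeSpectrum.comap p2 x = PrimeSpectrum.comap p2 x' →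
      PrimeSpectrum.comap p2 x ∉ Set.range (PrimeSpectrum.comap p1) → x = x') ∧
    (∀ S : Set (PrimeSpectrum B'), IsOpen (PrimeSpectrum.comap p1 ⁻¹' S) →
      IsOpen (PrimeSpectrum.comap p2 ⁻¹' S) → IsOpen S) := by
  letI := p1.toAlgebra
  letI := p2.toAlgebra
  letI := q.toAlgebra
  letI := p.toAlgebra
  letI := (q.comp p1).toAlgebra
  haveI : IsScalarTower B' B A := IsScalarTower.of_algebraMap_eq' rfl
  haveI : IsScalarTower B' A' A := IsScalarTower.of_algebraMap_eq' h.comm
  have hs : EtMil.IsFibreSquare B' B A' A := ⟨h.surj, h.exu⟩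
  refine ⟨fun y x hyx => ?_, fun x x' hx hn => ?_, fun S h1 h2 => ?_⟩
  · have hker : RingHom.ker (algebraMap B' B) ≤ (PrimeSpectrum.comap (algebraMap B' A') x).asIdeal := by
      intro b hb
      have e : (PrimeSpectrum.comap (algebraMap B' A') x) = PrimeSpectrum.comap p1 y := hyx.symm
      rw [e, comap_asIdeal, Ideal.mem_comap]
      rw [show p1 b = 0 from hb]
      exact zero_mem _
    obtain ⟨z, hz⟩ := Groth.EtaleAlgebra.MilnorSpec.exists_common_of_ker_le hs hker
    refine ⟨z, h.comap_fst_injective ?_, hz⟩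
    refine Eq.trans ?_ hyx.symm
    rw [← hz]
    exact Groth.EtaleAlgebra.MilnorSpec.comap_square hs z
  · by_cases hle : RingHom.ker (algebraMap B' B) ≤ (PrimeSpectrum.comap (algebraMap B' A') x).asIdeal
    · exact absurd (Groth.EtaleAlgebra.MilnorSpec.exists_left_of_ker_le hs _ hle) hn
    · obtain ⟨j, hj, hjp⟩ := SetLike.not_le_iff_exists.1 hle
      exact Groth.EtaleAlgebra.MilnorSpec.right_injective_of_notMem hs hj hjp hx
  · exact isClosed_compl_iff.1
      (Groth.EtaleAlgebra.MilnorSpec.isClosed_of_preimage hs (isClosed_compl_iff.2 h1) (isClosed_compl_iff.2 h2))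

variable {R' S' T' U' : Type u} [CommRing R'] [CommRing S'] [CommRing T'] [CommRing U']
  {p1' : R' →+* S'} {p2' : R' →+* T'} {q' : S' →+* U'} {p' : T' →+* U'}

/-- Localisation of a fibre square is recognised on the corners. -/
theorem Sq.isLocalization_away (h : Sq p1 p2 q p) (h' : Sq p1' p2' q' p') (r : B')
    (fR : B' →+* R') (fB : B →+* S') (fA : A' →+* T') (fC : A →+* U')
    (c1 : fB.comp p1 = p1'.comp fR) (c2 : fA.comp p2 = p2'.comp fR)
    (c3 : fC.comp q = q'.comp fB) (c4 : fC.comp p = p'.comp fA)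
    (hB : letI := fB.toAlgebra; IsLocalization.Away (p1 r) S')
    (hA : letI := fA.toAlgebra; IsLocalization.Away (p2 r) T')
    (hC : letI := fC.toAlgebra; IsLocalization.Away (q (p1 r)) U') :
    letI := fR.toAlgebra; IsLocalization.Away r R' := by
  letI := fR.toAlgebra
  letI := fB.toAlgebra
  letI := fA.toAlgebra
  letI := fC.toAlgebra
  haveI := hB
  haveI := hA
  haveI := hC
  have e1 := fun x => RingHom.congr_fun c1 x
  have e2 := fun x => RingHom.congr_fun c2 x
  have e3 := fun x => RingHom.congr_fun c3 x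
  have e4 := fun x => RingHom.congr_fun c4 x
  simp only [RingHom.comp_apply] at e1 e2 e3 e4
  have hu : IsUnit (fR r) := by
    obtain ⟨v, hv⟩ := (IsLocalization.Away.algebraMap_isUnit (S := S') (p1 r)).exists_right_inv
    obtain ⟨w, hw⟩ := (IsLocalization.Away.algebraMap_isUnit (S := T') (p2 r)).exists_right_inv
    change fB (p1 r) * v = 1 at hv
    change fA (p2 r) * w = 1 at hw
    have hvw : q' v = p' w := by
      have a1 : fC (q (p1 r)) * q' v = 1 := by rw [e3, ← map_mul, hv, map_one]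
      have a2 : fC (q (p1 r)) * p' w = 1 := by rw [h.comm', e4, ← map_mul, hw, map_one]
      exact left_inv_eq_right_inv ((_root_.mul_comm _ _).trans a1) a2
    obtain ⟨x, ⟨hx1, hx2⟩, -⟩ := h'.exu v w hvw
    refine IsUnit.of_mul_eq_one x (h'.ext ?_ ?_)
    · rw [map_mul, map_one, ← e1, hx1, hv]
    · rw [map_mul, map_one, ← e2, hx2, hw]
  refine IsLocalization.Away.mk r hu (fun z => ?_) (fun x y hxy => ?_)
  · obtain ⟨n, b, hb⟩ := IsLocalization.Away.surj (p1 r) (p1' z)
    obtain ⟨m, a, ha⟩ := IsLocalization.Away.surj (p2 r) (p2' z)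
    change p1' z * fB (p1 r) ^ n = fB b at hb
    change p2' z * fA (p2 r) ^ m = fA a at ha
    have h6 : fC (q (b * p1 r ^ m)) = fC (p (a * p2 r ^ n)) := by
      rw [e3, e4]
      simp only [map_mul, map_pow, ← hb, ← ha, e1, e2]
      rw [h'.comm' z, h'.comm' (fR r)]
      ring
    obtain ⟨⟨_, k, rfl⟩, hk⟩ := (IsLocalization.eq_iff_exists (Submonoid.powers (q (p1 r))) (S := U')).mp h6
    obtain ⟨x, ⟨hx1, hx2⟩, -⟩ := h.exu (p1 r ^ k * (b * p1 r ^ m)) (p2 r ^ k * (a * p2 r ^ n)) (by
      simp only [map_mul, map_pow] at hk ⊢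
      rw [← h.comm' r] at hk ⊢
      exact hk)
    refine ⟨n + m + k, x, h'.ext ?_ ?_⟩
    · change p1' (z * fR r ^ (n + m + k)) = p1' (fR x)
      rw [← e1 x, hx1, map_mul, map_pow, ← e1, map_mul, map_mul, map_pow, map_pow, ← hb]
      ring
    · change p2' (z * fR r ^ (n + m + k)) = p2' (fR x)
      rw [← e2 x, hx2, map_mul, map_pow, ← e2, map_mul, map_mul, map_pow, map_pow, ← ha]
      ring
  · change fR x = fR y at hxy
    have h1 : fB (p1 (x - y)) = 0 := by rw [e1, map_sub, hxy, sub_self, map_zero]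
    have h2 : fA (p2 (x - y)) = 0 := by rw [e2, map_sub, hxy, sub_self, map_zero]
    obtain ⟨⟨_, i, rfl⟩, hi⟩ := (IsLocalization.map_eq_zero_iff (Submonoid.powers (p1 r)) S' _).mp h1
    obtain ⟨⟨_, j, rfl⟩, hj⟩ := (IsLocalization.map_eq_zero_iff (Submonoid.powers (p2 r)) T' _).mp h2
    change p1 r ^ i * p1 (x - y) = 0 at hi
    change p2 r ^ j * p2 (x - y) = 0 at hj
    refine ⟨i + j, ?_⟩
    rw [← sub_eq_zero, ← mul_sub]
    apply h.ext
    · rw [map_mul, map_pow, map_zero, pow_add, _root_.mul_comm (p1 r ^ i), _root_.mul_assoc, hi, mul_zero]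
    · rw [map_mul, map_pow, map_zero, pow_add, _root_.mul_assoc, hj, mul_zero]

end Groth.SpecFerrand
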