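import Mathlib
import Groth.Agent.SpecFerrand.Local

/-!
Tensor product of a fibre square of rings with one surjection: exactness criteria.
-/

set_option autoImplicit false

universe u

open TensorProduct

noncomputable section

namespace Groth.SpecFerrand

variable {C C' B' B A' A : Type u} [CommRing C] [CommRing C'] [CommRing B'] [CommRing B] [CommRing A'] [CommRing A]
  [Algebra C C'] [Algebra C B'] [Algebra C B] [Algebra C A'] [Algebra C A]
  {p1 : B' →ₐ[C] B} {p2 : B' →ₐ[C] A'} {q : B →ₐ[C] A} {p : A' →ₐ[C] A}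

variable (p1 p2) in
/-- The diagonal map into the product. -/
def diagLin : B' →ₗ[C] B × A' := p1.toLinearMap.prod p2.toLinearMap

variable (q p) in
/-- The difference map. -/
def diffLin : B × A' →ₗ[C] A := q.toLinearMap.coprod (-p.toLinearMap)

theorem diffLin_apply (x : B × A') : diffLin q p x = q x.1 - p x.2 := by
  simp [diffLin, sub_eq_add_neg]

theorem diffLin_surjective (h : Sq p1.toRingHom p2.toRingHom q.toRingHom p.toRingHom) :
    Function.Surjective (diffLin q p) := fun d => by
  obtain ⟨a, ha⟩ := h.surj (-d)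
  refine ⟨(0, a), ?_⟩
  rw [diffLin_apply, map_zero, zero_sub]
  exact neg_eq_iff_eq_neg.2 ha

theorem diagLin_injective (h : Sq p1.toRingHom p2.toRingHom q.toRingHom p.toRingHom) :
    Function.Injective (diagLin p1 p2) := fun _ _ e =>
  h.ext congr($(e).1) congr($(e).2)

theorem exact_diag_diff (h : Sq p1.toRingHom p2.toRingHom q.toRingHom p.toRingHom) :
    Function.Exact (diagLin p1 p2) (diffLin q p) := fun x => by
  rw [diffLin_apply, sub_eq_zero]
  refine ⟨fun hx => ?_, ?_⟩
  · obtain ⟨r, ⟨h1, h2⟩, -⟩ := h.exu x.1 x.2 hx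
    exact ⟨r, Prod.ext h1 h2⟩
  · rintro ⟨r, rfl⟩
    exact h.comm' r

variable (C' p1 p2) in
/-- The fibre square stays one after tensoring with `C'`. -/
def TensorExact : Prop := Function.Injective ((diagLin p1 p2).rTensor C')

theorem Sq.baseChange (h : Sq p1.toRingHom p2.toRingHom q.toRingHom p.toRingHom) (hinj : TensorExact C' p1 p2) :
    Sq (Algebra.TensorProduct.map p1 (AlgHom.id C C')).toRingHom
      (Algebra.TensorProduct.map p2 (AlgHom.id C C')).toRingHom
      (Algebra.TensorProduct.map q (AlgHom.id C C')).toRingHom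
      (Algebra.TensorProduct.map p (AlgHom.id C C')).toRingHom := by
  set P1 := Algebra.TensorProduct.map p1 (AlgHom.id C C')
  set P2 := Algebra.TensorProduct.map p2 (AlgHom.id C C')
  set Q := Algebra.TensorProduct.map q (AlgHom.id C C')
  set P := Algebra.TensorProduct.map p (AlgHom.id C C')
  let e := TensorProduct.prodLeft C C B A' C'
  have he1 : ∀ x, e ((diagLin p1 p2).rTensor C' x) = (P1 x, P2 x) := fun x => by
    induction x using TensorProduct.induction_on with
    | zero => simp; rfl
    | tmul r c => rfl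
    | add x y hx hy => simp [hx, hy]
  have he2 : ∀ z, (diffLin q p).rTensor C' z = Q (e z).1 - P (e z).2 := fun z => by
    induction z using TensorProduct.induction_on with
    | zero => simp
    | tmul x c =>
      rw [LinearMap.rTensor_tmul, diffLin_apply, TensorProduct.sub_tmul]
      rfl
    | add x y hx hy => simp only [map_add, hx, hy, Prod.fst_add, Prod.snd_add]; abel
  refine ⟨RingHom.ext fun x => ?_, fun z => ?_, fun b a hba => ?_⟩
  · change Q (P1 x) = P (P2 x)
    rw [← sub_eq_zero, show P1 x = (e ((diagLin p1 p2).rTensor C' x)).1 by rw [he1],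
      show P2 x = (e ((diagLin p1 p2).rTensor C' x)).2 by rw [he1], ← he2, ← LinearMap.comp_apply,
      ← LinearMap.rTensor_comp, (exact_diag_diff h).linearMap_comp_eq_zero]
    simp
  · obtain ⟨w, hw⟩ := LinearMap.rTensor_surjective C' (show Function.Surjective p.toLinearMap from h.surj) z
    refine ⟨w, Eq.trans ?_ hw⟩
    clear hw
    induction w using TensorProduct.induction_on with
    | zero => simp
    | tmul r c => rfl
    | add x y hx hy => simp only [map_add]; exact congrArg₂ (· + ·) hx hy
  · obtain ⟨x, hx⟩ := (rTensor_exact C' (exact_diag_diff h) (diffLin_surjective h) (e.symm (b, a))).1 (by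
      rw [he2, LinearEquiv.apply_symm_apply, sub_eq_zero]; exact hba)
    have hx' : (P1 x, P2 x) = (b, a) := by rw [← he1, hx, LinearEquiv.apply_symm_apply]
    refine ⟨x, ⟨congr($(hx').1), congr($(hx').2)⟩, fun y hy => hinj ?_⟩
    refine e.injective ?_
    rw [he1, he1, hx']
    exact Prod.ext hy.1 hy.2

theorem tensorExact_of_flat_left (h : Sq p1.toRingHom p2.toRingHom q.toRingHom p.toRingHom) [Module.Flat C C'] :
    TensorExact C' p1 p2 :=
  Module.Flat.rTensor_preserves_injective_linearMap _ (diagLin_injective h)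

theorem tensorExact_of_flat_quot (h : Sq p1.toRingHom p2.toRingHom q.toRingHom p.toRingHom) [Module.Flat C A] :
    TensorExact C' p1 p2 := by
  have := LinearMap.lTensor_injective_of_exact_of_flat _ (diffLin_surjective h) _ (diagLin_injective h)
    (exact_diag_diff h) C'
  exact (LinearMap.lTensor_inj_iff_rTensor_inj _ _).1 this

theorem tensorExact_of_retraction (r : B × A' →ₗ[C] B') (hr : r ∘ₗ diagLin p1 p2 = LinearMap.id) :
    TensorExact C' p1 p2 := by
  refine Function.LeftInverse.injective (g := r.rTensor C') fun x => ?_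
  rw [← LinearMap.comp_apply, ← LinearMap.rTensor_comp, hr, LinearMap.rTensor_id]
  rfl

theorem tensorExact_of_section (h : Sq p1.toRingHom p2.toRingHom q.toRingHom p.toRingHom)
    (σ : A →ₗ[C] B × A') (hσ : diffLin q p ∘ₗ σ = LinearMap.id) : TensorExact C' p1 p2 := by
  let L : B × A' →ₗ[C] B × A' := LinearMap.id - σ ∘ₗ diffLin q p
  have hL : ∀ x, L x ∈ LinearMap.range (diagLin p1 p2) := fun x => by
    refine (exact_diag_diff h _).1 ?_
    have e : diffLin q p (σ (diffLin q p x)) = diffLin q p x := LinearMap.congr_fun hσ _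
    simp [L, map_sub, e]
  refine tensorExact_of_retraction
    (p1 := p1) (p2 := p2) ((LinearEquiv.ofInjective (diagLin p1 p2) (diagLin_injective h)).symm.toLinearMap ∘ₗ
      L.codRestrict (LinearMap.range (diagLin p1 p2)) hL) ?_
  ext x : 1
  change (LinearEquiv.ofInjective (diagLin p1 p2) (diagLin_injective h)).symm
      (L.codRestrict (LinearMap.range (diagLin p1 p2)) hL (diagLin p1 p2 x)) = x
  rw [LinearEquiv.symm_apply_eq]
  refine Subtype.ext ?_
  change L (diagLin p1 p2 x) = diagLin p1 p2 x
  have e : diffLin q p (diagLin p1 p2 x) = 0 := (exact_diag_diff h).apply_apply_eq_zero x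
  simp [L, e]

theorem tensorExact_of_coker_projective (h : Sq p1.toRingHom p2.toRingHom q.toRingHom p.toRingHom)
    (hq : Function.Injective q) [Module.Projective C (A ⧸ LinearMap.range q.toLinearMap)] :
    TensorExact C' p1 p2 := by
  set N := LinearMap.range q.toLinearMap
  obtain ⟨s, hs⟩ := Module.projective_lifting_property (N.mkQ ∘ₗ p.toLinearMap) LinearMap.id
    ((N.mkQ_surjective).comp h.surj)
  let m : A →ₗ[C] A := LinearMap.id - p.toLinearMap ∘ₗ s ∘ₗ N.mkQ
  have hm : ∀ d, m d ∈ N := fun d => by
    rw [← Submodule.Quotient.mk_eq_zero]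
    have e : N.mkQ (p (s (N.mkQ d))) = N.mkQ d := LinearMap.congr_fun hs _
    change N.mkQ (d - p (s (N.mkQ d))) = 0
    rw [map_sub, e, sub_self]
  let β : A →ₗ[C] B := (LinearEquiv.ofInjective q.toLinearMap hq).symm.toLinearMap ∘ₗ m.codRestrict N hm
  refine tensorExact_of_section h (β.prod (-(s ∘ₗ N.mkQ))) (LinearMap.ext fun d => ?_)
  have e : q (β d) = m d := by
    exact congrArg Subtype.val ((LinearEquiv.ofInjective q.toLinearMap hq).apply_symm_apply ⟨m d, hm d⟩)
  change diffLin q p (β d, -(s (N.mkQ d))) = d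
  rw [diffLin_apply, e, map_neg, sub_neg_eq_add]
  exact sub_add_cancel d _

end Groth.SpecFerrand
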