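import Mathlib
import Groth.Agent.SpecFerrand.Local

/-!
Pushout of a closed immersion along an affine morphism, glued from affine Ferrand squares.
-/

set_option autoImplicit false

universe u

open CategoryTheory CategoryTheory.Limits AlgebraicGeometry TopologicalSpace Opposite

noncomputable section

namespace Groth.SpecFerrand.Glue

variable {X Y Z : Scheme.{u}}

/-- A pair of affine opens with the same preimage. -/
structure GoodPair (i : Z ⟶ X) (j : Z ⟶ Y) where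
  /-- open of `X` -/
  U : X.Opens
  /-- open of `Y` -/
  V : Y.Opens
  affU : IsAffineOpen U
  affV : IsAffineOpen V
  eq : i ⁻¹ᵁ U = j ⁻¹ᵁ V

variable {i : Z ⟶ X} {j : Z ⟶ Y}

instance : Preorder (GoodPair i j) where
  le k l := k.U ≤ l.U ∧ k.V ≤ l.V
  le_refl _ := ⟨le_rfl, le_rfl⟩
  le_trans _ _ _ h h' := ⟨h.1.trans h'.1, h.2.trans h'.2⟩

namespace GoodPair

variable (k l : GoodPair i j)

/-- the common preimage -/
abbrev W : Z.Opens := j ⁻¹ᵁ k.V

/-- `Γ(U) → Γ(W)` -/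
abbrev pX : Γ(X, k.U) ⟶ Γ(Z, k.W) := i.appLE k.U k.W k.eq.ge

/-- `Γ(V) → Γ(W)` -/
abbrev pY : Γ(Y, k.V) ⟶ Γ(Z, k.W) := j.appLE k.V k.W le_rfl

/-- the fibre product ring -/
def R : Subring (Γ(Y, k.V) × Γ(X, k.U)) :=
  (k.pY.hom.comp (RingHom.fst _ _)).eqLocus (k.pX.hom.comp (RingHom.snd _ _))

/-- first projection -/
def prY : k.R →+* Γ(Y, k.V) := (RingHom.fst _ _).comp k.R.subtype

/-- second projection -/
def prX : k.R →+* Γ(X, k.U) := (RingHom.snd _ _).comp k.R.subtype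

variable [IsClosedImmersion i]

theorem pX_surjective : Function.Surjective k.pX.hom := by
  intro w
  haveI : IsIso (homOfLE k.eq.ge) := ⟨⟨homOfLE k.eq.le, rfl, rfl⟩⟩
  have hb : Function.Surjective (Z.presheaf.map (homOfLE k.eq.ge).op) :=
    (ConcreteCategory.bijective_of_isIso _).2
  obtain ⟨v, hv⟩ := hb w
  obtain ⟨u, rfl⟩ := i.app_surjective k.U k.affU v
  exact ⟨u, hv⟩

theorem sq : Sq k.prY k.prX k.pY.hom k.pX.hom :=
  ⟨RingHom.ext fun x => x.2, k.pX_surjective,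
    fun b a h => ⟨⟨(b, a), h⟩, ⟨rfl, rfl⟩, fun _ hy => Subtype.ext (Prod.ext hy.1 hy.2)⟩⟩

variable {k l}

theorem W_mono (h : k ≤ l) : k.W ≤ l.W := j.preimage_mono h.2

theorem pX_res (h : k ≤ l) (a : Γ(X, l.U)) :
    k.pX (X.presheaf.map (homOfLE h.1).op a) = Z.presheaf.map (homOfLE (W_mono h)).op (l.pX a) := by
  rw [← CommRingCat.comp_apply, ← CommRingCat.comp_apply, Scheme.Hom.map_appLE, Scheme.Hom.appLE_map]

theorem pY_res (h : k ≤ l) (b : Γ(Y, l.V)) :
    k.pY (Y.presheaf.map (homOfLE h.2).op b) = Z.presheaf.map (homOfLE (W_mono h)).op (l.pY b) := by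
  rw [← CommRingCat.comp_apply, ← CommRingCat.comp_apply, Scheme.Hom.map_appLE, Scheme.Hom.appLE_map]

/-- restriction -/
def res (h : k ≤ l) : l.R →+* k.R :=
  RingHom.restrict ((Y.presheaf.map (homOfLE h.2).op).hom.prodMap (X.presheaf.map (homOfLE h.1).op).hom)
    l.R k.R fun r hr => by
      change k.pY (Y.presheaf.map (homOfLE h.2).op r.1) = k.pX (X.presheaf.map (homOfLE h.1).op r.2)
      rw [pY_res h, pX_res h]
      exact congrArg _ hr

theorem prY_res (h : k ≤ l) :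
    k.prY.comp (res h) = (Y.presheaf.map (homOfLE h.2).op).hom.comp l.prY := rfl

theorem prX_res (h : k ≤ l) :
    k.prX.comp (res h) = (X.presheaf.map (homOfLE h.1).op).hom.comp l.prX := rfl

variable (k l)

/-- the chart -/
abbrev ch : Scheme.{u} := Spec (CommRingCat.of k.R)

/-- `U → chart` -/
abbrev ιX : Spec Γ(X, k.U) ⟶ k.ch := Sp k.prX

/-- `V → chart` -/
abbrev ιY : Spec Γ(Y, k.V) ⟶ k.ch := Sp k.prY

/-- the point of `X` -/
abbrev fX : Spec Γ(X, k.U) ⟶ X := k.affU.fromSpec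

/-- the point of `Y` -/
abbrev fY : Spec Γ(Y, k.V) ⟶ Y := k.affV.fromSpec

variable {k l}

/-- transition -/
def tr (h : k ≤ l) : k.ch ⟶ l.ch := Sp (res h)

theorem ιX_tr (h : k ≤ l) : k.ιX ≫ tr h = Spec.map (X.presheaf.map (homOfLE h.1).op) ≫ l.ιX := by
  rw [tr, ιX, ιX, Sp_comp, prX_res]
  exact (Sp_comp _ _).symm

theorem ιY_tr (h : k ≤ l) : k.ιY ≫ tr h = Spec.map (Y.presheaf.map (homOfLE h.2).op) ≫ l.ιY := by
  rw [tr, ιY, ιY, Sp_comp, prY_res]
  exact (Sp_comp _ _).symm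

variable (k l)

/-- Points of the chart over a pair of opens. -/
def sat (U₀ : X.Opens) (V₀ : Y.Opens) : Set k.ch :=
  {Q | (∀ x, k.ιX x = Q → k.fX x ∈ U₀) ∧ ∀ y, k.ιY y = Q → k.fY y ∈ V₀}

variable [IsAffineHom j]

theorem affW : IsAffineOpen k.W := k.affV.preimage j

theorem fX_pX : Spec.map k.pX ≫ k.fX = k.affW.fromSpec ≫ i :=
  IsAffineOpen.SpecMap_appLE_fromSpec i k.affU k.affW k.eq.ge

theorem fY_pY : Spec.map k.pY ≫ k.fY = k.affW.fromSpec ≫ j :=
  IsAffineOpen.SpecMap_appLE_fromSpec j k.affV k.affW le_rfl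

theorem overlap {x : Spec Γ(X, k.U)} {y : Spec Γ(Y, k.V)} (h : k.ιY y = k.ιX x) :
    ∃ z : Z, z ∈ k.W ∧ i z = k.fX x ∧ j z = k.fY y := by
  obtain ⟨w, hw1, hw2⟩ := k.sq.topology.1 y x h
  refine ⟨k.affW.fromSpec w, ?_, ?_, ?_⟩
  · have : k.affW.fromSpec w ∈ Set.range k.affW.fromSpec := ⟨w, rfl⟩
    rwa [IsAffineOpen.range_fromSpec] at this
  · rw [← Scheme.Hom.comp_apply, ← k.fX_pX, Scheme.Hom.comp_apply]
    exact congrArg k.fX hw2
  · rw [← Scheme.Hom.comp_apply, ← k.fY_pY, Scheme.Hom.comp_apply]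
    exact congrArg k.fY hw1

variable {U₀ : X.Opens} {V₀ : Y.Opens}

theorem ιY_injective : Function.Injective k.ιY := k.sq.comap_fst_injective

theorem memY (h₀ : i ⁻¹ᵁ U₀ = j ⁻¹ᵁ V₀) {y : Spec Γ(Y, k.V)} (hy : k.fY y ∈ V₀) : k.ιY y ∈ k.sat U₀ V₀ := by
  refine ⟨fun x hx => ?_, fun y' hy' => by rw [k.ιY_injective hy']; exact hy⟩
  obtain ⟨z, -, hzx, hzy⟩ := k.overlap hx.symm
  rw [← hzx]
  have : z ∈ j ⁻¹ᵁ V₀ := by show j z ∈ V₀; rw [hzy]; exact hy
  rw [← h₀] at this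
  exact this

theorem memX (h₀ : i ⁻¹ᵁ U₀ = j ⁻¹ᵁ V₀) {x : Spec Γ(X, k.U)} (hx : k.fX x ∈ U₀) : k.ιX x ∈ k.sat U₀ V₀ := by
  by_cases hr : k.ιX x ∈ Set.range k.ιY
  · obtain ⟨y, hy⟩ := hr
    obtain ⟨z, -, hzx, hzy⟩ := k.overlap hy
    rw [← hy]
    refine k.memY h₀ ?_
    have : z ∈ i ⁻¹ᵁ U₀ := by show i z ∈ U₀; rw [hzx]; exact hx
    rw [h₀] at this
    rw [← hzy]
    exact this
  · refine ⟨fun x' hx' => ?_, fun y hy => absurd ⟨y, hy⟩ hr⟩
    rw [← k.sq.topology.2.1 x x' hx'.symm hr]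
    exact hx

theorem jointly_surjective (Q : k.ch) : (∃ y, k.ιY y = Q) ∨ ∃ x, k.ιX x = Q := (top_facts k.sq).1 Q

theorem isOpen_sat (h₀ : i ⁻¹ᵁ U₀ = j ⁻¹ᵁ V₀) : IsOpen (k.sat U₀ V₀) := by
  refine k.sq.topology.2.2 _ ?_ ?_
  · have e : k.ιY ⁻¹' k.sat U₀ V₀ = (k.fY ⁻¹ᵁ V₀ : Set _) :=
      Set.ext fun y => ⟨fun h => h.2 y rfl, fun h => k.memY h₀ h⟩
    exact (congrArg IsOpen e).mpr (k.fY ⁻¹ᵁ V₀).2
  · have e : k.ιX ⁻¹' k.sat U₀ V₀ = (k.fX ⁻¹ᵁ U₀ : Set _) :=
      Set.ext fun x => ⟨fun h => h.1 x rfl, fun h => k.memX h₀ h⟩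
    exact (congrArg IsOpen e).mpr (k.fX ⁻¹ᵁ U₀).2

theorem basic_eq (r : k.R) : i ⁻¹ᵁ X.basicOpen r.1.2 = j ⁻¹ᵁ Y.basicOpen r.1.1 := by
  have e : k.pY r.1.1 = k.pX r.1.2 := r.2
  haveI : IsIso (homOfLE k.eq.ge) := ⟨⟨homOfLE k.eq.le, rfl, rfl⟩⟩
  rw [Scheme.preimage_basicOpen, Scheme.preimage_basicOpen]
  rw [show j.app k.V r.1.1 = k.pY r.1.1 by simp [pY, Scheme.Hom.appLE], e]
  exact (Scheme.basicOpen_res_eq _ _ (homOfLE k.eq.ge).op).symm

/-- The basic pair of an element. -/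
def basic (r : k.R) : GoodPair i j where
  U := X.basicOpen r.1.2
  V := Y.basicOpen r.1.1
  affU := k.affU.basicOpen _
  affV := k.affV.basicOpen _
  eq := k.basic_eq r

theorem basic_le (r : k.R) : k.basic r ≤ k := ⟨X.basicOpen_le _, Y.basicOpen_le _⟩

variable {k l}

theorem isLocalization_res (h : k ≤ l) (r : l.R) (hU : k.U = X.basicOpen r.1.2) (hV : k.V = Y.basicOpen r.1.1) :
    letI := (res h).toAlgebra; IsLocalization.Away r k.R := by
  refine Sq.isLocalization_away l.sq k.sq r (res h) (Y.presheaf.map (homOfLE h.2).op).hom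
    (X.presheaf.map (homOfLE h.1).op).hom (Z.presheaf.map (homOfLE (W_mono h)).op).hom rfl rfl
    (RingHom.ext fun b => (pY_res h b).symm) (RingHom.ext fun a => (pX_res h a).symm) ?_ ?_ ?_
  · exact l.affV.isLocalization_of_eq_basicOpen r.1.1 (homOfLE h.2) hV
  · exact l.affU.isLocalization_of_eq_basicOpen r.1.2 (homOfLE h.1) hU
  · refine l.affW.isLocalization_of_eq_basicOpen (l.pY r.1.1) (homOfLE (W_mono h)) ?_
    change j ⁻¹ᵁ k.V = _
    rw [hV, Scheme.preimage_basicOpen, show j.app l.V r.1.1 = l.pY r.1.1 by simp [pY, Scheme.Hom.appLE]]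

theorem isOpenImmersion_tr_basic (h : k ≤ l) (r : l.R) (hU : k.U = X.basicOpen r.1.2)
    (hV : k.V = Y.basicOpen r.1.1) :
    IsOpenImmersion (tr h) ∧ Set.range (tr h) = (PrimeSpectrum.basicOpen r : Set (PrimeSpectrum l.R)) := by
  letI := (res h).toAlgebra
  haveI : IsLocalization.Away r k.R := isLocalization_res h r hU hV
  exact ⟨IsOpenImmersion.of_isLocalization r, PrimeSpectrum.localization_away_comap_range k.R r⟩

theorem fX_tr (h : k ≤ l) (x : Spec Γ(X, k.U)) :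
    l.fX (Spec.map (X.presheaf.map (homOfLE h.1).op) x) = k.fX x := by
  rw [← Scheme.Hom.comp_apply, fX, fX, IsAffineOpen.map_fromSpec]

theorem fY_tr (h : k ≤ l) (y : Spec Γ(Y, k.V)) :
    l.fY (Spec.map (Y.presheaf.map (homOfLE h.2).op) y) = k.fY y := by
  rw [← Scheme.Hom.comp_apply, fY, fY, IsAffineOpen.map_fromSpec]

theorem fX_mem (k : GoodPair i j) (x : Spec Γ(X, k.U)) : k.fX x ∈ k.U := by
  have : k.fX x ∈ Set.range k.fX := ⟨x, rfl⟩
  rwa [fX, IsAffineOpen.range_fromSpec] at this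

theorem fY_mem (k : GoodPair i j) (y : Spec Γ(Y, k.V)) : k.fY y ∈ k.V := by
  have : k.fY y ∈ Set.range k.fY := ⟨y, rfl⟩
  rwa [fY, IsAffineOpen.range_fromSpec] at this

theorem tr_mem_sat (h : k ≤ l) (P : k.ch) : tr h P ∈ l.sat k.U k.V := by
  rcases k.jointly_surjective P with ⟨y, rfl⟩ | ⟨x, rfl⟩
  · rw [← Scheme.Hom.comp_apply, ιY_tr h, Scheme.Hom.comp_apply]
    refine l.memY k.eq ?_
    rw [fY_tr h]
    exact fY_mem k y
  · rw [← Scheme.Hom.comp_apply, ιX_tr h, Scheme.Hom.comp_apply]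
    refine l.memX k.eq ?_
    rw [fX_tr h]
    exact fX_mem k x

theorem exists_basic_le (l : GoodPair i j) (h₀ : i ⁻¹ᵁ U₀ = j ⁻¹ᵁ V₀) {Q : l.ch} (hQ : Q ∈ l.sat U₀ V₀) :
    ∃ r : l.R, Q ∈ (PrimeSpectrum.basicOpen r : Set (PrimeSpectrum l.R)) ∧
      (l.basic r).U ≤ U₀ ∧ (l.basic r).V ≤ V₀ := by
  obtain ⟨_, ⟨r, rfl⟩, hQr, hr⟩ :=
    PrimeSpectrum.isTopologicalBasis_basic_opens.exists_subset_of_mem_open hQ (l.isOpen_sat h₀)
  refine ⟨r, hQr, fun u hu => ?_, fun v hv => ?_⟩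
  · obtain ⟨x, rfl⟩ : u ∈ Set.range l.fX := by
      rw [fX, IsAffineOpen.range_fromSpec]; exact X.basicOpen_le _ hu
    refine (hr ?_).1 x rfl
    have : x ∈ l.fX ⁻¹ᵁ X.basicOpen r.1.2 := hu
    rw [l.affU.fromSpec_preimage_basicOpen] at this
    exact this
  · obtain ⟨y, rfl⟩ : v ∈ Set.range l.fY := by
      rw [fY, IsAffineOpen.range_fromSpec]; exact Y.basicOpen_le _ hv
    refine (hr ?_).2 y rfl
    have : y ∈ l.fY ⁻¹ᵁ Y.basicOpen r.1.1 := hv
    rw [l.affV.fromSpec_preimage_basicOpen] at this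
    exact this

theorem tr_tr {m : GoodPair i j} (h : k ≤ l) (h' : l ≤ m) : tr h ≫ tr h' = tr (h.trans h') := by
  rw [tr, tr, tr, Sp_comp]
  refine congrArg Sp (RingHom.ext fun r => Subtype.ext (Prod.ext ?_ ?_))
  · exact congr($(Y.presheaf.map_comp (homOfLE h'.2).op (homOfLE h.2).op).hom r.1.1).symm
  · exact congr($(X.presheaf.map_comp (homOfLE h'.1).op (homOfLE h.1).op).hom r.1.2).symm

theorem isOpenImmersion_tr (h : k ≤ l) : IsOpenImmersion (tr h) := by
  have key : ∀ P : k.ch, ∃ m : GoodPair i j, ∃ (hk : m ≤ k) (hl : m ≤ l) (r : l.R),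
      IsOpenImmersion (tr hk) ∧ IsOpenImmersion (tr hl) ∧
      Set.range (tr hk) = (PrimeSpectrum.basicOpen (res h r) : Set (PrimeSpectrum k.R)) ∧
      tr h P ∈ (PrimeSpectrum.basicOpen r : Set (PrimeSpectrum l.R)) := by
    intro P
    obtain ⟨r, hQ, hU, hV⟩ := l.exists_basic_le k.eq (tr_mem_sat h P)
    have hU' : (l.basic r).U = X.basicOpen (res h r).1.2 := by
      change _ = X.basicOpen (X.presheaf.map (homOfLE h.1).op r.1.2)
      rw [Scheme.basicOpen_res]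
      exact (inf_eq_right.mpr hU).symm
    have hV' : (l.basic r).V = Y.basicOpen (res h r).1.1 := by
      change _ = Y.basicOpen (Y.presheaf.map (homOfLE h.2).op r.1.1)
      rw [Scheme.basicOpen_res]
      exact (inf_eq_right.mpr hV).symm
    obtain ⟨hk1, hk2⟩ := isOpenImmersion_tr_basic (k := l.basic r) ⟨hU, hV⟩ (res h r) hU' hV'
    exact ⟨l.basic r, ⟨hU, hV⟩, l.basic_le r, r, hk1,
      (isOpenImmersion_tr_basic (l.basic_le r) r rfl rfl).1, hk2, hQ⟩
  refine IsOpenImmersion.of_forall_source_exists _ (fun P P' hPP => ?_) fun P => ?_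
  · obtain ⟨m, hk, hl, r, -, hlo, hrange, hmem⟩ := key P
    have h1 : P ∈ Set.range (tr hk) := by rw [hrange]; exact hmem
    have h2 : P' ∈ Set.range (tr hk) := by rw [hPP] at hmem; rw [hrange]; exact hmem
    obtain ⟨a, rfl⟩ := h1
    obtain ⟨b, rfl⟩ := h2
    rw [← Scheme.Hom.comp_apply, ← Scheme.Hom.comp_apply, tr_tr hk h] at hPP
    haveI := hlo
    rw [(tr hl).isOpenEmbedding.injective hPP]
  · obtain ⟨m, hk, hl, r, hko, hlo, hrange, hmem⟩ := key P
    refine ⟨m.ch, tr hk, hko, ?_, ?_⟩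
    · change P ∈ Set.range (tr hk)
      rw [hrange]; exact hmem
    · rw [tr_tr hk h]; exact hlo

end GoodPair

open GoodPair

variable (i j) [IsClosedImmersion i] [IsAffineHom j]

/-- The diagram of charts. -/
def diagram : GoodPair i j ⥤ Scheme.{u} where
  obj k := k.ch
  map f := tr f.le
  map_id k := by
    refine (congrArg Sp (RingHom.ext fun r => Subtype.ext (Prod.ext ?_ ?_))).trans (Spec.map_id _)
    · exact congr($(Y.presheaf.map_id (op k.V)).hom r.1.1)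
    · exact congr($(X.presheaf.map_id (op k.U)).hom r.1.2)
  map_comp f g := (tr_tr f.le g.le).symm

instance {k l : GoodPair i j} (f : k ⟶ l) : IsOpenImmersion ((diagram i j).map f) :=
  isOpenImmersion_tr f.le

instance : (diagram i j ⋙ Scheme.forget).IsLocallyDirected where
  cond := by
    intro k₁ k₂ l f₁ f₂ x₁ x₂ hx
    change tr f₁.le x₁ = tr f₂.le x₂ at hx
    have h₀ : i ⁻¹ᵁ (k₁.U ⊓ k₂.U) = j ⁻¹ᵁ (k₁.V ⊓ k₂.V) := by
      rw [Scheme.Hom.preimage_inf, Scheme.Hom.preimage_inf, k₁.eq, k₂.eq]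
    have hQ : tr f₁.le x₁ ∈ l.sat (k₁.U ⊓ k₂.U) (k₁.V ⊓ k₂.V) :=
      ⟨fun x h => ⟨(tr_mem_sat f₁.le x₁).1 x h, (tr_mem_sat f₂.le x₂).1 x (h.trans hx)⟩,
       fun y h => ⟨(tr_mem_sat f₁.le x₁).2 y h, (tr_mem_sat f₂.le x₂).2 y (h.trans hx)⟩⟩
    obtain ⟨r, hr, hU, hV⟩ := l.exists_basic_le h₀ hQ
    have h1 : l.basic r ≤ k₁ := ⟨hU.trans inf_le_left, hV.trans inf_le_left⟩
    have h2 : l.basic r ≤ k₂ := ⟨hU.trans inf_le_right, hV.trans inf_le_right⟩
    obtain ⟨P, hP⟩ : tr f₁.le x₁ ∈ Set.range (tr (l.basic_le r)) := by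
      rw [(isOpenImmersion_tr_basic (l.basic_le r) r rfl rfl).2]; exact hr
    refine ⟨l.basic r, homOfLE h1, homOfLE h2, P, ?_, ?_⟩
    · haveI := isOpenImmersion_tr f₁.le
      refine (tr f₁.le).isOpenEmbedding.injective ?_
      refine Eq.trans ?_ hP
      change tr f₁.le (tr h1 P) = _
      rw [← Scheme.Hom.comp_apply, tr_tr]
    · haveI := isOpenImmersion_tr f₂.le
      refine (tr f₂.le).isOpenEmbedding.injective ?_
      refine Eq.trans ?_ (hP.trans hx)
      change tr f₂.le (tr h2 P) = _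
      rw [← Scheme.Hom.comp_apply, tr_tr]

/-- The pushout. -/
def P : Scheme.{u} := colimit (diagram i j)

/-- A chart of the pushout. -/
def ιc (k : GoodPair i j) : k.ch ⟶ P i j := colimit.ι (diagram i j) k

instance (k : GoodPair i j) : IsOpenImmersion (ιc i j k) :=
  inferInstanceAs (IsOpenImmersion (colimit.ι (diagram i j) k))

variable {i j}

theorem tr_ιc {k l : GoodPair i j} (h : k ≤ l) : tr h ≫ ιc i j l = ιc i j k :=
  colimit.w (diagram i j) (homOfLE h)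

theorem mem_sat_of_ιc_eq {k l : GoodPair i j} {Qk : k.ch} {Ql : l.ch} (h : ιc i j k Qk = ιc i j l Ql) :
    Ql ∈ l.sat k.U k.V := by
  obtain ⟨m, fk, fl, Q, -, hl⟩ := (Scheme.IsLocallyDirected.ι_eq_ι_iff _).mp h
  rw [← hl]
  exact ⟨fun x hx => fk.le.1 ((tr_mem_sat fl.le Q).1 x hx), fun y hy => fk.le.2 ((tr_mem_sat fl.le Q).2 y hy)⟩

theorem hom_ext_P {T : Scheme.{u}} {g g' : P i j ⟶ T} (h : ∀ k, ιc i j k ≫ g = ιc i j k ≫ g') : g = g' :=
  colimit.hom_ext h

theorem jointly_surjective_P (p : P i j) : ∃ k Q, ιc i j k Q = p :=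
  Scheme.IsLocallyDirected.ι_jointly_surjective _ p

variable (i j) in
/-- Enough good pairs. -/
def Covers : Prop := ∀ y : Y, ∃ k : GoodPair i j, y ∈ k.V

variable (hc : Covers i j)

include hc in
theorem exists_mem_U (x : X) : ∃ k : GoodPair i j, x ∈ k.U := by
  by_cases hx : x ∈ Set.range i
  · obtain ⟨z, rfl⟩ := hx
    obtain ⟨k, hk⟩ := hc (j z)
    have : z ∈ i ⁻¹ᵁ k.U := by rw [k.eq]; exact hk
    exact ⟨k, this⟩
  · obtain ⟨_, ⟨U, hU, rfl⟩, hxU, hUi⟩ :=
      X.isBasis_affineOpens.exists_subset_of_mem_open (show x ∈ (Set.range i)ᶜ from hx)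
        i.isClosedEmbedding.isClosed_range.isOpen_compl
    refine ⟨⟨U, ⊥, hU, isAffineOpen_bot Y, ?_⟩, hxU⟩
    ext z
    exact ⟨fun hz => (hUi hz ⟨z, rfl⟩).elim, fun hz => hz.elim⟩

/-- The cover of `X`. -/
def coverX : X.OpenCover :=
  Scheme.Cover.mkOfCovers (P := @IsOpenImmersion) (GoodPair i j) (fun k => Spec Γ(X, k.U)) (fun k => k.fX)
    (fun x => by
      obtain ⟨k, hk⟩ := exists_mem_U hc x
      refine ⟨k, ?_⟩
      rw [← SetLike.mem_coe, ← k.affU.range_fromSpec] at hk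
      exact hk) fun k => k.affU.isOpenImmersion_fromSpec

/-- The cover of `Y`. -/
def coverY : Y.OpenCover :=
  Scheme.Cover.mkOfCovers (P := @IsOpenImmersion) (GoodPair i j) (fun k => Spec Γ(Y, k.V)) (fun k => k.fY)
    (fun y => by
      obtain ⟨k, hk⟩ := hc y
      refine ⟨k, ?_⟩
      rw [← SetLike.mem_coe, ← k.affV.range_fromSpec] at hk
      exact hk) fun k => k.affV.isOpenImmersion_fromSpec

theorem compatX (k l : GoodPair i j) :
    pullback.fst k.fX l.fX ≫ k.ιX ≫ ιc i j k = pullback.snd k.fX l.fX ≫ l.ιX ≫ ιc i j l := by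
  haveI := k.affU.isOpenImmersion_fromSpec
  haveI := l.affU.isOpenImmersion_fromSpec
  let c : pullback k.fX l.fX ⟶ X := pullback.fst _ _ ≫ k.fX
  have hex : ∀ w, ∃ (m : GoodPair i j) (_ : m ≤ k) (_ : m ≤ l), c w ∈ m.U := by
    intro w
    have h1 : c w ∈ k.U := fX_mem k _
    have h2 : c w ∈ l.U := by
      show (pullback.fst k.fX l.fX ≫ k.fX) w ∈ l.U
      rw [pullback.condition]
      exact fX_mem l _
    have h₀ : i ⁻¹ᵁ (k.U ⊓ l.U) = j ⁻¹ᵁ (k.V ⊓ l.V) := by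
      rw [Scheme.Hom.preimage_inf, Scheme.Hom.preimage_inf, k.eq, l.eq]
    have hsat := k.memX h₀ (x := pullback.fst k.fX l.fX w) ⟨h1, h2⟩
    obtain ⟨r, hr, hU, hV⟩ := k.exists_basic_le h₀ hsat
    refine ⟨k.basic r, k.basic_le r, ⟨hU.trans inf_le_right, hV.trans inf_le_right⟩, ?_⟩
    change k.fX (pullback.fst k.fX l.fX w) ∈ X.basicOpen r.1.2
    have : pullback.fst k.fX l.fX w ∈ k.fX ⁻¹ᵁ X.basicOpen r.1.2 := by
      rw [k.affU.fromSpec_preimage_basicOpen]; exact hr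
    exact this
  choose m hmk hml hm using hex
  have hlift : ∀ w, Set.range (m w).fX ⊆ Set.range c := by
    intro w
    rintro _ ⟨x, rfl⟩
    have hk : (m w).fX x ∈ Set.range k.fX := by
      rw [GoodPair.fX, GoodPair.fX, IsAffineOpen.range_fromSpec]; exact (hmk w).1 (fX_mem _ x)
    have hl : (m w).fX x ∈ Set.range l.fX := by
      rw [GoodPair.fX, GoodPair.fX, IsAffineOpen.range_fromSpec]; exact (hml w).1 (fX_mem _ x)
    obtain ⟨a, ha⟩ := hk
    obtain ⟨b, hb⟩ := hl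
    obtain ⟨t, ht, -⟩ := Scheme.Pullback.exists_preimage_pullback a b (ha.trans hb.symm)
    exact ⟨t, by rw [Scheme.Hom.comp_apply, ht, ha]⟩
  let lw : ∀ w, Spec Γ(X, (m w).U) ⟶ pullback k.fX l.fX := fun w => IsOpenImmersion.lift c _ (hlift w)
  have hlw : ∀ w, lw w ≫ pullback.fst k.fX l.fX ≫ k.fX = (m w).fX := fun w => IsOpenImmersion.lift_fac _ _ _
  have hlwo : ∀ w, IsOpenImmersion (lw w) := fun w => by
    haveI := (m w).affU.isOpenImmersion_fromSpec
    haveI : IsOpenImmersion (lw w ≫ c) := by rw [IsOpenImmersion.lift_fac]; infer_instance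
    exact IsOpenImmersion.of_comp _ c
  refine (Scheme.Cover.mkOfCovers (P := @IsOpenImmersion) (↥(pullback k.fX l.fX))
    (fun w => Spec Γ(X, (m w).U)) lw (fun w => ⟨w, by
      obtain ⟨x, hx⟩ : c w ∈ Set.range (m w).fX := by
        rw [GoodPair.fX, IsAffineOpen.range_fromSpec]; exact hm w
      refine ⟨x, c.isOpenEmbedding.injective ?_⟩
      rw [← Scheme.Hom.comp_apply, IsOpenImmersion.lift_fac]
      exact hx⟩) hlwo).hom_ext _ _ fun w => ?_
  change lw w ≫ _ = lw w ≫ _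
  have e1 : lw w ≫ pullback.fst k.fX l.fX = Spec.map (X.presheaf.map (homOfLE (hmk w).1).op) := by
    rw [← cancel_mono k.fX, Category.assoc, hlw, GoodPair.fX, GoodPair.fX, IsAffineOpen.map_fromSpec]
  have e2 : lw w ≫ pullback.snd k.fX l.fX = Spec.map (X.presheaf.map (homOfLE (hml w).1).op) := by
    rw [← cancel_mono l.fX, Category.assoc, ← pullback.condition, hlw, GoodPair.fX, GoodPair.fX,
      IsAffineOpen.map_fromSpec]
  rw [reassoc_of% e1, reassoc_of% e2, ← Category.assoc, ← ιX_tr (hmk w), ← Category.assoc _ l.ιX,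
    ← ιX_tr (hml w), Category.assoc, Category.assoc, tr_ιc, tr_ιc]

theorem compatY (k l : GoodPair i j) :
    pullback.fst k.fY l.fY ≫ k.ιY ≫ ιc i j k = pullback.snd k.fY l.fY ≫ l.ιY ≫ ιc i j l := by
  haveI := k.affV.isOpenImmersion_fromSpec
  haveI := l.affV.isOpenImmersion_fromSpec
  let c : pullback k.fY l.fY ⟶ Y := pullback.fst _ _ ≫ k.fY
  have hex : ∀ w, ∃ (m : GoodPair i j) (_ : m ≤ k) (_ : m ≤ l), c w ∈ m.V := by
    intro w
    have h1 : c w ∈ k.V := fY_mem k _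
    have h2 : c w ∈ l.V := by
      show (pullback.fst k.fY l.fY ≫ k.fY) w ∈ l.V
      rw [pullback.condition]
      exact fY_mem l _
    have h₀ : i ⁻¹ᵁ (k.U ⊓ l.U) = j ⁻¹ᵁ (k.V ⊓ l.V) := by
      rw [Scheme.Hom.preimage_inf, Scheme.Hom.preimage_inf, k.eq, l.eq]
    have hsat := k.memY h₀ (y := pullback.fst k.fY l.fY w) ⟨h1, h2⟩
    obtain ⟨r, hr, hU, hV⟩ := k.exists_basic_le h₀ hsat
    refine ⟨k.basic r, k.basic_le r, ⟨hU.trans inf_le_right, hV.trans inf_le_right⟩, ?_⟩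
    change k.fY (pullback.fst k.fY l.fY w) ∈ Y.basicOpen r.1.1
    have : pullback.fst k.fY l.fY w ∈ k.fY ⁻¹ᵁ Y.basicOpen r.1.1 := by
      rw [k.affV.fromSpec_preimage_basicOpen]; exact hr
    exact this
  choose m hmk hml hm using hex
  have hlift : ∀ w, Set.range (m w).fY ⊆ Set.range c := by
    intro w
    rintro _ ⟨x, rfl⟩
    have hk : (m w).fY x ∈ Set.range k.fY := by
      rw [GoodPair.fY, GoodPair.fY, IsAffineOpen.range_fromSpec]; exact (hmk w).2 (fY_mem _ x)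
    have hl : (m w).fY x ∈ Set.range l.fY := by
      rw [GoodPair.fY, GoodPair.fY, IsAffineOpen.range_fromSpec]; exact (hml w).2 (fY_mem _ x)
    obtain ⟨a, ha⟩ := hk
    obtain ⟨b, hb⟩ := hl
    obtain ⟨t, ht, -⟩ := Scheme.Pullback.exists_preimage_pullback a b (ha.trans hb.symm)
    exact ⟨t, by rw [Scheme.Hom.comp_apply, ht, ha]⟩
  let lw : ∀ w, Spec Γ(Y, (m w).V) ⟶ pullback k.fY l.fY := fun w => IsOpenImmersion.lift c _ (hlift w)
  have hlw : ∀ w, lw w ≫ pullback.fst k.fY l.fY ≫ k.fY = (m w).fY := fun w => IsOpenImmersion.lift_fac _ _ _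
  have hlwo : ∀ w, IsOpenImmersion (lw w) := fun w => by
    haveI := (m w).affV.isOpenImmersion_fromSpec
    haveI : IsOpenImmersion (lw w ≫ c) := by rw [IsOpenImmersion.lift_fac]; infer_instance
    exact IsOpenImmersion.of_comp _ c
  refine (Scheme.Cover.mkOfCovers (P := @IsOpenImmersion) (↥(pullback k.fY l.fY))
    (fun w => Spec Γ(Y, (m w).V)) lw (fun w => ⟨w, by
      obtain ⟨x, hx⟩ : c w ∈ Set.range (m w).fY := by
        rw [GoodPair.fY, IsAffineOpen.range_fromSpec]; exact hm w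
      refine ⟨x, c.isOpenEmbedding.injective ?_⟩
      rw [← Scheme.Hom.comp_apply, IsOpenImmersion.lift_fac]
      exact hx⟩) hlwo).hom_ext _ _ fun w => ?_
  change lw w ≫ _ = lw w ≫ _
  have e1 : lw w ≫ pullback.fst k.fY l.fY = Spec.map (Y.presheaf.map (homOfLE (hmk w).2).op) := by
    rw [← cancel_mono k.fY, Category.assoc, hlw, GoodPair.fY, GoodPair.fY, IsAffineOpen.map_fromSpec]
  have e2 : lw w ≫ pullback.snd k.fY l.fY = Spec.map (Y.presheaf.map (homOfLE (hml w).2).op) := by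
    rw [← cancel_mono l.fY, Category.assoc, ← pullback.condition, hlw, GoodPair.fY, GoodPair.fY,
      IsAffineOpen.map_fromSpec]
  rw [reassoc_of% e1, reassoc_of% e2, ← Category.assoc, ← ιY_tr (hmk w), ← Category.assoc _ l.ιY,
    ← ιY_tr (hml w), Category.assoc, Category.assoc, tr_ιc, tr_ιc]

/-- `X → P` -/
def a : X ⟶ P i j := (coverX hc).glueMorphisms (fun k => k.ιX ≫ ιc i j k) compatX

/-- `Y → P` -/
def b : Y ⟶ P i j := (coverY hc).glueMorphisms (fun k => k.ιY ≫ ιc i j k) compatY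

theorem fX_a (k : GoodPair i j) : k.fX ≫ a hc = k.ιX ≫ ιc i j k :=
  (coverX hc).ι_glueMorphisms _ _ k

theorem fY_b (k : GoodPair i j) : k.fY ≫ b hc = k.ιY ≫ ιc i j k :=
  (coverY hc).ι_glueMorphisms _ _ k

theorem comp_eq : i ≫ a hc = j ≫ b hc := by
  refine (Scheme.Cover.mkOfCovers (P := @IsOpenImmersion) (GoodPair i j) (fun k => Spec Γ(Z, k.W))
    (fun k => k.affW.fromSpec) (fun z => by
      obtain ⟨k, hk⟩ := hc (j z)
      refine ⟨k, ?_⟩
      have : z ∈ k.W := hk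
      rw [← SetLike.mem_coe, ← k.affW.range_fromSpec] at this
      exact this) fun k => k.affW.isOpenImmersion_fromSpec).hom_ext _ _ fun k => ?_
  change k.affW.fromSpec ≫ i ≫ a hc = k.affW.fromSpec ≫ j ≫ b hc
  rw [← Category.assoc, ← k.fX_pX, Category.assoc, fX_a, ← Category.assoc, ← Category.assoc _ j,
    ← k.fY_pY, Category.assoc _ k.fY, fY_b, ← Category.assoc _ k.ιY]
  exact congrArg (· ≫ ιc i j k) ((Sp_comp _ _).trans ((congrArg Sp k.sq.comm.symm).trans (Sp_comp _ _).symm))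

theorem isPushout : IsPushout i j (a hc) (b hc) := by
  have hw : ∀ (s : PushoutCocone i j) (k : GoodPair i j),
      Sp k.pY.hom ≫ (k.fY ≫ s.inr) = Sp k.pX.hom ≫ (k.fX ≫ s.inl) := fun s k => by
    rw [← Category.assoc, ← Category.assoc]
    erw [k.fY_pY, k.fX_pX]
    rw [Category.assoc, Category.assoc, s.condition]
  let comp : ∀ (s : PushoutCocone i j) (k : GoodPair i j), k.ch ⟶ s.pt := fun s k =>
    (isPushout_Sp k.sq).desc (k.fY ≫ s.inr) (k.fX ≫ s.inl) (hw s k)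
  have hl : ∀ s k, k.ιY ≫ comp s k = k.fY ≫ s.inr := fun s k => (isPushout_Sp k.sq).inl_desc _ _ _
  have hr : ∀ s k, k.ιX ≫ comp s k = k.fX ≫ s.inl := fun s k => (isPushout_Sp k.sq).inr_desc _ _ _
  let g : ∀ s : PushoutCocone i j, P i j ⟶ s.pt := fun s => colimit.desc (diagram i j)
    { pt := s.pt
      ι := { app := comp s
             naturality := fun k l f => by
               change tr f.le ≫ comp s l = comp s k ≫ 𝟙 _
               rw [Category.comp_id]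
               refine (isPushout_Sp k.sq).hom_ext ?_ ?_
               · rw [← Category.assoc, ιY_tr f.le, Category.assoc, hl, hl, GoodPair.fY, GoodPair.fY,
                   ← Category.assoc, IsAffineOpen.map_fromSpec]
               · rw [← Category.assoc, ιX_tr f.le, Category.assoc, hr, hr, GoodPair.fX, GoodPair.fX,
                   ← Category.assoc, IsAffineOpen.map_fromSpec] } }
  have hg : ∀ s k, ιc i j k ≫ g s = comp s k := fun s k => colimit.ι_desc _ _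
  refine IsPushout.of_isColimit' ⟨comp_eq hc⟩ (PushoutCocone.IsColimit.mk _ g (fun s => ?_) (fun s => ?_)
    fun s m m1 m2 => ?_)
  · refine (coverX hc).hom_ext _ _ fun k => ?_
    change k.fX ≫ a hc ≫ g s = k.fX ≫ s.inl
    rw [← Category.assoc, fX_a, Category.assoc, hg, hr]
  · refine (coverY hc).hom_ext _ _ fun k => ?_
    change k.fY ≫ b hc ≫ g s = k.fY ≫ s.inr
    rw [← Category.assoc, fY_b, Category.assoc, hg, hl]
  · refine hom_ext_P fun k => (isPushout_Sp k.sq).hom_ext ?_ ?_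
    · rw [hg, hl, ← Category.assoc, ← fY_b hc, Category.assoc, m2]
    · rw [hg, hr, ← Category.assoc, ← fX_a hc, Category.assoc, m1]

theorem preimage_a (k : GoodPair i j) : a hc ⁻¹ᵁ (ιc i j k).opensRange = k.U := by
  ext x
  constructor
  · rintro ⟨Q, hQ⟩
    obtain ⟨l, hl⟩ := exists_mem_U hc x
    obtain ⟨x', rfl⟩ : x ∈ Set.range l.fX := by rw [GoodPair.fX, IsAffineOpen.range_fromSpec]; exact hl
    rw [← Scheme.Hom.comp_apply, fX_a, Scheme.Hom.comp_apply] at hQ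
    exact (mem_sat_of_ιc_eq hQ).1 x' rfl
  · intro hx
    obtain ⟨x', rfl⟩ : x ∈ Set.range k.fX := by rw [GoodPair.fX, IsAffineOpen.range_fromSpec]; exact hx
    refine ⟨k.ιX x', ?_⟩
    rw [← Scheme.Hom.comp_apply, ← fX_a hc, Scheme.Hom.comp_apply]

theorem preimage_b (k : GoodPair i j) : b hc ⁻¹ᵁ (ιc i j k).opensRange = k.V := by
  ext y
  constructor
  · rintro ⟨Q, hQ⟩
    obtain ⟨l, hl⟩ := hc y
    obtain ⟨y', rfl⟩ : y ∈ Set.range l.fY := by rw [GoodPair.fY, IsAffineOpen.range_fromSpec]; exact hl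
    rw [← Scheme.Hom.comp_apply, fY_b, Scheme.Hom.comp_apply] at hQ
    exact (mem_sat_of_ιc_eq hQ).2 y' rfl
  · intro hy
    obtain ⟨y', rfl⟩ : y ∈ Set.range k.fY := by rw [GoodPair.fY, IsAffineOpen.range_fromSpec]; exact hy
    refine ⟨k.ιY y', ?_⟩
    rw [← Scheme.Hom.comp_apply, ← fY_b hc, Scheme.Hom.comp_apply]

theorem isPullback_chartX (k : GoodPair i j) : IsPullback k.ιX k.fX (ιc i j k) (a hc) := by
  haveI := k.affU.isOpenImmersion_fromSpec
  exact IsOpenImmersion.isPullback _ _ _ _ (fX_a hc k)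
    ((preimage_a hc k).trans k.affU.opensRange_fromSpec.symm)

theorem isPullback_chartY (k : GoodPair i j) : IsPullback k.ιY k.fY (ιc i j k) (b hc) := by
  haveI := k.affV.isOpenImmersion_fromSpec
  exact IsOpenImmersion.isPullback _ _ _ _ (fY_b hc k)
    ((preimage_b hc k).trans k.affV.opensRange_fromSpec.symm)

/-- The cover of the pushout by charts. -/
def coverP : (P i j).OpenCover := Scheme.IsLocallyDirected.openCover (diagram i j)

theorem of_charts {Q : MorphismProperty Scheme.{u}} [IsZariskiLocalAtTarget Q] :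
    ((∀ k : GoodPair i j, Q k.ιX) → Q (a hc)) ∧ ((∀ k : GoodPair i j, Q k.ιY) → Q (b hc)) := by
  constructor <;> intro hQ <;> refine IsZariskiLocalAtTarget.of_openCover (coverP (i := i) (j := j)) fun k => ?_
  · change Q (pullback.snd (a hc) (ιc i j k))
    rw [← (isPullback_chartX hc k).flip.isoPullback_inv_snd, MorphismProperty.cancel_left_of_respectsIso Q]
    exact hQ k
  · change Q (pullback.snd (b hc) (ιc i j k))
    rw [← (isPullback_chartY hc k).flip.isoPullback_inv_snd, MorphismProperty.cancel_left_of_respectsIso Q]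
    exact hQ k

theorem isClosedImmersion_b : IsClosedImmersion (b hc) :=
  (of_charts hc).2 fun k => IsClosedImmersion.spec_of_surjective _ k.sq.surjective_fst

theorem isAffineHom_a : IsAffineHom (a hc) :=
  (of_charts hc).1 fun _ => inferInstanceAs (IsAffineHom (Spec.map _))

theorem exists_lift_chart {T : Scheme.{u}} (g : T ⟶ X) (h : T ⟶ Y) (hgh : g ≫ a hc = h ≫ b hc) (k : GoodPair i j) :
    ∃ l : pullback g k.fX ⟶ Z, l ≫ i = pullback.fst g k.fX ≫ g := by
  haveI := k.affU.isOpenImmersion_fromSpec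
  haveI := k.affV.isOpenImmersion_fromSpec
  have hrange : Set.range (pullback.fst g k.fX ≫ h) ⊆ Set.range k.fY := by
    rintro _ ⟨t, rfl⟩
    rw [GoodPair.fY, IsAffineOpen.range_fromSpec]
    have h1 : a hc ((pullback.fst g k.fX ≫ g) t) ∈ (ιc i j k).opensRange := by
      refine (SetLike.ext_iff.1 (preimage_a hc k) _).2 ?_
      rw [pullback.condition]
      exact fX_mem k _
    have h2 : b hc ((pullback.fst g k.fX ≫ h) t) ∈ (ιc i j k).opensRange := by
      rw [← Scheme.Hom.comp_apply, Category.assoc, ← hgh, ← Category.assoc, Scheme.Hom.comp_apply]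
      exact h1
    exact (SetLike.ext_iff.1 (preimage_b hc k) _).1 h2
  let gk := pullback.snd g k.fX
  let hk := IsOpenImmersion.lift k.fY (pullback.fst g k.fX ≫ h) hrange
  have hkk : hk ≫ k.ιY = gk ≫ k.ιX := by
    rw [← cancel_mono (ιc i j k), Category.assoc, Category.assoc, ← fX_a hc, ← fY_b hc, ← Category.assoc,
      IsOpenImmersion.lift_fac, ← Category.assoc, ← pullback.condition, Category.assoc, Category.assoc, hgh]
  letI := k.prY.toAlgebra
  letI := k.prX.toAlgebra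
  letI := k.pY.hom.toAlgebra
  letI := k.pX.hom.toAlgebra
  letI := (k.pY.hom.comp k.prY).toAlgebra
  haveI : IsScalarTower k.R Γ(Y, k.V) Γ(Z, k.W) := IsScalarTower.of_algebraMap_eq' rfl
  haveI : IsScalarTower k.R Γ(X, k.U) Γ(Z, k.W) := IsScalarTower.of_algebraMap_eq' k.sq.comm
  have hs : EtMil.IsFibreSquare k.R Γ(Y, k.V) Γ(X, k.U) Γ(Z, k.W) := ⟨k.sq.surj, k.sq.exu⟩
  haveI : Algebra.IsPushout k.R Γ(Y, k.V) Γ(X, k.U) Γ(Z, k.W) := Groth.EtaleAlgebra.Milnor.isPushout hs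
  have hpb := isPullback_SpecMap_of_isPushout _ _ _ _
    (CommRingCat.isPushout_of_isPushout k.R Γ(Y, k.V) Γ(X, k.U) Γ(Z, k.W))
  refine ⟨hpb.lift hk gk hkk ≫ k.affW.fromSpec, ?_⟩
  rw [Category.assoc, ← k.fX_pX, ← Category.assoc]
  erw [hpb.lift_snd]
  exact pullback.condition.symm

theorem isPullback : IsPullback i j (a hc) (b hc) := by
  haveI := isClosedImmersion_b hc
  have hlift : ∀ s : PullbackCone (a hc) (b hc), ∃ l : s.pt ⟶ Z, l ≫ i = s.fst := by
    intro s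
    let 𝒰 := (coverX hc).pullback₁ s.fst
    have hk := fun k : GoodPair i j => exists_lift_chart hc s.fst s.snd s.condition k
    choose l hl using hk
    have compat : ∀ x y : 𝒰.I₀, pullback.fst (𝒰.f x) (𝒰.f y) ≫ l x = pullback.snd (𝒰.f x) (𝒰.f y) ≫ l y := by
      intro x y
      refine (cancel_mono i).1 ?_
      refine ((Category.assoc _ _ _).trans (congrArg _ (hl x))).trans
        (Eq.trans ?_ ((Category.assoc _ _ _).trans (congrArg _ (hl y))).symm)
      exact (Category.assoc _ _ _).symm.trans ((congrArg (· ≫ s.fst) pullback.condition).trans (Category.assoc _ _ _))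
    refine ⟨Scheme.Cover.glueMorphisms 𝒰 l compat, Scheme.Cover.hom_ext 𝒰 _ _ fun k => ?_⟩
    rw [← Category.assoc, Scheme.Cover.ι_glueMorphisms 𝒰]
    exact hl k
  choose L hL using hlift
  refine IsPullback.of_isLimit' ⟨comp_eq hc⟩ (PullbackCone.IsLimit.mk _ L hL (fun s => ?_) fun s m m1 _ => ?_)
  · rw [← cancel_mono (b hc), Category.assoc, ← comp_eq hc, ← Category.assoc, hL, s.condition]
  · rw [← cancel_mono i, m1, hL]

end Groth.SpecFerrand.Glue
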