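import Mathlib
import Groth.Agent.SpecFerrand.Glue

/-!
Existence of good pairs for integral morphisms, and integrality in the glued pushout.
-/

set_option autoImplicit false

universe u

open CategoryTheory CategoryTheory.Limits AlgebraicGeometry TopologicalSpace Opposite

noncomputable section

namespace Groth.SpecFerrand.Glue

variable {X Y Z : Scheme.{u}} (i : Z ⟶ X) (j : Z ⟶ Y)

/-- Integral elements take finitely many prime patterns on a fibre; hence one combination avoids all. -/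
theorem exists_avoid {B C : Type u} [CommRing B] [CommRing C] [Algebra B C] [Algebra.IsIntegral B C] {n : ℕ}
    (g : Fin n → C) (p : PrimeSpectrum B)
    (hg : ∀ w : PrimeSpectrum C, PrimeSpectrum.comap (algebraMap B C) w = p → ∃ k, g k ∉ w.asIdeal) :
    ∃ G : MvPolynomial (Fin n) ℤ, G ∈ Ideal.span (Set.range MvPolynomial.X) ∧
      ∀ w : PrimeSpectrum C, PrimeSpectrum.comap (algebraMap B C) w = p →
        MvPolynomial.aeval g G ∉ w.asIdeal := by
  classical
  let S := Algebra.adjoin B (Set.range g)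
  have hfg : (Subalgebra.toSubmodule S).FG :=
    fg_adjoin_of_finite (Set.finite_range g) fun x _ => Algebra.IsIntegral.isIntegral x
  haveI : Module.Finite B S := Module.Finite.iff_fg.mpr hfg
  have hfin : ((PrimeSpectrum.comap (algebraMap B S)) ⁻¹' {p}).Finite :=
    Algebra.QuasiFinite.finite_comap_preimage_singleton p
  let g' : Fin n → S := fun k => ⟨g k, Algebra.subset_adjoin ⟨k, rfl⟩⟩
  let Ps : Set (Ideal (MvPolynomial (Fin n) ℤ)) :=
    (fun q : PrimeSpectrum S => q.asIdeal.comap (MvPolynomial.aeval g').toRingHom) ''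
      ((PrimeSpectrum.comap (algebraMap B S)) ⁻¹' {p})
  have hPs : Ps.Finite := hfin.image _
  have hw : ∀ w : PrimeSpectrum C, PrimeSpectrum.comap (algebraMap B C) w = p →
      w.asIdeal.comap (MvPolynomial.aeval g).toRingHom ∈ Ps := by
    intro w hw
    refine ⟨PrimeSpectrum.comap S.val.toRingHom w, ?_, ?_⟩
    · rw [Set.mem_preimage, ← PrimeSpectrum.comap_comp_apply]
      exact hw
    · ext G
      simp only [Ideal.mem_comap, PrimeSpectrum.comap_asIdeal]
      rw [show S.val.toRingHom ((MvPolynomial.aeval g').toRingHom G) = (MvPolynomial.aeval g).toRingHom G from ?_]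
      induction G using MvPolynomial.induction_on with
      | C a => simp
      | add a b ha hb => rw [map_add, map_add, ha, hb, map_add]
      | mul_X a k ha =>
        rw [map_mul, map_mul, ha, map_mul]
        simp [g']
  let Qs := {P ∈ Ps | ¬ Ideal.span (Set.range MvPolynomial.X) ≤ P}
  have hQ : ¬ ((Ideal.span (Set.range MvPolynomial.X) : Ideal (MvPolynomial (Fin n) ℤ)) : Set _) ⊆ ⋃ P ∈ Qs, (P : Set (MvPolynomial (Fin n) ℤ)) := by
    rw [Ideal.subset_union_prime_finite (hPs.subset (Set.sep_subset _ _)) ⊤ ⊤ (fun P hP _ _ => ?_)]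
    · rintro ⟨P, hP, hle⟩
      exact hP.2 hle
    · obtain ⟨⟨q, -, rfl⟩, -⟩ := hP
      haveI := q.isPrime
      exact Ideal.IsPrime.comap _
  obtain ⟨G, hG, hGn⟩ := Set.not_subset.mp hQ
  refine ⟨G, hG, fun w hwp hmem => hGn ?_⟩
  refine Set.mem_biUnion (x := w.asIdeal.comap (MvPolynomial.aeval g).toRingHom) ⟨hw w hwp, fun hle => ?_⟩ hmem
  obtain ⟨k, hk⟩ := hg w hwp
  have := hle (Ideal.subset_span ⟨k, rfl⟩)
  simp only [Ideal.mem_comap, AlgHom.toRingHom_eq_coe, RingHom.coe_coe, MvPolynomial.aeval_X] at this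
  exact hk this

variable [IsClosedImmersion i] [IsIntegralHom j]

theorem covers_of_fibres
    (hfib : ∀ y : Y, ∃ U : X.Opens, IsAffineOpen U ∧ j ⁻¹' {y} ⊆ i ⁻¹' (U : Set X)) : Covers i j := by
  intro y
  obtain ⟨U, hU, hfU⟩ := hfib y
  let WU := i ⁻¹ᵁ U
  have hWU : IsAffineOpen WU := hU.preimage i
  obtain ⟨V, hV, hyV, hjV⟩ : ∃ V : Y.Opens, IsAffineOpen V ∧ y ∈ V ∧ j ⁻¹ᵁ V ≤ WU := by
    have hclosed : IsClosed (j '' (WU : Set Z)ᶜ) := j.isClosedMap _ WU.2.isClosed_compl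
    have hy : y ∈ (j '' (WU : Set Z)ᶜ)ᶜ := by
      rintro ⟨z, hz, rfl⟩
      exact hz (hfU rfl)
    obtain ⟨_, ⟨V, hV, rfl⟩, hyV, hVs⟩ :=
      Y.isBasis_affineOpens.exists_subset_of_mem_open hy hclosed.isOpen_compl
    refine ⟨V, hV, hyV, fun z hz => ?_⟩
    by_contra h
    exact hVs hz ⟨z, h, rfl⟩
  have hjVa : IsAffineOpen (j ⁻¹ᵁ V) := hV.preimage j
  obtain ⟨t, ht, htfin, hcov⟩ : ∃ t : Set Γ(Z, WU), (∀ f ∈ t, Z.basicOpen f ≤ j ⁻¹ᵁ V) ∧ t.Finite ∧
      j ⁻¹' {y} ⊆ ⋃ f ∈ t, (Z.basicOpen f : Set Z) := by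
    have hc : IsCompact (j ⁻¹' {y}) := j.isCompact_preimage_singleton y
    obtain ⟨t, hts, htf, htc⟩ := hc.elim_finite_subcover_image (b := {f : Γ(Z, WU) | Z.basicOpen f ≤ j ⁻¹ᵁ V})
      (c := fun f => (Z.basicOpen f : Set Z)) (fun f _ => (Z.basicOpen f).2) (fun z hz => by
        have hzV : z ∈ j ⁻¹ᵁ V := by show j z ∈ V; rw [show j z = y from hz]; exact hyV
        obtain ⟨f, hf, hzf⟩ := hWU.exists_basicOpen_le ⟨z, hzV⟩ (hjV hzV)
        exact Set.mem_biUnion (show f ∈ {f | Z.basicOpen f ≤ j ⁻¹ᵁ V} from hf) hzf)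
    exact ⟨t, fun f hf => hts hf, htf, htc⟩
  obtain ⟨n, fs, hfs⟩ : ∃ (n : ℕ) (fs : Fin n → Γ(Z, WU)), Set.range fs = t := by
    have := htfin.to_subtype
    obtain ⟨n, ⟨e⟩⟩ := Finite.exists_equiv_fin t
    exact ⟨n, fun k => (e.symm k).1, by ext f; exact ⟨by rintro ⟨k, rfl⟩; exact (e.symm k).2,
      fun hf => ⟨e ⟨f, hf⟩, by simp⟩⟩⟩
  letI := (j.app V).hom.toAlgebra
  haveI : Algebra.IsIntegral Γ(Y, V) Γ(Z, j ⁻¹ᵁ V) := ⟨fun c => j.isIntegral_app V hV c⟩
  let rs := Z.presheaf.map (homOfLE hjV).op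
  have hmem : ∀ (w : Spec Γ(Z, j ⁻¹ᵁ V)) (f : Γ(Z, WU)),
      hjVa.fromSpec w ∈ Z.basicOpen f ↔ rs f ∉ w.asIdeal := by
    intro w f
    have hw : hjVa.fromSpec w ∈ j ⁻¹ᵁ V := by
      have : hjVa.fromSpec w ∈ Set.range hjVa.fromSpec := ⟨w, rfl⟩
      rwa [hjVa.range_fromSpec] at this
    have e : hjVa.fromSpec w ∈ Z.basicOpen f ↔ w ∈ hjVa.fromSpec ⁻¹ᵁ Z.basicOpen (rs f) := by
      change _ ↔ hjVa.fromSpec w ∈ Z.basicOpen (rs f)
      rw [Scheme.basicOpen_res]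
      exact ⟨fun h => ⟨hw, h⟩, fun h => h.2⟩
    rw [e, hjVa.fromSpec_preimage_basicOpen]
    rfl
  have hfib' : ∀ w : Spec Γ(Z, j ⁻¹ᵁ V), j (hjVa.fromSpec w) =
      hV.fromSpec (Spec.map (j.app V) w) := by
    intro w
    have e := IsAffineOpen.SpecMap_appLE_fromSpec j hV hjVa le_rfl
    rw [← Scheme.Hom.comp_apply, ← Scheme.Hom.comp_apply, ← e, Scheme.Hom.app_eq_appLE]
  obtain ⟨py, hpy⟩ : y ∈ Set.range hV.fromSpec := by rw [hV.range_fromSpec]; exact hyV
  obtain ⟨G, hG, hGw⟩ := exists_avoid (fun k => rs (fs k)) py (fun w hw => by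
    have hz : j (hjVa.fromSpec w) = y := by
      rw [hfib', ← hpy]
      exact congrArg hV.fromSpec hw
    obtain ⟨f, hf, hzf⟩ : ∃ f ∈ t, hjVa.fromSpec w ∈ Z.basicOpen f := by
      simpa using hcov hz
    obtain ⟨k, rfl⟩ := hfs.symm ▸ hf
    exact ⟨k, (hmem w _).1 hzf⟩)
  let f : Γ(Z, WU) := MvPolynomial.aeval fs G
  have hfle : Z.basicOpen f ≤ j ⁻¹ᵁ V := by
    intro z hz
    by_contra hzV
    obtain ⟨w, rfl⟩ : z ∈ Set.range hWU.fromSpec := by rw [hWU.range_fromSpec]; exact Z.basicOpen_le _ hz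
    have hwf : f ∉ w.asIdeal := by
      have : w ∈ hWU.fromSpec ⁻¹ᵁ Z.basicOpen f := hz
      rw [hWU.fromSpec_preimage_basicOpen] at this
      exact this
    refine hwf ?_
    have hle : Ideal.span (Set.range (MvPolynomial.X : _ → MvPolynomial _ ℤ)) ≤ w.asIdeal.comap (MvPolynomial.aeval fs).toRingHom := by
      rw [Ideal.span_le]
      rintro _ ⟨k, rfl⟩
      simp only [SetLike.mem_coe, Ideal.mem_comap, AlgHom.toRingHom_eq_coe, RingHom.coe_coe, MvPolynomial.aeval_X]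
      by_contra hk
      refine hzV (ht (fs k) (hfs ▸ ⟨k, rfl⟩) ?_)
      have : w ∈ PrimeSpectrum.basicOpen (fs k) := hk
      rw [← hWU.fromSpec_preimage_basicOpen] at this
      exact this
    exact hle hG
  have hFf : j ⁻¹' {y} ⊆ (Z.basicOpen f : Set Z) := by
    intro z hz
    have hzV : z ∈ j ⁻¹ᵁ V := by show j z ∈ V; rw [show j z = y from hz]; exact hyV
    obtain ⟨w, rfl⟩ : z ∈ Set.range hjVa.fromSpec := by rw [hjVa.range_fromSpec]; exact hzV
    refine (hmem w f).2 ?_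
    have hwp : PrimeSpectrum.comap (algebraMap Γ(Y, V) Γ(Z, j ⁻¹ᵁ V)) w = py := by
      haveI := hV.isOpenImmersion_fromSpec
      refine hV.fromSpec.isOpenEmbedding.injective ?_
      rw [hpy, ← show j (hjVa.fromSpec w) = y from hz, hfib']
      rfl
    have e : rs f = MvPolynomial.aeval (fun k => rs (fs k)) G := by
      exact MvPolynomial.comp_aeval_apply (R := ℤ) (f := fs) rs.hom.toIntAlgHom G
    rw [e]
    exact hGw w hwp
  obtain ⟨V', hV', hyV', hV'V, hV'f⟩ : ∃ b : Γ(Y, V), ∃ _ : True, y ∈ Y.basicOpen b ∧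
      Y.basicOpen b ≤ V ∧ j ⁻¹ᵁ Y.basicOpen b ≤ Z.basicOpen f := by
    have hclosed : IsClosed (j '' (Z.basicOpen f : Set Z)ᶜ) :=
      j.isClosedMap _ (Z.basicOpen f).2.isClosed_compl
    have hy : y ∈ (j '' (Z.basicOpen f : Set Z)ᶜ)ᶜ := by
      rintro ⟨z, hz, rfl⟩
      exact hz (hFf rfl)
    obtain ⟨b, hb, hyb⟩ := hV.exists_basicOpen_le (V := ⟨_, hclosed.isOpen_compl⟩) ⟨y, hy⟩ hyV
    refine ⟨b, trivial, hyb, Y.basicOpen_le _, fun z hz => ?_⟩
    by_contra h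
    exact hb hz ⟨z, h, rfl⟩
  let b'' : Γ(Z, Z.basicOpen f) := Z.presheaf.map (homOfLE hfle).op (j.app V V')
  obtain ⟨c, hc⟩ := hWU.basicOpen_basicOpen_is_basicOpen f b''
  obtain ⟨a, ha⟩ := i.app_surjective U hU c
  refine ⟨⟨X.basicOpen a, Y.basicOpen V', hU.basicOpen a, hV.basicOpen V', ?_⟩, hyV'⟩
  rw [Scheme.preimage_basicOpen, ha, hc, Scheme.basicOpen_res, ← Scheme.preimage_basicOpen]
  exact inf_eq_right.mpr hV'f

theorem isIntegralHom_a (hc : Covers i j) : IsIntegralHom (a hc) := by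
  refine (of_charts hc).1 fun k => ?_
  rw [GoodPair.ιX, Sp, IsIntegralHom.SpecMap_iff]
  have hint : k.pY.hom.IsIntegral := by
    have := j.isIntegral_app k.V k.affV
    rwa [Scheme.Hom.app_eq_appLE] at this
  intro x
  have hlin : (0 : Γ(Z, k.W)) = 1 → k.prX.IsIntegralElem x := fun hsub => by
    refine ⟨Polynomial.X - Polynomial.C (⟨(0, x), ?_⟩ : k.R), Polynomial.monic_X_sub_C _, ?_⟩
    · change k.pY 0 = k.pX x
      exact (eq_zero_of_zero_eq_one hsub _).trans (eq_zero_of_zero_eq_one hsub _).symm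
    · simp [GoodPair.prX]
  rcases subsingleton_or_nontrivial Γ(Y, k.V) with hs | hs
  · exact hlin (by rw [← map_zero k.pY.hom, ← map_one k.pY.hom, Subsingleton.elim (0 : Γ(Y, k.V)) 1])
  obtain ⟨F, hFm, hF⟩ := hint (k.pX x)
  obtain ⟨F', hF', hdeg, hF'm⟩ : ∃ F' : Polynomial k.R, F'.map k.prY = F ∧ F'.degree = F.degree ∧ F'.Monic :=
    Polynomial.lifts_and_degree_eq_and_monic
      ((Polynomial.mem_lifts _).2 (Polynomial.map_surjective _ k.sq.surjective_fst F)) hFm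
  let e := Polynomial.eval₂ k.prX x F'
  have he : k.pX e = 0 := by
    have h1 : k.pX e = Polynomial.eval₂ (k.pX.hom.comp k.prX) (k.pX x) F' := Polynomial.hom_eval₂ _ _ _ _
    rw [h1, ← k.sq.comm, ← Polynomial.eval₂_map, hF']
    exact hF
  by_cases hd : F'.natDegree = 0
  · have h1 : F' = 1 := (hF'm.natDegree_eq_zero).1 hd
    exact hlin (by rw [← he, show e = 1 by simp [e, h1], map_one])
  · haveI : Nontrivial k.R := k.prY.domain_nontrivial
    obtain ⟨r, ⟨hr1, hr2⟩, -⟩ := k.sq.exu 0 e (by rw [map_zero]; exact he.symm)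
    refine ⟨F' - Polynomial.C r, hF'm.sub_of_left ?_, ?_⟩
    · calc (Polynomial.C r).degree ≤ 0 := Polynomial.degree_C_le
        _ < F'.degree := by
          rw [Polynomial.degree_eq_natDegree hF'm.ne_zero]
          exact_mod_cast Nat.pos_of_ne_zero hd
    · change Polynomial.eval₂ k.prX x _ = 0
      rw [Polynomial.eval₂_sub, Polynomial.eval₂_C]
      rw [hr2]
      exact sub_self _

theorem isClosedImmersion_a [IsClosedImmersion j] (hc : Covers i j) : IsClosedImmersion (a hc) := by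
  refine (of_charts hc).1 fun k => IsClosedImmersion.spec_of_surjective _ fun x => ?_
  obtain ⟨b, hb⟩ : ∃ b, k.pY b = k.pX x := by
    obtain ⟨b, hb⟩ := j.app_surjective k.V k.affV (k.pX x)
    exact ⟨b, by rw [← hb, Scheme.Hom.app_eq_appLE]⟩
  exact ⟨⟨(b, x), hb⟩, rfl⟩

end Groth.SpecFerrand.Glue
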