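import Mathlib
import Groth.Agent.SpecFerrand.Covers

/-!
Properties of Ferrand pushouts over a base: quasi-compact, universally closed, separated, finite type.
-/

set_option autoImplicit false

universe u

open CategoryTheory CategoryTheory.Limits AlgebraicGeometry TopologicalSpace Opposite MorphismProperty

noncomputable section

namespace Groth.SpecFerrand

section Generic

variable {X Y P S : Scheme.{u}} (a : X ⟶ P) (b : Y ⟶ P) (r : P ⟶ S)
  (hsurj : ∀ x : P, (∃ w, a w = x) ∨ ∃ w, b w = x)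

include hsurj

theorem preimage_eq_union {T : Scheme.{u}} (g : P ⟶ T) (C : Set T) :
    g ⁻¹' C = a '' ((a ≫ g) ⁻¹' C) ∪ b '' ((b ≫ g) ⁻¹' C) := by
  ext x
  refine ⟨fun hx => ?_, ?_⟩
  · rcases hsurj x with ⟨w, rfl⟩ | ⟨w, rfl⟩
    exacts [.inl ⟨w, hx, rfl⟩, .inr ⟨w, hx, rfl⟩]
  · rintro (⟨w, hw, rfl⟩ | ⟨w, hw, rfl⟩) <;> exact hw

theorem quasiCompact_of_jointly [QuasiCompact (a ≫ r)] [QuasiCompact (b ≫ r)] : QuasiCompact r := by
  refine ⟨fun U hU hU' => ?_⟩
  rw [preimage_eq_union a b hsurj r U]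
  exact ((QuasiCompact.isCompact_preimage (f := a ≫ r) U hU hU').image a.continuous).union
    ((QuasiCompact.isCompact_preimage (f := b ≫ r) U hU hU').image b.continuous)

theorem universallyClosed_of_jointly [UniversallyClosed (a ≫ r)] [UniversallyClosed (b ≫ r)] :
    UniversallyClosed r := by
  constructor
  intro X' Y' i₁ i₂ f' H
  have ha := UniversallyClosed.universally_isClosedMap (f := a ≫ r) _ _ _
    ((IsPullback.of_hasPullback i₁ a).paste_horiz H)
  have hb := UniversallyClosed.universally_isClosedMap (f := b ≫ r) _ _ _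
    ((IsPullback.of_hasPullback i₁ b).paste_horiz H)
  intro C hC
  have hsplit : f' '' C = (pullback.fst i₁ a ≫ f') '' (pullback.fst i₁ a ⁻¹' C) ∪
      (pullback.fst i₁ b ≫ f') '' (pullback.fst i₁ b ⁻¹' C) := by
    ext y
    constructor
    · rintro ⟨x, hx, rfl⟩
      rcases hsurj (i₁ x) with ⟨w, hw⟩ | ⟨w, hw⟩
      · obtain ⟨z, hz, -⟩ := Scheme.Pullback.exists_preimage_pullback x w hw.symm
        exact .inl ⟨z, show pullback.fst i₁ a z ∈ C by rw [hz]; exact hx, by rw [Scheme.Hom.comp_apply, hz]⟩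
      · obtain ⟨z, hz, -⟩ := Scheme.Pullback.exists_preimage_pullback x w hw.symm
        exact .inr ⟨z, show pullback.fst i₁ b z ∈ C by rw [hz]; exact hx, by rw [Scheme.Hom.comp_apply, hz]⟩
    · rintro (⟨z, hz, rfl⟩ | ⟨z, hz, rfl⟩) <;> exact ⟨_, hz, rfl⟩
  rw [hsplit]
  exact (ha _ (hC.preimage (Scheme.Hom.continuous _))).union (hb _ (hC.preimage (Scheme.Hom.continuous _)))

omit hsurj in
theorem comp_diagonal (p : X ⟶ S) (hp : a ≫ r = p) : a ≫ pullback.diagonal r =
    pullback.diagonal p ≫ pullback.map p p r r a a (𝟙 S) ((Category.comp_id _).trans hp.symm)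
      ((Category.comp_id _).trans hp.symm) := by
  apply pullback.hom_ext
  · simp only [Category.assoc, pullback.diagonal_fst, Category.comp_id, pullback.lift_fst, pullback.map, pullback.diagonal_fst_assoc]
  · simp only [Category.assoc, pullback.diagonal_snd, Category.comp_id, pullback.lift_snd, pullback.map, pullback.diagonal_snd_assoc]

theorem isSeparated_of_jointly [UniversallyClosed a] [UniversallyClosed b]
    [IsSeparated (a ≫ r)] [IsSeparated (b ≫ r)] : IsSeparated r := by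
  haveI : IsClosedImmersion (pullback.diagonal (a ≫ r)) := IsSeparated.isClosedImmersion_diagonal
  haveI : IsClosedImmersion (pullback.diagonal (b ≫ r)) := IsSeparated.isClosedImmersion_diagonal
  have ha : UniversallyClosed (a ≫ pullback.diagonal r) := by
    rw [comp_diagonal a r _ rfl]
    exact comp_mem @UniversallyClosed _ _ inferInstance
      (MorphismProperty.pullbackMap (P := @UniversallyClosed) ‹_› ‹_› rfl rfl)
  have hb : UniversallyClosed (b ≫ pullback.diagonal r) := by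
    rw [comp_diagonal b r _ rfl]
    exact comp_mem @UniversallyClosed _ _ inferInstance
      (MorphismProperty.pullbackMap (P := @UniversallyClosed) ‹_› ‹_› rfl rfl)
  refine ⟨.of_isPreimmersion _ ?_⟩
  have e : Set.range (pullback.diagonal r) =
      Set.range (a ≫ pullback.diagonal r) ∪ Set.range (b ≫ pullback.diagonal r) := by
    ext y
    constructor
    · rintro ⟨x, rfl⟩
      rcases hsurj x with ⟨w, rfl⟩ | ⟨w, rfl⟩
      exacts [.inl ⟨w, rfl⟩, .inr ⟨w, rfl⟩]
    · rintro (⟨w, rfl⟩ | ⟨w, rfl⟩) <;> exact ⟨_, rfl⟩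
  rw [e]
  exact (Scheme.Hom.isClosedMap _).isClosed_range.union (Scheme.Hom.isClosedMap _).isClosed_range

theorem quasiSeparated_of_jointly [QuasiCompact a] [QuasiCompact b]
    [QuasiSeparated (a ≫ r)] [QuasiSeparated (b ≫ r)] : QuasiSeparated r := by
  have ha : QuasiCompact (a ≫ pullback.diagonal r) := by
    rw [comp_diagonal a r _ rfl]
    exact comp_mem @QuasiCompact _ _ QuasiSeparated.quasiCompact_diagonal
      (MorphismProperty.pullbackMap (P := @QuasiCompact) ‹_› ‹_› rfl rfl)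
  have hb : QuasiCompact (b ≫ pullback.diagonal r) := by
    rw [comp_diagonal b r _ rfl]
    exact comp_mem @QuasiCompact _ _ QuasiSeparated.quasiCompact_diagonal
      (MorphismProperty.pullbackMap (P := @QuasiCompact) ‹_› ‹_› rfl rfl)
  exact ⟨quasiCompact_of_jointly a b _ hsurj⟩

end Generic

section Ring

variable {C A B D R : Type u} [CommRing C] [CommRing A] [CommRing B] [CommRing D] [CommRing R]

/-- Artin-Tate for a fibre product of rings. -/
theorem finiteType_of_sq [IsNoetherianRing C] (φ : C →+* R) (prY : R →+* B) (prX : R →+* A)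
    (hinj : ∀ x, prY x = 0 → prX x = 0 → x = 0) (hY : Function.Surjective prY) (hX : prX.IsIntegral)
    (hA : (prX.comp φ).FiniteType) (hB : (prY.comp φ).FiniteType) : φ.FiniteType := by
  have hXft : prX.FiniteType := RingHom.FiniteType.of_comp_finiteType hA
  letI := φ.toAlgebra
  letI := prX.toAlgebra
  letI := prY.toAlgebra
  letI : Algebra C A := (prX.comp φ).toAlgebra
  letI : Algebra C B := (prY.comp φ).toAlgebra
  haveI : IsScalarTower C R A := IsScalarTower.of_algebraMap_eq' rfl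
  haveI : IsScalarTower C R B := IsScalarTower.of_algebraMap_eq' rfl
  haveI : Algebra.FiniteType C A := hA
  haveI : Algebra.FiniteType C B := hB
  haveI : Module.Finite R A := RingHom.Finite.of_isIntegral_of_finiteType hX hXft
  haveI : Module.Finite R B := RingHom.Finite.of_surjective prY hY
  have h2 : Function.Injective (algebraMap R (B × A)) := by
    rw [injective_iff_map_eq_zero]
    intro x hx
    exact hinj x congr($(hx).1) congr($(hx).2)
  exact ⟨fg_of_fg_of_fg C R (B × A) Algebra.FiniteType.out Module.Finite.fg_top h2⟩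

end Ring

namespace Glue

variable {X Y Z : Scheme.{u}} {i : Z ⟶ X} {j : Z ⟶ Y} [IsClosedImmersion i] [IsAffineHom j]
  (hc : Covers i j)

theorem jointly_surjective_ab (x : P i j) : (∃ w, a hc w = x) ∨ ∃ w, b hc w = x := by
  obtain ⟨k, Q, rfl⟩ := jointly_surjective_P x
  rcases k.jointly_surjective Q with ⟨y, rfl⟩ | ⟨x, rfl⟩
  · exact .inr ⟨k.fY y, by rw [← Scheme.Hom.comp_apply, fY_b hc k]; rfl⟩
  · exact .inl ⟨k.fX x, by rw [← Scheme.Hom.comp_apply, fX_a hc k]; rfl⟩

theorem exists_chart_le {p : P i j} {V : (P i j).Opens} (hp : p ∈ V) :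
    ∃ (k : GoodPair i j) (Q : k.ch), ιc i j k Q = p ∧ ∀ Q', ιc i j k Q' ∈ V := by
  obtain ⟨l, Q, rfl⟩ := jointly_surjective_P p
  obtain ⟨_, ⟨r, rfl⟩, hQr, hr⟩ :=
    PrimeSpectrum.isTopologicalBasis_basic_opens.exists_subset_of_mem_open
      (show Q ∈ (ιc i j l ⁻¹ᵁ V : Set l.ch) from hp) (ιc i j l ⁻¹ᵁ V).2
  have hrange := (GoodPair.isOpenImmersion_tr_basic (l.basic_le r) r rfl rfl).2
  obtain ⟨Q₀, rfl⟩ : Q ∈ Set.range (GoodPair.tr (l.basic_le r)) := by rw [hrange]; exact hQr
  refine ⟨l.basic r, Q₀, by rw [← tr_ιc (l.basic_le r)]; rfl, fun Q' => ?_⟩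
  have hm : GoodPair.tr (l.basic_le r) Q' ∈ (ιc i j l ⁻¹ᵁ V : Set l.ch) := by
    exact hr (Set.ext_iff.1 hrange _ |>.1 ⟨Q', rfl⟩)
  rw [← tr_ιc (l.basic_le r)]
  exact hm

theorem locallyOfFiniteType_P {S : Scheme.{u}} [IsLocallyNoetherian S] (r : P i j ⟶ S)
    [IsIntegralHom (a hc)] [LocallyOfFiniteType (a hc ≫ r)] [LocallyOfFiniteType (b hc ≫ r)] :
    LocallyOfFiniteType r := by
  have key : ∀ x : P i j, ∃ (k : GoodPair i j) (Q : k.ch), ιc i j k Q = x ∧
      LocallyOfFiniteType (ιc i j k ≫ r) := by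
    intro x
    obtain ⟨W, hW, hxW, -⟩ := exists_isAffineOpen_mem_and_subset (x := r x) (U := ⊤) trivial
    obtain ⟨k, Q, hQ, hk⟩ := exists_chart_le (V := r ⁻¹ᵁ W) hxW
    refine ⟨k, Q, hQ, ?_⟩
    haveI := hW.isOpenImmersion_fromSpec
    let g := IsOpenImmersion.lift hW.fromSpec (ιc i j k ≫ r) (by
      rintro _ ⟨Q', rfl⟩; rw [hW.range_fromSpec]; exact hk Q')
    have hg : g ≫ hW.fromSpec = ιc i j k ≫ r := IsOpenImmersion.lift_fac ..
    obtain ⟨φ, hφ⟩ := Spec.map_surjective g
    haveI : IsNoetherianRing Γ(S, W) := IsLocallyNoetherian.component_noetherian ⟨W, hW⟩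
    have hX : k.prX.IsIntegral := by
      have : IsIntegralHom k.ιX := MorphismProperty.of_isPullback (isPullback_chartX hc k).flip ‹_›
      rwa [GoodPair.ιX, Sp, IsIntegralHom.SpecMap_iff] at this
    have hA : LocallyOfFiniteType (k.ιX ≫ g) := by
      have : LocallyOfFiniteType ((k.ιX ≫ g) ≫ hW.fromSpec) := by
        rw [Category.assoc, hg, ← Category.assoc, ← fX_a hc k, Category.assoc]; infer_instance
      exact locallyOfFiniteType_of_comp _ hW.fromSpec
    have hB : LocallyOfFiniteType (k.ιY ≫ g) := by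
      have : LocallyOfFiniteType ((k.ιY ≫ g) ≫ hW.fromSpec) := by
        rw [Category.assoc, hg, ← Category.assoc, ← fY_b hc k, Category.assoc]; infer_instance
      exact locallyOfFiniteType_of_comp _ hW.fromSpec
    rw [← hφ, GoodPair.ιX, Sp, ← Spec.map_comp, HasRingHomProperty.Spec_iff (P := @LocallyOfFiniteType)] at hA
    rw [← hφ, GoodPair.ιY, Sp, ← Spec.map_comp, HasRingHomProperty.Spec_iff (P := @LocallyOfFiniteType)] at hB
    have hφft : φ.hom.FiniteType := finiteType_of_sq φ.hom k.prY k.prX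
      (fun x hy hx => Subtype.ext (Prod.ext hy hx)) k.sq.surjective_fst hX hA hB
    haveI : LocallyOfFiniteType g := by
      rw [← hφ, HasRingHomProperty.Spec_iff (P := @LocallyOfFiniteType)]; exact hφft
    rw [← hg]; infer_instance
  choose k Q hQ hk using key
  let 𝒰 : (P i j).OpenCover := Scheme.openCoverOfIsOpenCover _ (fun x => (ιc i j (k x)).opensRange)
    (.mk <| top_le_iff.mp fun x _ => Opens.mem_iSup.mpr ⟨x, Q x, hQ x⟩)
  refine IsZariskiLocalAtSource.of_openCover 𝒰 fun x => ?_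
  change LocallyOfFiniteType ((ιc i j (k x)).opensRange.ι ≫ r)
  rw [← Scheme.Hom.isoOpensRange_inv_comp (ιc i j (k x)), Category.assoc,
    MorphismProperty.cancel_left_of_respectsIso @LocallyOfFiniteType]
  exact hk x

omit [IsAffineHom j] in
variable {P' S : Scheme.{u}} {a' : X ⟶ P'} {b' : Y ⟶ P'} in
theorem facts_of_isPushout [IsIntegralHom j] (hc : Covers i j) (hP : IsPushout i j a' b') :
    IsIntegralHom a' ∧ IsClosedImmersion b' ∧ (∀ x : P', (∃ w, a' w = x) ∨ ∃ w, b' w = x) ∧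
      IsPullback i j a' b' := by
  have hG := isPushout hc
  let e := hG.isoIsPushout _ _ hP
  have ha : a hc ≫ e.hom = a' := hG.inl_isoIsPushout_hom _ _ hP
  have hb : b hc ≫ e.hom = b' := hG.inr_isoIsPushout_hom _ _ hP
  have := isIntegralHom_a i j hc
  have := isClosedImmersion_b hc
  refine ⟨ha ▸ inferInstance, hb ▸ inferInstance, fun x => ?_, ?_⟩
  · rcases jointly_surjective_ab hc (e.inv x) with ⟨w, hw⟩ | ⟨w, hw⟩
    · exact .inl ⟨w, by rw [← ha, Scheme.Hom.comp_apply, hw, ← Scheme.Hom.comp_apply, e.inv_hom_id]; rfl⟩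
    · exact .inr ⟨w, by rw [← hb, Scheme.Hom.comp_apply, hw, ← Scheme.Hom.comp_apply, e.inv_hom_id]; rfl⟩
  · exact (isPullback hc).of_iso (Iso.refl _) (Iso.refl _) (Iso.refl _) e
      (by simp) (by simp) (by simpa using ha) (by simpa using hb)

omit [IsAffineHom j] in
variable {P' S : Scheme.{u}} {a' : X ⟶ P'} {b' : Y ⟶ P'} in
theorem locallyOfFiniteType_of_isPushout [IsIntegralHom j] (hc : Covers i j) (hP : IsPushout i j a' b')
    [IsLocallyNoetherian S] (r : P' ⟶ S) [LocallyOfFiniteType (a' ≫ r)] [LocallyOfFiniteType (b' ≫ r)] :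
    LocallyOfFiniteType r := by
  have hG := isPushout hc
  let e := hG.isoIsPushout _ _ hP
  have := isIntegralHom_a i j hc
  rw [← MorphismProperty.cancel_left_of_respectsIso @LocallyOfFiniteType e.hom]
  have : LocallyOfFiniteType (a hc ≫ e.hom ≫ r) := by
    rw [← Category.assoc, hG.inl_isoIsPushout_hom _ _ hP]; infer_instance
  have : LocallyOfFiniteType (b hc ≫ e.hom ≫ r) := by
    rw [← Category.assoc, hG.inr_isoIsPushout_hom _ _ hP]; infer_instance
  exact locallyOfFiniteType_P hc _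

theorem covers_of_affine_local {X Y T Z : Scheme.{u}} (f : X ⟶ Y) (t : T ⟶ Y) {ξ : Z ⟶ T} {ι : Z ⟶ X}
    [IsAffineHom t] (hsq : ι ≫ f = ξ ≫ t)
    (hstd : ∀ y : Y, ∃ U : Y.Opens, IsAffineOpen U ∧ y ∈ U ∧ ∃ V : X.Opens, IsAffineOpen V ∧
      V ≤ f ⁻¹ᵁ U ∧ ∀ z : Z, (ξ ≫ t).base z ∈ U → ι.base z ∈ V) : Covers ι ξ := fun y => by
  obtain ⟨U, hU, hyU, V, hV, hVU, hz⟩ := hstd (t.base y)
  refine ⟨⟨V, t ⁻¹ᵁ U, hV, hU.preimage t, ?_⟩, hyU⟩
  ext z
  refine ⟨fun h => ?_, fun h => hz z h⟩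
  show (ξ ≫ t).base z ∈ U
  rw [← hsq]
  exact hVU h

end Glue

end Groth.SpecFerrand
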