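import Mathlib
import Groth.Agent.SpecFerrand.Props

/-!
A square is a pushout of schemes if it is locally on the corner the spectrum of a fibre square of rings.
-/

set_option autoImplicit false

universe u

open CategoryTheory CategoryTheory.Limits AlgebraicGeometry TopologicalSpace MorphismProperty

noncomputable section

namespace Groth.SpecFerrand

variable {X Y Z P : Scheme.{u}}

/-- An affine chart of a square, given by a fibre square of rings. -/
structure SqChart (i : Z ⟶ X) (j : Z ⟶ Y) (a : X ⟶ P) (b : Y ⟶ P) where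
  /-- corner ring -/
  R : CommRingCat.{u}
  /-- ring of `Y` -/
  B : CommRingCat.{u}
  /-- ring of `X` -/
  A : CommRingCat.{u}
  /-- ring of `Z` -/
  D : CommRingCat.{u}
  /-- first projection -/
  p1 : R ⟶ B
  /-- second projection -/
  p2 : R ⟶ A
  /-- left map -/
  q : B ⟶ D
  /-- right map -/
  p : A ⟶ D
  sq : Sq p1.hom p2.hom q.hom p.hom
  /-- chart of `P` -/
  u : Spec R ⟶ P
  /-- chart of `X` -/
  uX : Spec A ⟶ X
  /-- chart of `Y` -/
  uY : Spec B ⟶ Y
  /-- chart of `Z` -/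
  uZ : Spec D ⟶ Z
  open_u : IsOpenImmersion u
  hX : IsPullback (Spec.map p2) uX u a
  hY : IsPullback (Spec.map p1) uY u b
  hZ : IsPullback (Spec.map p) uZ uX i
  hZY : Spec.map q ≫ uY = uZ ≫ j

theorem opensRange_of_isPullback {A B C E : Scheme.{u}} {f : A ⟶ B} {g : A ⟶ C} {h : B ⟶ E} {k : C ⟶ E}
    (H : IsPullback f g h k) [IsOpenImmersion h] [IsOpenImmersion g] : g.opensRange = k ⁻¹ᵁ h.opensRange := by
  ext x
  constructor
  · rintro ⟨w, rfl⟩
    exact ⟨f w, by rw [← Scheme.Hom.comp_apply, H.w, Scheme.Hom.comp_apply]⟩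
  · rintro ⟨w, hw⟩
    obtain ⟨z, -, hz⟩ := Scheme.Pullback.exists_preimage_pullback w x hw
    exact ⟨H.isoPullback.inv z, by rw [← Scheme.Hom.comp_apply, H.isoPullback_inv_snd]; exact hz⟩

namespace SqChart

variable {i : Z ⟶ X} {j : Z ⟶ Y} {a : X ⟶ P} {b : Y ⟶ P} (c : SqChart i j a b)

instance : IsOpenImmersion c.u := c.open_u

instance : IsOpenImmersion c.uX := MorphismProperty.of_isPullback c.hX inferInstance

instance : IsOpenImmersion c.uY := MorphismProperty.of_isPullback c.hY inferInstance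

instance : IsOpenImmersion c.uZ := MorphismProperty.of_isPullback c.hZ inferInstance

/-- The pair of opens of a chart. -/
def pair (w : i ≫ a = j ≫ b) : Glue.GoodPair i j where
  U := c.uX.opensRange
  V := c.uY.opensRange
  affU := isAffineOpen_opensRange _
  affV := isAffineOpen_opensRange _
  eq := by
    rw [opensRange_of_isPullback c.hX, opensRange_of_isPullback c.hY, ← Scheme.Hom.comp_preimage, w,
      Scheme.Hom.comp_preimage]

theorem mem_pair_U (w : i ≫ a = j ≫ b) {x : X} : x ∈ (c.pair w).U ↔ a x ∈ c.u.opensRange := by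
  change x ∈ c.uX.opensRange ↔ _
  rw [opensRange_of_isPullback c.hX]
  rfl

theorem mem_pair_V (w : i ≫ a = j ≫ b) {y : Y} : y ∈ (c.pair w).V ↔ b y ∈ c.u.opensRange := by
  change y ∈ c.uY.opensRange ↔ _
  rw [opensRange_of_isPullback c.hY]
  rfl

open Glue in
theorem isPullback_comparison [IsClosedImmersion i] [IsAffineHom j] (w : i ≫ a = j ≫ b) (hc : Covers i j)
    (φ : Glue.P i j ⟶ P) (ha : Glue.a hc ≫ φ = a) (hb : Glue.b hc ≫ φ = b) :
    ∃ s : Spec (CommRingCat.of (c.pair w).R) ⟶ Spec c.R,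
      IsIso s ∧ IsPullback s (ιc i j (c.pair w)) c.u φ := by
  set k := c.pair w
  haveI := k.affU.isOpenImmersion_fromSpec
  haveI := k.affV.isOpenImmersion_fromSpec
  haveI := k.affW.isOpenImmersion_fromSpec
  let eX : Spec c.A ≅ Spec Γ(X, k.U) := IsOpenImmersion.isoOfRangeEq c.uX k.fX
    (by rw [GoodPair.fX, k.affU.range_fromSpec]; rfl)
  let eY : Spec c.B ≅ Spec Γ(Y, k.V) := IsOpenImmersion.isoOfRangeEq c.uY k.fY
    (by rw [GoodPair.fY, k.affV.range_fromSpec]; rfl)
  have hW : c.uZ.opensRange = k.W := by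
    rw [opensRange_of_isPullback c.hZ]
    exact k.eq
  let eZ : Spec c.D ≅ Spec Γ(Z, k.W) := IsOpenImmersion.isoOfRangeEq c.uZ k.affW.fromSpec
    (by rw [k.affW.range_fromSpec, ← hW]; rfl)
  have iX : eX.inv ≫ c.uX = k.fX := IsOpenImmersion.isoOfRangeEq_inv_fac ..
  have iY : eY.inv ≫ c.uY = k.fY := IsOpenImmersion.isoOfRangeEq_inv_fac ..
  have iZ : eZ.inv ≫ c.uZ = k.affW.fromSpec := IsOpenImmersion.isoOfRangeEq_inv_fac ..
  obtain ⟨α, hα⟩ := Spec.map_surjective eX.inv
  obtain ⟨β, hβ⟩ := Spec.map_surjective eY.inv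
  obtain ⟨δ, hδ⟩ := Spec.map_surjective eZ.inv
  haveI : IsIso (Spec.map α) := hα ▸ inferInstance
  haveI : IsIso (Spec.map β) := hβ ▸ inferInstance
  haveI : IsIso (Spec.map δ) := hδ ▸ inferInstance
  haveI : IsIso α := by
    haveI : IsIso (Scheme.Spec.map α.op) := inferInstanceAs (IsIso (Spec.map α))
    haveI : IsIso α.op := isIso_of_reflects_iso _ Scheme.Spec
    exact isIso_of_op α
  haveI : IsIso β := by
    haveI : IsIso (Scheme.Spec.map β.op) := inferInstanceAs (IsIso (Spec.map β))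
    haveI : IsIso β.op := isIso_of_reflects_iso _ Scheme.Spec
    exact isIso_of_op β
  haveI : IsIso δ := by
    haveI : IsIso (Scheme.Spec.map δ.op) := inferInstanceAs (IsIso (Spec.map δ))
    haveI : IsIso δ.op := isIso_of_reflects_iso _ Scheme.Spec
    exact isIso_of_op δ
  have hpX : α ≫ k.pX = c.p ≫ δ := Spec.map_injective (by
    rw [Spec.map_comp, Spec.map_comp, hα, hδ, ← cancel_mono c.uX, Category.assoc, Category.assoc, iX,
      k.fX_pX, c.hZ.w, reassoc_of% iZ])
  have hpY : β ≫ k.pY = c.q ≫ δ := Spec.map_injective (by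
    rw [Spec.map_comp, Spec.map_comp, hβ, hδ, ← cancel_mono c.uY, Category.assoc, Category.assoc, iY,
      k.fY_pY, c.hZY, reassoc_of% iZ])
  let ψ : c.R →+* k.R := (((c.p1 ≫ β).hom).prod ((c.p2 ≫ α).hom)).codRestrict k.R fun r => by
    have h1 := congr($(hpY) (c.p1 r))
    have h2 := congr($(hpX) (c.p2 r))
    change k.pY _ = k.pX _
    exact h1.trans ((congrArg (δ ·) (c.sq.comm' r)).trans h2.symm)
  have hψ : Function.Bijective ψ := by
    constructor
    · intro r r' h
      have h1 : β (c.p1 r) = β (c.p1 r') := congr($(h).1.1)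
      have h2 : α (c.p2 r) = α (c.p2 r') := congr($(h).1.2)
      exact c.sq.ext ((ConcreteCategory.bijective_of_isIso β).1 h1) ((ConcreteCategory.bijective_of_isIso α).1 h2)
    · rintro ⟨⟨y, x⟩, hyx⟩
      obtain ⟨y', rfl⟩ := (ConcreteCategory.bijective_of_isIso β).2 y
      obtain ⟨x', rfl⟩ := (ConcreteCategory.bijective_of_isIso α).2 x
      obtain ⟨r, ⟨hr1, hr2⟩, -⟩ := c.sq.exu y' x' ((ConcreteCategory.bijective_of_isIso δ).1
        ((congr($(hpY) y')).symm.trans (hyx.trans congr($(hpX) x'))))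
      exact ⟨r, Subtype.ext (Prod.ext (congrArg (β ·) hr1) (congrArg (α ·) hr2))⟩
  refine ⟨Sp ψ, ?_, ?_⟩
  · haveI : IsIso (CommRingCat.ofHom ψ) := (ConcreteCategory.isIso_iff_bijective _).2 hψ
    exact inferInstanceAs (IsIso (Spec.map _))
  have hcomp : ιc i j k ≫ φ = Sp ψ ≫ c.u := by
    refine (isPushout_Sp k.sq).hom_ext ?_ ?_
    · change k.ιY ≫ ιc i j k ≫ φ = k.ιY ≫ Sp ψ ≫ c.u
      rw [← reassoc_of% (fY_b hc k), hb, ← iY, Category.assoc, ← c.hY.w, ← hβ]
      simp only [← Category.assoc]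
      congr 1
      rw [← Spec.map_comp, GoodPair.ιY, Sp, Sp, ← Spec.map_comp]
      rfl
    · change k.ιX ≫ ιc i j k ≫ φ = k.ιX ≫ Sp ψ ≫ c.u
      rw [← reassoc_of% (fX_a hc k), ha, ← iX, Category.assoc, ← c.hX.w, ← hα]
      simp only [← Category.assoc]
      congr 1
      rw [← Spec.map_comp, GoodPair.ιX, Sp, Sp, ← Spec.map_comp]
      rfl
  refine IsOpenImmersion.isPullback _ _ _ _ hcomp ?_
  ext p
  constructor
  · intro hp
    rcases jointly_surjective_ab hc p with ⟨x, rfl⟩ | ⟨y, rfl⟩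
    · have hx : x ∈ k.U := (c.mem_pair_U w).2 (congr($(ha) x) ▸ hp)
      rw [← preimage_a hc k] at hx
      exact hx
    · have hy : y ∈ k.V := (c.mem_pair_V w).2 (congr($(hb) y) ▸ hp)
      rw [← preimage_b hc k] at hy
      exact hy
  · rintro ⟨Q, rfl⟩
    exact ⟨Sp ψ Q, by rw [← Scheme.Hom.comp_apply, ← hcomp, Scheme.Hom.comp_apply]⟩

end SqChart

/-- A square which is locally `Spec` of a fibre square of rings is a pushout of schemes. -/
theorem isPushout_of_charts {i : Z ⟶ X} {j : Z ⟶ Y} {a : X ⟶ P} {b : Y ⟶ P} [IsClosedImmersion i] [IsAffineHom j]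
    (w : i ≫ a = j ≫ b) (h : ∀ x : P, ∃ c : SqChart i j a b, x ∈ c.u.opensRange) : IsPushout i j a b := by
  choose c hc' using h
  have hc : Glue.Covers i j := fun y => ⟨(c (b y)).pair w, ((c (b y)).mem_pair_V w).2 (hc' _)⟩
  have hG := Glue.isPushout hc
  let φ := hG.desc a b w
  have ha : Glue.a hc ≫ φ = a := hG.inl_desc _ _ _
  have hb : Glue.b hc ≫ φ = b := hG.inr_desc _ _ _
  let 𝒰 : P.OpenCover := Scheme.openCoverOfIsOpenCover _ (fun x => (c x).u.opensRange)
    (.mk <| top_le_iff.mp fun x _ => Opens.mem_iSup.mpr ⟨x, hc' x⟩)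
  haveI : IsIso φ := by
    refine (IsZariskiLocalAtTarget.iff_of_openCover (P := isomorphisms Scheme) 𝒰).2 fun x => ?_
    change IsIso (pullback.snd φ (c x).u.opensRange.ι)
    obtain ⟨s, hs, hpb⟩ := (c x).isPullback_comparison w hc φ ha hb
    have hpb' : IsPullback (s ≫ (c x).u.isoOpensRange.hom) (Glue.ιc i j ((c x).pair w))
        (c x).u.opensRange.ι φ :=
      hpb.of_iso (Iso.refl _) (c x).u.isoOpensRange (Iso.refl _) (Iso.refl _) (by simp) (by simp) (by simp) (by simp)
    rw [← hpb'.flip.isoPullback_inv_snd]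
    infer_instance
  exact hG.of_iso (Iso.refl _) (Iso.refl _) (Iso.refl _) (asIso φ) (by simp) (by simp) (by simpa using ha) (by simpa using hb)

end Groth.SpecFerrand
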