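import Mathlib
import Groth.Agent.SpecFerrand.BCRing
import Groth.Agent.SpecFerrand.Criterion

/-!
Base change of Ferrand pushouts.
-/

set_option autoImplicit false

universe u

open CategoryTheory CategoryTheory.Limits AlgebraicGeometry TopologicalSpace MorphismProperty TensorProduct

noncomputable section

namespace Groth.SpecFerrand

section Ring

variable {C C' A₁ A₂ : Type u} [CommRing C] [CommRing C'] [CommRing A₁] [CommRing A₂]
  [Algebra C C'] [Algebra C A₁] [Algebra C A₂]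

theorem isPullback_Sp_tensor (A : Type u) [CommRing A] [Algebra C A] :
    IsPullback (Sp (Algebra.TensorProduct.includeLeftRingHom : A →+* A ⊗[C] C'))
      (Sp (Algebra.TensorProduct.includeRight : C' →ₐ[C] A ⊗[C] C').toRingHom)
      (Sp (algebraMap C A)) (Sp (algebraMap C C')) :=
  isPullback_SpecMap_of_isPushout _ _ _ _ (CommRingCat.isPushout_tensorProduct C A C')

theorem isPullback_Sp_map (f : A₁ →ₐ[C] A₂) :
    IsPullback (Sp (Algebra.TensorProduct.includeLeftRingHom : A₂ →+* A₂ ⊗[C] C'))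
      (Sp (Algebra.TensorProduct.map f (AlgHom.id C C')).toRingHom)
      (Sp f.toRingHom) (Sp (Algebra.TensorProduct.includeLeftRingHom : A₁ →+* A₁ ⊗[C] C')) := by
  refine IsPullback.of_bot ?_ ?_ (isPullback_Sp_tensor A₁)
  · rw [Sp_comp, Sp_comp]
    convert isPullback_Sp_tensor (C' := C') A₂ using 3
    · exact RingHom.ext fun c => by simp
    · exact RingHom.ext fun c => f.commutes c
  · rw [Sp_comp, Sp_comp]
    exact congrArg Sp (RingHom.ext fun a => by simp)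

end Ring

/-- Pulling back an affine chart of a morphism along a base change. -/
theorem isPullback_lift {A₀ R₀ A₁ R₁ X P X' P' : Scheme.{u}} {a : X ⟶ P} {a' : X' ⟶ P'} {fX : X' ⟶ X} {fP : P' ⟶ P}
    (hsq : IsPullback fX a' a fP) {v : A₀ ⟶ R₀} {uA : A₀ ⟶ X} {uR : R₀ ⟶ P} (hX : IsPullback v uA uR a)
    {iA : A₁ ⟶ A₀} {v' : A₁ ⟶ R₁} {iR : R₁ ⟶ R₀} (hA : IsPullback iA v' v iR) {uR' : R₁ ⟶ P'}
    (huR : uR' ≫ fP = iR ≫ uR) :
    ∃ uA' : A₁ ⟶ X', uA' ≫ fX = iA ≫ uA ∧ IsPullback v' uA' uR' a' := by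
  have s : IsPullback (iA ≫ uA) v' a (uR' ≫ fP) := by
    rw [huR]; exact hA.paste_horiz hX.flip
  exact ⟨_, hsq.lift_fst _ _ _, (IsPullback.of_right' s hsq).flip⟩

variable {X Y Z P S : Scheme.{u}}

namespace SqChart

variable {i : Z ⟶ X} {j : Z ⟶ Y} {a : X ⟶ P} {b : Y ⟶ P}

/-- The tensor product of a chart along `γ` is again a fibre square. -/
def ChartExact (c : SqChart i j a b) {C C' : CommRingCat.{u}} (φ : C ⟶ c.R) (γ : C ⟶ C') : Prop :=
  letI := γ.hom.toAlgebra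
  letI := φ.hom.toAlgebra
  letI := (c.p1.hom.comp φ.hom).toAlgebra
  letI := (c.p2.hom.comp φ.hom).toAlgebra
  TensorExact (C := C) (B' := c.R) C' ({ c.p1.hom with commutes' := fun _ => rfl } : c.R →ₐ[C] c.B)
    ({ c.p2.hom with commutes' := fun _ => rfl } : c.R →ₐ[C] c.A)

end SqChart

/-- Base change of a pushout that is locally `Spec` of fibre squares with exact tensor products. -/
theorem isPushout_baseChange {X' Y' Z' P' S' : Scheme.{u}}
    {i : Z ⟶ X} {j : Z ⟶ Y} {a : X ⟶ P} {b : Y ⟶ P} [IsClosedImmersion i] [IsAffineHom j]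
    {r : P ⟶ S} {g : S' ⟶ S} {fP : P' ⟶ P} {sP : P' ⟶ S'} (hP : IsPullback fP sP r g)
    {fX : X' ⟶ X} {fY : Y' ⟶ Y} {fZ : Z' ⟶ Z} {i' : Z' ⟶ X'} {j' : Z' ⟶ Y'} {a' : X' ⟶ P'} {b' : Y' ⟶ P'}
    (hsX : IsPullback fX a' a fP) (hsY : IsPullback fY b' b fP) (hsi : IsPullback fZ i' i fX)
    (hsj : IsPullback fZ j' j fY) (w' : i' ≫ a' = j' ≫ b')
    (hch : ∀ x : P', ∃ (C C' : CommRingCat.{u}) (c : SqChart i j a b) (W : Spec C ⟶ S) (W' : Spec C' ⟶ S')
      (φ : C ⟶ c.R) (γ : C ⟶ C'), IsOpenImmersion W ∧ IsOpenImmersion W' ∧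
        c.u ≫ r = Spec.map φ ≫ W ∧ W' ≫ g = Spec.map γ ≫ W ∧ c.ChartExact φ γ ∧
        fP x ∈ c.u.opensRange ∧ sP x ∈ Set.range W') :
    IsPushout i' j' a' b' := by
  haveI : IsClosedImmersion i' := MorphismProperty.of_isPullback hsi inferInstance
  haveI : IsAffineHom j' := MorphismProperty.of_isPullback hsj inferInstance
  refine isPushout_of_charts w' fun x => ?_
  obtain ⟨C, C', c, W, W', φ, γ, hW, hW', hu, hw, hex, hxu, hxW⟩ := hch x
  letI := γ.hom.toAlgebra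
  letI := φ.hom.toAlgebra
  letI := (c.p1.hom.comp φ.hom).toAlgebra
  letI := (c.p2.hom.comp φ.hom).toAlgebra
  letI := (c.q.hom.comp (c.p1.hom.comp φ.hom)).toAlgebra
  let p1 : c.R →ₐ[C] c.B := { c.p1.hom with commutes' := fun _ => rfl }
  let p2 : c.R →ₐ[C] c.A := { c.p2.hom with commutes' := fun _ => rfl }
  let q : c.B →ₐ[C] c.D := { c.q.hom with commutes' := fun _ => rfl }
  let p : c.A →ₐ[C] c.D := { c.p.hom with commutes' := fun x => (c.sq.comm' (φ.hom x)).symm }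
  have hsq : Sq p1.toRingHom p2.toRingHom q.toRingHom p.toRingHom := c.sq
  have hsq' := hsq.baseChange (hex : TensorExact (C' := C') p1 p2)
  have h2 : IsPullback (Sp (Algebra.TensorProduct.includeLeftRingHom : c.R →+* c.R ⊗[C] C'))
      (Sp (Algebra.TensorProduct.includeRight : C' →ₐ[C] c.R ⊗[C] C').toRingHom)
      (Spec.map φ ≫ W) (Spec.map γ ≫ W) :=
    have h := isPullback_Sp_tensor (C := C) (C' := C') c.R
    IsPullback.of_isLimit (PullbackCone.isLimitOfCompMono (Spec.map φ) (Spec.map γ) W _ h.isLimit)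
  rw [← hu, ← hw] at h2
  let m := h2.isoPullback.hom ≫ pullback.map (c.u ≫ r) (W' ≫ g) r g c.u W' (𝟙 S) (by simp) (by simp) ≫
    hP.isoPullback.inv
  have hm1 : m ≫ fP = Sp (Algebra.TensorProduct.includeLeftRingHom : c.R →+* c.R ⊗[C] C') ≫ c.u := by
    simp only [m, Category.assoc]
    rw [hP.isoPullback_inv_fst, pullback.lift_fst, ← Category.assoc, h2.isoPullback_hom_fst]
  have hxm : x ∈ Set.range m := by
    have hz : hP.isoPullback.hom x ∈ Set.range
        (pullback.map (c.u ≫ r) (W' ≫ g) r g c.u W' (𝟙 S) (by simp) (by simp)) := by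
      rw [Scheme.Pullback.range_map]
      refine ⟨?_, ?_⟩
      · show (hP.isoPullback.hom ≫ pullback.fst r g) x ∈ Set.range c.u
        rw [hP.isoPullback_hom_fst]; exact hxu
      · show (hP.isoPullback.hom ≫ pullback.snd r g) x ∈ Set.range W'
        rw [hP.isoPullback_hom_snd]; exact hxW
    obtain ⟨z, hz⟩ := hz
    refine ⟨h2.isoPullback.inv z, ?_⟩
    show (h2.isoPullback.inv ≫ m) z = x
    simp only [m, Iso.inv_hom_id_assoc, Scheme.Hom.comp_apply, hz]
    rw [← Scheme.Hom.comp_apply, Iso.hom_inv_id]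
    rfl
  have hopen : IsOpenImmersion m := inferInstanceAs (IsOpenImmersion (_ ≫ _))
  clear_value m
  obtain ⟨uX', hX1, hX2⟩ := isPullback_lift hsX c.hX (isPullback_Sp_map (C' := C') p2) hm1
  obtain ⟨uY', hY1, hY2⟩ := isPullback_lift hsY c.hY (isPullback_Sp_map (C' := C') p1) hm1
  obtain ⟨uZ', hZ1, hZ2⟩ := isPullback_lift hsi c.hZ (isPullback_Sp_map (C' := C') p) hX1
  refine ⟨⟨.of (c.R ⊗[C] C'), .of (c.B ⊗[C] C'), .of (c.A ⊗[C] C'), .of (c.D ⊗[C] C'), _, _, _, _, hsq', m, uX', uY', uZ',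
    hopen, hX2, hY2, hZ2, ?_⟩, hxm⟩
  refine hsY.hom_ext ?_ ?_
  · rw [Category.assoc, hY1, Category.assoc, ← hsj.w, reassoc_of% hZ1, ← c.hZY, ← Category.assoc,
      ← Category.assoc]
    refine congrArg (· ≫ c.uY) ?_
    change Sp _ ≫ Sp _ = Sp _ ≫ Sp _
    rw [Sp_comp, Sp_comp]
    exact congrArg Sp (RingHom.ext fun b => by simp; rfl)
  · rw [Category.assoc, Category.assoc, ← hY2.w, ← w', ← Category.assoc uZ', ← hZ2.w, Category.assoc, ← hX2.w,
      ← Category.assoc, ← Category.assoc]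
    refine congrArg (· ≫ m) ?_
    change Sp _ ≫ Sp _ = Sp _ ≫ Sp _
    rw [Sp_comp, Sp_comp]
    exact congrArg Sp hsq'.comm

namespace Glue

variable {i : Z ⟶ X} {j : Z ⟶ Y} [IsClosedImmersion i] [IsAffineHom j] {a' : X ⟶ P} {b' : Y ⟶ P}

/-- The chart of a pushout at a good pair. -/
def sqChart (hc : Covers i j) (hP : IsPushout i j a' b') (k : GoodPair i j) : SqChart i j a' b' where
  R := .of k.R
  B := Γ(Y, k.V)
  A := Γ(X, k.U)
  D := Γ(Z, k.W)
  p1 := CommRingCat.ofHom k.prY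
  p2 := CommRingCat.ofHom k.prX
  q := k.pY
  p := k.pX
  sq := k.sq
  u := ιc i j k ≫ ((isPushout hc).isoIsPushout _ _ hP).hom
  uX := k.fX
  uY := k.fY
  uZ := k.affW.fromSpec
  open_u := inferInstance
  hX := (isPullback_chartX hc k).of_iso (Iso.refl _) (Iso.refl _) (Iso.refl _) ((isPushout hc).isoIsPushout _ _ hP)
    (by simp) (by simp) (by simp) (by simp)
  hY := (isPullback_chartY hc k).of_iso (Iso.refl _) (Iso.refl _) (Iso.refl _) ((isPushout hc).isoIsPushout _ _ hP)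
    (by simp) (by simp) (by simp) (by simp)
  hZ := by
    haveI := k.affU.isOpenImmersion_fromSpec
    haveI := k.affW.isOpenImmersion_fromSpec
    refine IsOpenImmersion.isPullback _ _ _ _ k.fX_pX.symm ?_
    show i ⁻¹ᵁ k.affU.fromSpec.opensRange = k.affW.fromSpec.opensRange
    rw [k.affU.opensRange_fromSpec, k.affW.opensRange_fromSpec]
    exact k.eq
  hZY := k.fY_pY

theorem exists_sqChart (hc : Covers i j) (hP : IsPushout i j a' b') (k : GoodPair i j) :
    ∃ c : SqChart i j a' b', c.R = CommRingCat.of k.R ∧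
      ∀ x, x ∈ c.u.opensRange ↔ x ∈ Set.range (ιc i j k ≫ ((isPushout hc).isoIsPushout _ _ hP).hom) :=
  ⟨sqChart hc hP k, rfl, fun _ => Iff.rfl⟩

theorem exists_sqChart_le (hc : Covers i j) (hP : IsPushout i j a' b') {x : P} {V : P.Opens} (hx : x ∈ V) :
    ∃ c : SqChart i j a' b', x ∈ c.u.opensRange ∧ c.u.opensRange ≤ V := by
  set e := (isPushout hc).isoIsPushout _ _ hP
  have hxe : e.hom (e.inv x) = x := show (e.inv ≫ e.hom) x = x by rw [e.inv_hom_id]; rfl
  obtain ⟨k, Q, hQ, hk⟩ := exists_chart_le (p := e.inv x) (V := e.hom ⁻¹ᵁ V) (by show e.hom (e.inv x) ∈ V; rw [hxe]; exact hx)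
  obtain ⟨c, -, hc'⟩ := exists_sqChart hc hP k
  exact ⟨c, (hc' x).2 ⟨Q, by rw [Scheme.Hom.comp_apply, hQ]; exact hxe⟩, fun y hy => by
    obtain ⟨Q', rfl⟩ := (hc' y).1 hy; exact hk Q'⟩

end Glue

namespace SqChart

variable {i : Z ⟶ X} {j : Z ⟶ Y} {a : X ⟶ P} {b : Y ⟶ P}

theorem chartExact_of_flat_left (c : SqChart i j a b) {C C' : CommRingCat.{u}} (φ : C ⟶ c.R) (γ : C ⟶ C')
    (hγ : γ.hom.Flat) : c.ChartExact φ γ := by
  letI := γ.hom.toAlgebra
  letI := φ.hom.toAlgebra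
  letI := (c.p1.hom.comp φ.hom).toAlgebra
  letI := (c.p2.hom.comp φ.hom).toAlgebra
  letI := (c.q.hom.comp (c.p1.hom.comp φ.hom)).toAlgebra
  let q : c.B →ₐ[C] c.D := { c.q.hom with commutes' := fun _ => rfl }
  let p : c.A →ₐ[C] c.D := { c.p.hom with commutes' := fun x => (c.sq.comm' (φ.hom x)).symm }
  haveI : Module.Flat C C' := hγ
  exact tensorExact_of_flat_left (q := q) (p := p) c.sq

theorem chartExact_of_flat_quot (c : SqChart i j a b) {C C' : CommRingCat.{u}} (φ : C ⟶ c.R) (γ : C ⟶ C')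
    (hφ : (φ ≫ c.p1 ≫ c.q).hom.Flat) : c.ChartExact φ γ := by
  letI := γ.hom.toAlgebra
  letI := φ.hom.toAlgebra
  letI := (c.p1.hom.comp φ.hom).toAlgebra
  letI := (c.p2.hom.comp φ.hom).toAlgebra
  letI := (c.q.hom.comp (c.p1.hom.comp φ.hom)).toAlgebra
  let q : c.B →ₐ[C] c.D := { c.q.hom with commutes' := fun _ => rfl }
  let p : c.A →ₐ[C] c.D := { c.p.hom with commutes' := fun x => (c.sq.comm' (φ.hom x)).symm }
  haveI : Module.Flat C c.D := hφ
  exact tensorExact_of_flat_quot (q := q) (p := p) c.sq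

end SqChart

theorem isPullback_map {S' : Scheme.{u}} {g : S' ⟶ S} (r : P ⟶ S) (a : X ⟶ P) (t : X ⟶ S) (ht : t = a ≫ r) :
    IsPullback (pullback.fst t g) (pullback.map t g r g a (𝟙 S') (𝟙 S) ((Category.comp_id _).trans ht)
      ((Category.comp_id g).trans (Category.id_comp g).symm)) a (pullback.fst r g) := by
  subst ht
  refine IsPullback.of_bot ?_ (pullback.lift_fst _ _ _).symm (IsPullback.of_hasPullback r g)
  rw [pullback.lift_snd, Category.comp_id]
  exact IsPullback.of_hasPullback (a ≫ r) g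

theorem isPullback_lift_fst {S' : Scheme.{u}} {g : S' ⟶ S} (r : P ⟶ S) (a : X ⟶ P) (t : X ⟶ S) (ht : t = a ≫ r)
    (h : (pullback.fst t g ≫ a) ≫ r = pullback.snd t g ≫ g) :
    IsPullback (pullback.fst t g) (pullback.lift (pullback.fst t g ≫ a) (pullback.snd t g) h) a
      (pullback.fst r g) := by
  convert isPullback_map (g := g) r a t ht using 1
  exact pullback.hom_ext (by simp [pullback.map]) (by simp [pullback.map])

theorem flat_of_comp_mono {A B : CommRingCat.{u}} (φ : A ⟶ B) {T : Scheme.{u}} (W : Spec A ⟶ T) [Mono W]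
    (h : Flat (Spec.map φ ≫ W)) : φ.hom.Flat := by
  have sq : IsPullback (Spec.map φ) (𝟙 _) W (Spec.map φ ≫ W) :=
    .flip (IsPullback.of_horiz_isIso_mono ⟨by simp⟩)
  have : Flat (Spec.map φ) := MorphismProperty.of_isPullback sq.flip h
  exact (HasRingHomProperty.Spec_iff (P := @Flat)).1 this

namespace Glue

variable {i : Z ⟶ X} {j : Z ⟶ Y} [IsClosedImmersion i] [IsAffineHom j] {a' : X ⟶ P} {b' : Y ⟶ P}

theorem exists_chartData {P' S' : Scheme.{u}} (hc : Covers i j) (hP : IsPushout i j a' b') {r : P ⟶ S} {g : S' ⟶ S}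
    {fP : P' ⟶ P} {sP : P' ⟶ S'} (w : fP ≫ r = sP ≫ g) (x : P') :
    ∃ (C C' : CommRingCat.{u}) (c : SqChart i j a' b') (W : Spec C ⟶ S) (W' : Spec C' ⟶ S') (φ : C ⟶ c.R) (γ : C ⟶ C'),
      IsOpenImmersion W ∧ IsOpenImmersion W' ∧ c.u ≫ r = Spec.map φ ≫ W ∧ W' ≫ g = Spec.map γ ≫ W ∧
        fP x ∈ c.u.opensRange ∧ sP x ∈ Set.range W' := by
  obtain ⟨U, hU, hxU, -⟩ := exists_isAffineOpen_mem_and_subset (x := r (fP x)) (U := ⊤) trivial
  have hsx : sP x ∈ g ⁻¹ᵁ U := by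
    show g (sP x) ∈ U
    rw [← Scheme.Hom.comp_apply, ← w]
    exact hxU
  obtain ⟨U', hU', hxU', hle⟩ := exists_isAffineOpen_mem_and_subset hsx
  obtain ⟨c, hxc, hcU⟩ := exists_sqChart_le hc hP (V := r ⁻¹ᵁ U) (x := fP x) hxU
  haveI := hU.isOpenImmersion_fromSpec
  let l := IsOpenImmersion.lift hU.fromSpec (c.u ≫ r) (by
    rintro _ ⟨Q, rfl⟩; rw [hU.range_fromSpec]; exact hcU ⟨Q, rfl⟩)
  obtain ⟨φ, hφ⟩ := Spec.map_surjective l
  refine ⟨_, _, c, hU.fromSpec, hU'.fromSpec, φ, g.appLE U U' hle, inferInstance, hU'.isOpenImmersion_fromSpec,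
    ?_, ?_, hxc, ?_⟩
  · rw [hφ, IsOpenImmersion.lift_fac]
  · rw [IsAffineOpen.SpecMap_appLE_fromSpec g hU hU' hle]
  · rw [hU'.range_fromSpec]; exact hxU'

end Glue

end Groth.SpecFerrand
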