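import Mathlib
import Groth.Agent.SpecFerrand.Local
import Groth.Agent.S6900

/-!
Relative fibre squares of rings, in categorical language.
-/

set_option autoImplicit false

universe u

open CategoryTheory CategoryTheory.Limits

noncomputable section

namespace Groth.SpecFerrand

theorem relative_ring {R B A D R' B' A' D' : CommRingCat.{u}} {p1 : R ⟶ B} {p2 : R ⟶ A} {q : B ⟶ D} {p : A ⟶ D}
    (sq : Sq p1.hom p2.hom q.hom p.hom) {p1' : R' ⟶ B'} {p2' : R' ⟶ A'} {q' : B' ⟶ D'} {p' : A' ⟶ D'}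
    (sq' : Sq p1'.hom p2'.hom q'.hom p'.hom) {ψ : R ⟶ R'} {β : B ⟶ B'} {α : A ⟶ A'} {δ : D ⟶ D'}
    (c1 : p1 ≫ β = ψ ≫ p1') (c2 : p2 ≫ α = ψ ≫ p2') (hq : IsPushout q β δ q') (hp : IsPushout p α δ p') :
    (IsPushout p1 ψ β p1' ∧ IsPushout p2 ψ α p2') ∧
      (ψ.hom.FiniteType ↔ β.hom.FiniteType ∧ α.hom.FiniteType) ∧
      (ψ.hom.Flat ↔ β.hom.Flat ∧ α.hom.Flat) ∧
      (ψ.hom.Flat ∧ ψ.hom.FinitePresentation ↔
        (β.hom.Flat ∧ β.hom.FinitePresentation) ∧ (α.hom.Flat ∧ α.hom.FinitePresentation)) ∧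
      (ψ.hom.Smooth ↔ β.hom.Smooth ∧ α.hom.Smooth) ∧
      (ψ.hom.Etale ↔ β.hom.Etale ∧ α.hom.Etale) := by
  letI := p1.hom.toAlgebra
  letI := p2.hom.toAlgebra
  letI := q.hom.toAlgebra
  letI := p.hom.toAlgebra
  letI := (q.hom.comp p1.hom).toAlgebra
  letI := p1'.hom.toAlgebra
  letI := p2'.hom.toAlgebra
  letI := q'.hom.toAlgebra
  letI := p'.hom.toAlgebra
  letI := (q'.hom.comp p1'.hom).toAlgebra
  letI := ψ.hom.toAlgebra
  letI := β.hom.toAlgebra
  letI := α.hom.toAlgebra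
  letI := δ.hom.toAlgebra
  letI := (p1'.hom.comp ψ.hom).toAlgebra
  letI := (p2'.hom.comp ψ.hom).toAlgebra
  letI := (q'.hom.comp β.hom).toAlgebra
  letI := (p'.hom.comp α.hom).toAlgebra
  haveI : IsScalarTower R B D := IsScalarTower.of_algebraMap_eq' rfl
  haveI : IsScalarTower R A D := IsScalarTower.of_algebraMap_eq' sq.comm
  haveI : IsScalarTower R' B' D' := IsScalarTower.of_algebraMap_eq' rfl
  haveI : IsScalarTower R' A' D' := IsScalarTower.of_algebraMap_eq' sq'.comm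
  haveI : IsScalarTower R B B' :=
    IsScalarTower.of_algebraMap_eq' (congrArg CommRingCat.Hom.hom c1).symm
  haveI : IsScalarTower R R' B' := IsScalarTower.of_algebraMap_eq' rfl
  haveI : IsScalarTower R A A' :=
    IsScalarTower.of_algebraMap_eq' (congrArg CommRingCat.Hom.hom c2).symm
  haveI : IsScalarTower R R' A' := IsScalarTower.of_algebraMap_eq' rfl
  haveI : IsScalarTower B B' D' := IsScalarTower.of_algebraMap_eq' rfl
  haveI : IsScalarTower B D D' :=
    IsScalarTower.of_algebraMap_eq' (congrArg CommRingCat.Hom.hom hq.w).symm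
  haveI : IsScalarTower A A' D' := IsScalarTower.of_algebraMap_eq' rfl
  haveI : IsScalarTower A D D' :=
    IsScalarTower.of_algebraMap_eq' (congrArg CommRingCat.Hom.hom hp.w).symm
  have hs : EtMil.IsFibreSquare R B A D := ⟨sq.surj, sq.exu⟩
  have hs' : EtMil.IsFibreSquare R' B' A' D' := ⟨sq'.surj, sq'.exu⟩
  haveI : Algebra.IsPushout B B' D D' := CommRingCat.isPushout_iff_isPushout.1 hq.flip
  haveI : Algebra.IsPushout A A' D D' := CommRingCat.isPushout_iff_isPushout.1 hp.flip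
  obtain ⟨h1, h2⟩ := Groth.EtaleAlgebra.MilnorAlgebra.isPushout_pair hs hs'
  have e1 : IsPushout p1 ψ β p1' := CommRingCat.isPushout_iff_isPushout.2 h1
  have e2 : IsPushout p2 ψ α p2' := CommRingCat.isPushout_iff_isPushout.2 h2
  exact ⟨⟨e1, e2⟩, Groth.Agent.S6900.result R B A D hs R' B' A' D' hs'⟩

end Groth.SpecFerrand
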