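import Mathlib
import Groth.Agent.SpecFerrand.BaseChange
import Groth.Agent.SpecFerrand.RelativeRing

/-!
Pushouts over pushouts: cartesian squares and descent of properties.
-/

set_option autoImplicit false

universe u

open CategoryTheory CategoryTheory.Limits AlgebraicGeometry TopologicalSpace MorphismProperty

noncomputable section

namespace Groth.SpecFerrand

variable {X Y Z P : Scheme.{u}}

theorem SqChart.isPullback_uZ_j {i : Z ⟶ X} {j : Z ⟶ Y} {a : X ⟶ P} {b : Y ⟶ P} (c : SqChart i j a b)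
    (w : i ≫ a = j ≫ b) : IsPullback (Spec.map c.q) c.uZ c.uY j := by
  refine IsOpenImmersion.isPullback _ _ _ _ c.hZY.symm ?_
  rw [opensRange_of_isPullback c.hZ, opensRange_of_isPullback c.hX, opensRange_of_isPullback c.hY,
    ← Scheme.Hom.comp_preimage, ← Scheme.Hom.comp_preimage, w]

theorem isPushout_of_isPullback_Spec {R A B D : CommRingCat.{u}} {f : R ⟶ A} {g : R ⟶ B} {inl : A ⟶ D} {inr : B ⟶ D}
    (h : IsPullback (Spec.map inl) (Spec.map inr) (Spec.map f) (Spec.map g)) : IsPushout f g inl inr := by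
  have hw : f ≫ inl = g ≫ inr := Spec.map_injective (by rw [Spec.map_comp, Spec.map_comp, h.w])
  have hop : IsPullback inl.op inr.op f.op g.op :=
    IsPullback.of_map Scheme.Spec (congrArg Quiver.Hom.op hw) h
  exact hop.flip.unop

/-- A square is cartesian if it is so over an open cover of a corner. -/
theorem isPullback_of_local {X' P' X P : Scheme.{u}} {f : X' ⟶ X} {a' : X' ⟶ P'} {a : X ⟶ P} {k : P' ⟶ P}
    (w : f ≫ a = a' ≫ k)
    (H : ∀ x : P', ∃ (R₁ A₁ : Scheme.{u}) (u : R₁ ⟶ P') (_ : IsOpenImmersion u) (v : A₁ ⟶ R₁) (uA : A₁ ⟶ X'),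
      x ∈ u.opensRange ∧ IsPullback v uA u a' ∧ IsPullback (uA ≫ f) v a (u ≫ k)) :
    IsPullback f a' a k := by
  choose R₁ A₁ u hu v uA hx hsX hsc using H
  let l : X' ⟶ pullback a k := pullback.lift f a' w
  let 𝒰 : P'.OpenCover := Scheme.openCoverOfIsOpenCover _ (fun x => (u x).opensRange)
    (.mk <| top_le_iff.mp fun x _ => Opens.mem_iSup.mpr ⟨x, hx x⟩)
  haveI : IsIso l := by
    refine (IsZariskiLocalAtTarget.iff_of_openCover (P := isomorphisms Scheme) (𝒰.pullback₁ (pullback.snd a k))).2 fun x => ?_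
    change IsIso (pullback.snd l (pullback.fst (pullback.snd a k) (u x).opensRange.ι))
    have hsX' : IsPullback (v x ≫ (u x).isoOpensRange.hom) (uA x) (u x).opensRange.ι a' :=
      (hsX x).of_iso (Iso.refl _) (u x).isoOpensRange (Iso.refl _) (Iso.refl _) (by simp) (by simp) (by simp) (by simp)
    let w' := pullback.lift (uA x ≫ l) (v x ≫ (u x).isoOpensRange.hom)
      (f := pullback.snd a k) (g := (u x).opensRange.ι) (by
        rw [Category.assoc, pullback.lift_snd, Category.assoc, Scheme.Hom.isoOpensRange_hom_ι, (hsX x).w])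
    have sc' : IsPullback (uA x ≫ f) (v x ≫ (u x).isoOpensRange.hom) a ((u x).opensRange.ι ≫ k) :=
      (hsc x).of_iso (Iso.refl _) (Iso.refl _) (u x).isoOpensRange (Iso.refl _) (by simp) (by simp) (by simp) (by simp)
    have sd : IsPullback (pullback.fst (pullback.snd a k) (u x).opensRange.ι ≫ pullback.fst a k)
        (pullback.snd (pullback.snd a k) (u x).opensRange.ι) a ((u x).opensRange.ι ≫ k) :=
      (IsPullback.of_hasPullback (pullback.snd a k) (u x).opensRange.ι).paste_horiz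
        (IsPullback.of_hasPullback a k)
    have hv : IsIso w' := by
      have e : w' = (sc'.isoIsPullback _ _ sd).hom := by
        refine sd.hom_ext ?_ ?_
        · rw [IsPullback.isoIsPullback_hom_fst]
          simp only [w', l, ← Category.assoc, pullback.lift_fst]
          simp only [Category.assoc]
          exact congrArg (uA x ≫ ·) (pullback.lift_fst _ _ _)
        · rw [IsPullback.isoIsPullback_hom_snd, pullback.lift_snd]
      rw [e]; infer_instance
    have hpb : IsPullback (uA x) w' l (pullback.fst (pullback.snd a k) (u x).opensRange.ι) := by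
      refine IsPullback.of_bot ?_ (pullback.lift_fst _ _ _).symm
        (IsPullback.of_hasPullback (pullback.snd a k) (u x).opensRange.ι)
      rw [pullback.lift_snd, pullback.lift_snd]
      exact hsX'.flip
    rw [← hpb.isoPullback_inv_snd]
    infer_instance
  exact (IsPullback.of_hasPullback a k).of_iso (asIso l).symm (Iso.refl _) (Iso.refl _) (Iso.refl _)
    (by simp only [Iso.symm_hom, Iso.refl_hom, Category.comp_id, asIso_inv, IsIso.eq_inv_comp]; exact pullback.lift_fst _ _ _)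
    (by simp only [Iso.symm_hom, Iso.refl_hom, Category.comp_id, asIso_inv, IsIso.eq_inv_comp]; exact pullback.lift_snd _ _ _)
    (by simp) (by simp)

variable {X' Y' Z' P' : Scheme.{u}}
  {i : Z ⟶ X} {j : Z ⟶ Y} [IsClosedImmersion i] [IsAffineHom j] {a : X ⟶ P} {b : Y ⟶ P}
  {i' : Z' ⟶ X'} {j' : Z' ⟶ Y'} [IsClosedImmersion i'] [IsAffineHom j'] {a' : X' ⟶ P'} {b' : Y' ⟶ P'}
  {f : X' ⟶ X} {g : Y' ⟶ Y} {h : Z' ⟶ Z} {k : P' ⟶ P}

/-- A chart of `P'` over a chart of `P`. -/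
structure RelChart (i : Z ⟶ X) (j : Z ⟶ Y) (a : X ⟶ P) (b : Y ⟶ P) (i' : Z' ⟶ X') (j' : Z' ⟶ Y') (a' : X' ⟶ P')
    (b' : Y' ⟶ P') (f : X' ⟶ X) (g : Y' ⟶ Y) (k : P' ⟶ P) where
  /-- chart downstairs -/
  c : SqChart i j a b
  /-- chart upstairs -/
  c' : SqChart i' j' a' b'
  /-- map on corner rings -/
  ψ : c.R ⟶ c'.R
  /-- map on the rings of `Y` -/
  β : c.B ⟶ c'.B
  /-- map on the rings of `X` -/
  α : c.A ⟶ c'.A
  hψ : c'.u ≫ k = Spec.map ψ ≫ c.u
  hβ : c'.uY ≫ g = Spec.map β ≫ c.uY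
  hα : c'.uX ≫ f = Spec.map α ≫ c.uX
  pbY : IsPushout c.p1 ψ β c'.p1
  pbX : IsPushout c.p2 ψ α c'.p2
  ft : ψ.hom.FiniteType ↔ β.hom.FiniteType ∧ α.hom.FiniteType
  flat : ψ.hom.Flat ↔ β.hom.Flat ∧ α.hom.Flat
  fp : ψ.hom.Flat ∧ ψ.hom.FinitePresentation ↔
    (β.hom.Flat ∧ β.hom.FinitePresentation) ∧ (α.hom.Flat ∧ α.hom.FinitePresentation)
  smooth : ψ.hom.Smooth ↔ β.hom.Smooth ∧ α.hom.Smooth
  etale : ψ.hom.Etale ↔ β.hom.Etale ∧ α.hom.Etale

theorem nonempty_relChart (w : i ≫ a = j ≫ b) (w' : i' ≫ a' = j' ≫ b') (hX : IsPullback h i' i f)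
    (hY : IsPullback h j' j g) (ha : a' ≫ k = f ≫ a) (hb : b' ≫ k = g ≫ b)
    (c : SqChart i j a b) (c' : SqChart i' j' a' b') (hle : c'.u.opensRange ≤ k ⁻¹ᵁ c.u.opensRange) :
    ∃ r : RelChart i j a b i' j' a' b' f g k, r.c = c ∧ r.c'.u.opensRange = c'.u.opensRange := by
  have hl : Set.range (c'.u ≫ k) ⊆ Set.range c.u := by
    rintro _ ⟨Q, rfl⟩; exact hle ⟨Q, rfl⟩
  obtain ⟨ψ, hψ⟩ := Spec.map_surjective (IsOpenImmersion.lift c.u (c'.u ≫ k) hl)
  have hψ' : c'.u ≫ k = Spec.map ψ ≫ c.u := by rw [hψ, IsOpenImmersion.lift_fac]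
  have eX : (Spec.map c'.p2 ≫ Spec.map ψ) ≫ c.u = (c'.uX ≫ f) ≫ a := by
    rw [Category.assoc, ← hψ', reassoc_of% c'.hX.w, ha, Category.assoc]
  obtain ⟨α, hα⟩ := Spec.map_surjective (c.hX.lift _ _ eX)
  have hα1 : c.p2 ≫ α = ψ ≫ c'.p2 := Spec.map_injective (by
    rw [Spec.map_comp, Spec.map_comp, hα, c.hX.lift_fst])
  have hα2 : c'.uX ≫ f = Spec.map α ≫ c.uX := by rw [hα, c.hX.lift_snd]
  have eY : (Spec.map c'.p1 ≫ Spec.map ψ) ≫ c.u = (c'.uY ≫ g) ≫ b := by
    rw [Category.assoc, ← hψ', reassoc_of% c'.hY.w, hb, Category.assoc]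
  obtain ⟨β, hβ⟩ := Spec.map_surjective (c.hY.lift _ _ eY)
  have hβ1 : c.p1 ≫ β = ψ ≫ c'.p1 := Spec.map_injective (by
    rw [Spec.map_comp, Spec.map_comp, hβ, c.hY.lift_fst])
  have hβ2 : c'.uY ≫ g = Spec.map β ≫ c.uY := by rw [hβ, c.hY.lift_snd]
  have eZ : (Spec.map c'.p ≫ Spec.map α) ≫ c.uX = (c'.uZ ≫ h) ≫ i := by
    rw [Category.assoc, ← hα2, reassoc_of% c'.hZ.w, ← hX.w, Category.assoc]
  obtain ⟨δ, hδ⟩ := Spec.map_surjective (c.hZ.lift _ _ eZ)
  have hδ2 : Spec.map δ ≫ c.uZ = c'.uZ ≫ h := by rw [hδ, c.hZ.lift_snd]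
  have hδ1 : Spec.map δ ≫ Spec.map c.p = Spec.map c'.p ≫ Spec.map α := by rw [hδ, c.hZ.lift_fst]
  have hδ3 : Spec.map δ ≫ Spec.map c.q = Spec.map c'.q ≫ Spec.map β := by
    rw [← cancel_mono c.uY, Category.assoc, Category.assoc, c.hZY, reassoc_of% hδ2, hY.w, ← hβ2,
      reassoc_of% c'.hZY]
  have sp : IsPullback (Spec.map c'.p) (Spec.map δ) (Spec.map α) (Spec.map c.p) := by
    refine IsPullback.of_bot ?_ hδ1.symm c.hZ
    rw [hδ2, ← hα2]
    exact c'.hZ.paste_vert hX.flip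
  have sqq : IsPullback (Spec.map c'.q) (Spec.map δ) (Spec.map β) (Spec.map c.q) := by
    refine IsPullback.of_bot ?_ hδ3.symm (c.isPullback_uZ_j w)
    rw [hδ2, ← hβ2]
    exact (c'.isPullback_uZ_j w').paste_vert hY.flip
  obtain ⟨⟨h1, h2⟩, t1, t2, t3, t4, t5⟩ := relative_ring c.sq c'.sq hβ1 hα1
    (isPushout_of_isPullback_Spec sqq).flip (isPushout_of_isPullback_Spec sp).flip
  exact ⟨⟨c, c', ψ, β, α, hψ', hβ2, hα2, h1, h2, t1, t2, t3, t4, t5⟩, rfl, rfl⟩

variable (hc : Glue.Covers i j) (hP : IsPushout i j a b) (hc' : Glue.Covers i' j') (hP' : IsPushout i' j' a' b')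
  (hX : IsPullback h i' i f) (hY : IsPullback h j' j g) (ha : a' ≫ k = f ≫ a) (hb : b' ≫ k = g ≫ b)

include hc hP hc' hP' hX hY ha hb

theorem exists_relChart {x : P'} {V : P'.Opens} (hx : x ∈ V) :
    ∃ r : RelChart i j a b i' j' a' b' f g k, x ∈ r.c'.u.opensRange ∧ r.c'.u.opensRange ≤ V := by
  obtain ⟨c, hxc, -⟩ := Glue.exists_sqChart_le hc hP (V := ⊤) (x := k x) trivial
  obtain ⟨c', hxc', hle⟩ := Glue.exists_sqChart_le hc' hP' (V := k ⁻¹ᵁ c.u.opensRange ⊓ V) (x := x) ⟨hxc, hx⟩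
  obtain ⟨r, -, hr⟩ := nonempty_relChart hP.w hP'.w hX hY ha hb c c' (hle.trans inf_le_left)
  exact ⟨r, hr ▸ hxc', hr ▸ hle.trans inf_le_right⟩

/-- A property local at the source and given by ring maps descends to the pushout. -/
theorem property_of_charts {Q : MorphismProperty Scheme.{u}} {Q' : ∀ {R S : Type u} [CommRing R] [CommRing S], (R →+* S) → Prop}
    [HasRingHomProperty Q Q'] [Q.IsStableUnderComposition] [Q.ContainsIdentities]
    (hQ : ∀ r : RelChart i j a b i' j' a' b' f g k, Q' r.ψ.hom) : Q k := by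
  have hmul : ∀ (R S : CommRingCat.{u}) (φ : R ⟶ S) {T : Scheme.{u}} (u : Spec R ⟶ T) [IsOpenImmersion u],
      Q' φ.hom → Q (Spec.map φ ≫ u) := fun R S φ T u _ hφ =>
    Q.comp_mem _ _ ((HasRingHomProperty.Spec_iff (P := Q)).2 hφ) (IsZariskiLocalAtSource.of_isOpenImmersion u)
  have key : ∀ x : P', ∃ r : RelChart i j a b i' j' a' b' f g k, x ∈ r.c'.u.opensRange := fun x => by
    obtain ⟨r, hr, -⟩ := exists_relChart hc hP hc' hP' hX hY ha hb (x := x) (V := ⊤) trivial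
    exact ⟨r, hr⟩
  choose r hr using key
  let 𝒰 : P'.OpenCover := Scheme.openCoverOfIsOpenCover _ (fun x => (r x).c'.u.opensRange)
    (.mk <| top_le_iff.mp fun x _ => Opens.mem_iSup.mpr ⟨x, hr x⟩)
  refine IsZariskiLocalAtSource.of_openCover 𝒰 fun x => ?_
  change Q ((r x).c'.u.opensRange.ι ≫ k)
  rw [← Scheme.Hom.isoOpensRange_inv_comp, Category.assoc, MorphismProperty.cancel_left_of_respectsIso Q,
    (r x).hψ]
  exact hmul _ _ _ _ (hQ _)

/-- The comparison squares are cartesian. -/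
theorem isPullback_inl : IsPullback f a' a k := by
  refine isPullback_of_local ha.symm fun x => ?_
  obtain ⟨r, hr, -⟩ := exists_relChart hc hP hc' hP' hX hY ha hb (x := x) (V := ⊤) trivial
  refine ⟨_, _, r.c'.u, r.c'.open_u, _, _, hr, r.c'.hX, ?_⟩
  rw [r.hψ, r.hα]
  have h1 : IsPullback (Spec.map r.α) (Spec.map r.c'.p2) (Spec.map r.c.p2) (Spec.map r.ψ) :=
    isPullback_SpecMap_of_isPushout _ _ _ _ r.pbX
  exact h1.paste_horiz r.c.hX.flip

/-- The other comparison square is cartesian. -/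
theorem isPullback_inr : IsPullback g b' b k := by
  refine isPullback_of_local hb.symm fun x => ?_
  obtain ⟨r, hr, -⟩ := exists_relChart hc hP hc' hP' hX hY ha hb (x := x) (V := ⊤) trivial
  refine ⟨_, _, r.c'.u, r.c'.open_u, _, _, hr, r.c'.hY, ?_⟩
  rw [r.hψ, r.hβ]
  have h1 : IsPullback (Spec.map r.β) (Spec.map r.c'.p1) (Spec.map r.c.p1) (Spec.map r.ψ) :=
    isPullback_SpecMap_of_isPushout _ _ _ _ r.pbY
  exact h1.paste_horiz r.c.hY.flip

omit [IsClosedImmersion i] [IsAffineHom j] [IsClosedImmersion i'] [IsAffineHom j'] hc hP hc' hP' hX hY ha hb in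
theorem covers_of_closed {X Y Z : Scheme.{u}} (i : Z ⟶ X) (j : Z ⟶ Y) [IsClosedImmersion i] [IsClosedImmersion j] :
    Glue.Covers i j :=
  Glue.covers_of_fibres i j fun y => by
    by_cases h : (j ⁻¹' {y}).Nonempty
    · obtain ⟨z, hz⟩ := h
      obtain ⟨U, hU, hzU, -⟩ := exists_isAffineOpen_mem_and_subset (x := i z) (U := ⊤) trivial
      refine ⟨U, hU, fun w hw => ?_⟩
      rw [j.isClosedEmbedding.injective (hw.trans hz.symm : j w = j z)]
      exact hzU
    · exact ⟨⊥, isAffineOpen_bot X, fun w hw => (h ⟨w, hw⟩).elim⟩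

end Groth.SpecFerrand
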