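import Mathlib
import Groth.Prelude.Def_AlgSp
import Groth.Agent.SpecFerrand.Relative
import Groth.Agent.AlgSpBasic.Diag
import Groth.Agent.AlgSp2.SelfPullbackField
import Groth.Agent.HenselPoint.Points

/-!
Ferrand pushouts stay pushouts among algebraic spaces.
-/

set_option autoImplicit false

universe u

open CategoryTheory CategoryTheory.Limits AlgebraicGeometry TopologicalSpace MorphismProperty AlgSp Opposite

noncomputable section

namespace Groth.SpecFerrand.AlgSpPush

open Groth.AlgSpBasic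

variable {S : Scheme.{u}}

theorem exists_separated_atlas (F : AlgSp.Space S) :
    ∃ (U : Over S) (p : (yon S).obj U ⟶ F.obj), RepWith @Etale p ∧ RepWith @Surjective p ∧
      IsSeparated U.hom := by
  obtain ⟨U, p, he, hs⟩ := F.property.atlas
  let 𝒰 := U.left.affineCover
  let U₀ : Over S := Over.mk ((Sigma.desc 𝒰.f) ≫ U.hom)
  let c : U₀ ⟶ U := Over.homMk (Sigma.desc 𝒰.f) rfl
  haveI hce : Etale c.left := IsZariskiLocalAtSource.sigmaDesc (P := @Etale) fun _ => inferInstance
  haveI hcs : Surjective c.left := inferInstanceAs (Surjective (Sigma.desc 𝒰.f))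
  refine ⟨U₀, (yon S).map c ≫ p, repWith_comp ((repWith_yon_map_iff _ c).2 hce) he,
    repWith_comp ((repWith_yon_map_iff _ c).2 hcs) hs, ?_⟩
  haveI : Scheme.IsSeparated (∐ fun i => 𝒰.X i) := Groth.HenselPoint.isSeparated_sigma _
  haveI : IsSeparated (U₀.hom ≫ terminal.from S) := by
    rw [terminal.comp_from]
    exact inferInstanceAs (IsSeparated (terminal.from (∐ fun i => 𝒰.X i)))
  exact IsSeparated.of_comp U₀.hom (terminal.from S)

theorem hom_ext_yon {Z X Y P : Over S} {i : Z ⟶ X} {j : Z ⟶ Y} {a : X ⟶ P} {b : Y ⟶ P}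
    (hP : IsPushout i j a b) (F : AlgSp.Space S) {u v : (yon S).obj P ⟶ F.obj}
    (hX : (yon S).map a ≫ u = (yon S).map a ≫ v) (hY : (yon S).map b ≫ u = (yon S).map b ≫ v) : u = v := by
  obtain ⟨W, p1, p2, sq⟩ := exists_pullback_of_diag F.property.diag u v
  obtain ⟨lX, hlX⟩ := (yon S).map_surjective (sq.lift _ _ hX)
  obtain ⟨lY, hlY⟩ := (yon S).map_surjective (sq.lift _ _ hY)
  have x1 : lX ≫ p1 = a := (yon S).map_injective (by rw [(yon S).map_comp, hlX, sq.lift_fst])
  have x2 : lX ≫ p2 = a := (yon S).map_injective (by rw [(yon S).map_comp, hlX, sq.lift_snd])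
  have y1 : lY ≫ p1 = b := (yon S).map_injective (by rw [(yon S).map_comp, hlY, sq.lift_fst])
  have y2 : lY ≫ p2 = b := (yon S).map_injective (by rw [(yon S).map_comp, hlY, sq.lift_snd])
  have hZ : i ≫ lX = j ≫ lY := (yon S).map_injective (sq.hom_ext
    (by rw [← (yon S).map_comp, ← (yon S).map_comp, Category.assoc, x1, Category.assoc, y1, hP.w])
    (by rw [← (yon S).map_comp, ← (yon S).map_comp, Category.assoc, x2, Category.assoc, y2, hP.w]))
  let l := hP.desc lX lY hZ
  have e1 : l ≫ p1 = 𝟙 P := hP.hom_ext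
    (by rw [hP.inl_desc_assoc, x1, Category.comp_id]) (by rw [hP.inr_desc_assoc, y1, Category.comp_id])
  have e2 : l ≫ p2 = 𝟙 P := hP.hom_ext
    (by rw [hP.inl_desc_assoc, x2, Category.comp_id]) (by rw [hP.inr_desc_assoc, y2, Category.comp_id])
  calc u = (yon S).map (l ≫ p1) ≫ u := by rw [e1, (yon S).map_id, Category.id_comp]
    _ = (yon S).map (l ≫ p2) ≫ v := by rw [(yon S).map_comp, (yon S).map_comp, Category.assoc, Category.assoc, sq.w]
    _ = v := by rw [e2, (yon S).map_id, Category.id_comp]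

theorem yon_cover_ext {F : AlgSp.Sp S} {T U : Over S} (c : T ⟶ U) [Flat c.left] [Surjective c.left]
    [LocallyOfFinitePresentation c.left] {r₁ r₂ : (yon S).obj U ⟶ F}
    (h : (yon S).map c ≫ r₁ = (yon S).map c ≫ r₂) : r₁ = r₂ := by
  have hs : Presieve.IsSheaf (J S) F.obj := (isSheaf_iff_isSheaf_of_type _ _).1 F.property
  have hmem : Sieve.generate (Presieve.singleton c) ∈ J S U := by
    rw [J_eq, GrothendieckTopology.mem_over_iff]
    refine GrothendieckTopology.superset_covering _ ?_
      (Precoverage.generate_mem_toGrothendieck c.left.singleton_mem_fppfPrecoverage)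
    rw [Sieve.generate_le_iff]
    rintro _ _ ⟨⟩
    rw [Sieve.overEquiv_iff]
    exact ⟨T, Over.homMk (𝟙 _) (by simp), c, ⟨⟩, by apply Over.OverMorphism.ext; simp⟩
  apply (J S).uliftYonedaEquiv.injective
  refine Presieve.IsSeparatedFor.ext ((Presieve.isSheafFor_iff_generate _).2 (hs _ hmem)).isSeparatedFor ?_
  rintro Y f ⟨⟩
  rw [GrothendieckTopology.uliftYonedaEquiv_naturality, GrothendieckTopology.uliftYonedaEquiv_naturality, h]

/-- Good pairs exist over every separated étale pair of a good square. -/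
def CoversStable {X Y Z : Scheme.{u}} (i : Z ⟶ X) (j : Z ⟶ Y) : Prop :=
  ∀ {X' Y' Z' : Scheme.{u}} (f : X' ⟶ X) (g : Y' ⟶ Y) (h : Z' ⟶ Z) (i' : Z' ⟶ X') (j' : Z' ⟶ Y'),
    Etale f → Etale g → IsSeparated f → IsSeparated g → IsPullback h i' i f → IsPullback h j' j g →
    Glue.Covers i' j'

theorem isSeparated_snd {F : AlgSp.Space S} {U : Over S} (p : (yon S).obj U ⟶ F.obj) [IsSeparated U.hom]
    {X X' : Over S} {gX : (yon S).obj X ⟶ F.obj} {fU : X' ⟶ U} {fX : X' ⟶ X}
    (sq : IsPullback ((yon S).map fU) ((yon S).map fX) p gX) : IsSeparated fX.left := by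
  let l := pullback.lift fU.left fX.left ((Over.w fU).trans (Over.w fX).symm)
  haveI : Mono l := ⟨fun {T} x y h => by
    have l1 : l ≫ pullback.fst U.hom X.hom = fU.left := pullback.lift_fst _ _ _
    have l2 : l ≫ pullback.snd U.hom X.hom = fX.left := pullback.lift_snd _ _ _
    have hh : x ≫ fU.left = y ≫ fU.left := by rw [← l1, ← Category.assoc, h, Category.assoc]
    have hk : x ≫ fX.left = y ≫ fX.left := by rw [← l2, ← Category.assoc, h, Category.assoc]
    let T' : Over S := Over.mk (x ≫ X'.hom)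
    let xx : T' ⟶ X' := Over.homMk x rfl
    let yy : T' ⟶ X' := Over.homMk y (by
      show y ≫ X'.hom = x ≫ X'.hom
      rw [← Over.w fX, ← Category.assoc, ← hk, Category.assoc])
    have : xx = yy := (yon S).map_injective (sq.hom_ext
      (by rw [← (yon S).map_comp, ← (yon S).map_comp]; exact congrArg _ (Over.OverMorphism.ext hh))
      (by rw [← (yon S).map_comp, ← (yon S).map_comp]; exact congrArg _ (Over.OverMorphism.ext hk)))
    exact congrArg Over.Hom.left this⟩
  have l2 : l ≫ pullback.snd U.hom X.hom = fX.left := pullback.lift_snd _ _ _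
  rw [← l2]
  infer_instance

theorem exists_desc {Z X Y P : Over S} {i : Z ⟶ X} {j : Z ⟶ Y} {a : X ⟶ P} {b : Y ⟶ P}
    [IsClosedImmersion i.left] [IsAffineHom j.left] (hc : Glue.Covers i.left j.left)
    (hst : CoversStable i.left j.left) (hP : IsPushout i j a b) (F : AlgSp.Space S)
    (g : (yon S).obj X ⟶ F.obj) (h : (yon S).obj Y ⟶ F.obj) (w : (yon S).map i ≫ g = (yon S).map j ≫ h) :
    ∃ τ : (yon S).obj P ⟶ F.obj, (yon S).map a ≫ τ = g ∧ (yon S).map b ≫ τ = h := by
  have hP0 : IsPushout i.left j.left a.left b.left := hP.map (Over.forget S)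
  obtain ⟨U, p, hpe, hps, hUsep⟩ := exists_separated_atlas F
  obtain ⟨X', uX, fX, sqX⟩ := exists_pullback_yon hpe.rep g
  obtain ⟨Y', uY, fY, sqY⟩ := exists_pullback_yon hpe.rep h
  haveI : Etale fX.left := repWith_fst_of_isPullback sqX hpe
  haveI : Etale fY.left := repWith_fst_of_isPullback sqY hpe
  haveI : Surjective fX.left := repWith_fst_of_isPullback sqX hps
  haveI : Surjective fY.left := repWith_fst_of_isPullback sqY hps
  haveI : IsSeparated fX.left := isSeparated_snd p sqX
  haveI : IsSeparated fY.left := isSeparated_snd p sqY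
  let Z' : Over S := Over.mk (pullback.fst i.left fX.left ≫ Z.hom)
  let hh : Z' ⟶ Z := Over.homMk (pullback.fst i.left fX.left) rfl
  let i' : Z' ⟶ X' := Over.homMk (pullback.snd i.left fX.left) (by
    show _ = pullback.fst i.left fX.left ≫ Z.hom
    rw [← Over.w i, pullback.condition_assoc, Over.w fX])
  have sZX : IsPullback hh i' i fX := IsPullback.of_map (Over.forget S)
    (Over.OverMorphism.ext pullback.condition) (IsPullback.of_hasPullback i.left fX.left)
  have sT : IsPullback ((yon S).map i' ≫ (yon S).map uX) ((yon S).map hh) p ((yon S).map i ≫ g) :=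
    (sZX.map (yon S)).flip.paste_horiz sqX
  obtain ⟨j', hj'⟩ := (yon S).map_surjective
    (sqY.lift ((yon S).map (i' ≫ uX)) ((yon S).map (hh ≫ j)) (by
      rw [(yon S).map_comp, (yon S).map_comp, sT.w, Category.assoc, ← w]))
  have hj1 : j' ≫ uY = i' ≫ uX := (yon S).map_injective (by rw [(yon S).map_comp, hj', sqY.lift_fst])
  have hj2 : j' ≫ fY = hh ≫ j := (yon S).map_injective (by rw [(yon S).map_comp, hj', sqY.lift_snd])
  have sZY : IsPullback hh j' j fY := by
    have e : IsPullback ((yon S).map j') ((yon S).map hh) ((yon S).map fY) ((yon S).map j) := by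
      refine IsPullback.of_right ?_ (by rw [← (yon S).map_comp, ← (yon S).map_comp, hj2]) sqY
      rw [← w, ← (yon S).map_comp, hj1, (yon S).map_comp]
      exact sT
    exact (isPullback_of_yon e).flip
  have hX := isPullback_left sZX
  have hY := isPullback_left sZY
  haveI : IsClosedImmersion i'.left := MorphismProperty.of_isPullback hX inferInstance
  haveI : IsAffineHom j'.left := MorphismProperty.of_isPullback hY inferInstance
  have hc' : Glue.Covers i'.left j'.left :=
    hst fX.left fY.left hh.left i'.left j'.left inferInstance inferInstance inferInstance inferInstance hX hY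
  have hP' := Glue.isPushout hc'
  have hcomm : i'.left ≫ fX.left ≫ a.left = j'.left ≫ fY.left ≫ b.left := by
    rw [← Category.assoc, ← hX.w, Category.assoc, hP0.w, ← Category.assoc, hY.w, Category.assoc]
  let k := hP'.desc (fX.left ≫ a.left) (fY.left ≫ b.left) hcomm
  have ha : Glue.a hc' ≫ k = fX.left ≫ a.left := hP'.inl_desc _ _ _
  have hb : Glue.b hc' ≫ k = fY.left ≫ b.left := hP'.inr_desc _ _ _
  have hl := isPullback_inl hc hP0 hc' hP' hX hY ha hb
  have hr := isPullback_inr hc hP0 hc' hP' hX hY ha hb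
  haveI : Etale k := property_of_charts hc hP0 hc' hP' hX hY ha hb fun r => r.etale.2
    ⟨(HasRingHomProperty.Spec_iff (P := @Etale)).1 (MorphismProperty.of_isPullback
        (IsPullback.of_horiz_isIso_mono ⟨by simp⟩ : IsPullback (𝟙 _) (Spec.map r.β) (Spec.map r.β ≫ r.c.uY) r.c.uY)
        (show Etale (Spec.map r.β ≫ r.c.uY) from r.hβ ▸ inferInstance)),
      (HasRingHomProperty.Spec_iff (P := @Etale)).1 (MorphismProperty.of_isPullback
        (IsPullback.of_horiz_isIso_mono ⟨by simp⟩ : IsPullback (𝟙 _) (Spec.map r.α) (Spec.map r.α ≫ r.c.uX) r.c.uX)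
        (show Etale (Spec.map r.α ≫ r.c.uX) from r.hα ▸ inferInstance))⟩
  haveI : Surjective k := ⟨fun x => by
    let e := (Glue.isPushout hc).isoIsPushout _ _ hP0
    rcases Glue.jointly_surjective_ab hc (e.inv x) with ⟨y, hy⟩ | ⟨y, hy⟩
    · obtain ⟨y', rfl⟩ := fX.left.surjective y
      refine ⟨Glue.a hc' y', ?_⟩
      rw [← Scheme.Hom.comp_apply, ha, Scheme.Hom.comp_apply,
        show a.left = Glue.a hc ≫ e.hom from (IsPushout.inl_isoIsPushout_hom _ _ _ _).symm,
        Scheme.Hom.comp_apply, hy, ← Scheme.Hom.comp_apply, e.inv_hom_id]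
      rfl
    · obtain ⟨y', rfl⟩ := fY.left.surjective y
      refine ⟨Glue.b hc' y', ?_⟩
      rw [← Scheme.Hom.comp_apply, hb, Scheme.Hom.comp_apply,
        show b.left = Glue.b hc ≫ e.hom from (IsPushout.inr_isoIsPushout_hom _ _ _ _).symm,
        Scheme.Hom.comp_apply, hy, ← Scheme.Hom.comp_apply, e.inv_hom_id]
      rfl⟩
  let P' : Over S := Over.mk (k ≫ P.hom)
  let kk : P' ⟶ P := Over.homMk k rfl
  let a' : X' ⟶ P' := Over.homMk (Glue.a hc') (by
    show Glue.a hc' ≫ k ≫ P.hom = X'.hom
    rw [reassoc_of% ha, Over.w a, Over.w fX])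
  let b' : Y' ⟶ P' := Over.homMk (Glue.b hc') (by
    show Glue.b hc' ≫ k ≫ P.hom = Y'.hom
    rw [reassoc_of% hb, Over.w b, Over.w fY])
  have sL : IsPullback fX a' a kk := IsPullback.of_map (Over.forget S) (Over.OverMorphism.ext hl.w) hl
  have sR : IsPullback fY b' b kk := IsPullback.of_map (Over.forget S) (Over.OverMorphism.ext hr.w) hr
  have hP'' : IsPushout i' j' a' b' := IsPushout.of_map (Over.forget S) (Over.OverMorphism.ext hP'.w) hP'
  let η : P' ⟶ U := hP''.desc uX uY hj1.symm
  let σ := (yon S).map η ≫ p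
  have hσa : (yon S).map a' ≫ σ = (yon S).map fX ≫ g := by
    rw [← Category.assoc, ← (yon S).map_comp, hP''.inl_desc, sqX.w]
  have hσb : (yon S).map b' ≫ σ = (yon S).map fY ≫ h := by
    rw [← Category.assoc, ← (yon S).map_comp, hP''.inr_desc, sqY.w]
  haveI : Etale kk.left := ‹Etale k›
  haveI : Surjective kk.left := ‹Surjective k›
  have agree : ∀ ⦃T : Over S⦄ (g₁ g₂ : T ⟶ P'), g₁ ≫ kk = g₂ ≫ kk →
      (yon S).map g₁ ≫ σ = (yon S).map g₂ ≫ σ := by
    -- it suffices to treat the universal pair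
    let P2 : Over S := Over.mk (pullback.fst k k ≫ P'.hom)
    let π₁ : P2 ⟶ P' := Over.homMk (pullback.fst k k) rfl
    let π₂ : P2 ⟶ P' := Over.homMk (pullback.snd k k) (by
      show pullback.snd k k ≫ k ≫ P.hom = pullback.fst k k ≫ k ≫ P.hom
      rw [← pullback.condition_assoc])
    suffices (yon S).map π₁ ≫ σ = (yon S).map π₂ ≫ σ by
      intro T g₁ g₂ hg
      let l : T ⟶ P2 := Over.homMk (pullback.lift g₁.left g₂.left congr($(hg).left)) (by
        show pullback.lift _ _ _ ≫ pullback.fst k k ≫ P'.hom = T.hom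
        rw [pullback.lift_fst_assoc, Over.w g₁])
      have l1 : l ≫ π₁ = g₁ := Over.OverMorphism.ext (pullback.lift_fst _ _ _)
      have l2 : l ≫ π₂ = g₂ := Over.OverMorphism.ext (pullback.lift_snd _ _ _)
      rw [← l1, ← l2, (yon S).map_comp, (yon S).map_comp, Category.assoc, Category.assoc, this]
    let c : P2 ⟶ P := π₁ ≫ kk
    haveI : Etale c.left := inferInstanceAs (Etale (pullback.fst k k ≫ k))
    let X2 : Over S := Over.mk (pullback.fst a.left c.left ≫ X.hom)
    let Y2 : Over S := Over.mk (pullback.fst b.left c.left ≫ Y.hom)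
    let Z2 : Over S := Over.mk (pullback.fst (i.left ≫ a.left) c.left ≫ Z.hom)
    let a2 : X2 ⟶ P2 := Over.homMk (pullback.snd a.left c.left) (by
      show _ = pullback.fst a.left c.left ≫ X.hom
      rw [← Over.w c, ← pullback.condition_assoc, Over.w a])
    let b2 : Y2 ⟶ P2 := Over.homMk (pullback.snd b.left c.left) (by
      show _ = pullback.fst b.left c.left ≫ Y.hom
      rw [← Over.w c, ← pullback.condition_assoc, Over.w b])
    let i2 : Z2 ⟶ X2 := Over.homMk (pullback.lift (pullback.fst _ _ ≫ i.left) (pullback.snd _ _)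
      (by rw [Category.assoc, pullback.condition])) (by
      show pullback.lift _ _ _ ≫ pullback.fst a.left c.left ≫ X.hom = pullback.fst _ _ ≫ Z.hom
      rw [pullback.lift_fst_assoc, Category.assoc, Over.w i])
    let j2 : Z2 ⟶ Y2 := Over.homMk (pullback.lift (pullback.fst _ _ ≫ j.left) (pullback.snd _ _)
      (by rw [Category.assoc, ← hP0.w, pullback.condition])) (by
      show pullback.lift _ _ _ ≫ pullback.fst b.left c.left ≫ Y.hom = pullback.fst _ _ ≫ Z.hom
      rw [pullback.lift_fst_assoc, Category.assoc, Over.w j])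
    have hpush : IsPushout i2.left j2.left a2.left b2.left := by
      refine isPushout_baseChange (r := 𝟙 P.left) (g := c.left) (fP := c.left) (sP := 𝟙 P2.left)
        (IsPullback.of_vert_isIso ⟨by simp⟩) (IsPullback.of_hasPullback a.left c.left)
        (IsPullback.of_hasPullback b.left c.left)
        (isPullback_lift_fst a.left i.left (i.left ≫ a.left) rfl _)
        (isPullback_lift_fst b.left j.left (i.left ≫ a.left) hP0.w _) ?_ fun x => ?_
      · exact (pullback.lift_snd _ _ _).trans (pullback.lift_snd _ _ _).symm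
      obtain ⟨C, C', ch, W, W', φ, γ, hW, hW', hu, hw, hxu, hxW⟩ :=
        Glue.exists_chartData hc hP0 (r := 𝟙 P.left) (g := c.left) (fP := c.left) (sP := 𝟙 P2.left) (by simp) x
      refine ⟨C, C', ch, W, W', φ, γ, hW, hW', hu, hw, ch.chartExact_of_flat_left φ γ ?_, hxu, hxW⟩
      refine flat_of_comp_mono _ W ?_
      rw [← hw]
      infer_instance
    have hpush' : IsPushout i2 j2 a2 b2 := IsPushout.of_map (Over.forget S) (Over.OverMorphism.ext hpush.w) hpush
    let qX : X2 ⟶ X := Over.homMk (pullback.fst a.left c.left) rfl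
    let qY : Y2 ⟶ Y := Over.homMk (pullback.fst b.left c.left) rfl
    have cX : qX ≫ a = a2 ≫ c := Over.OverMorphism.ext pullback.condition
    have cY : qY ≫ b = b2 ≫ c := Over.OverMorphism.ext pullback.condition
    have c2 : π₁ ≫ kk = π₂ ≫ kk := Over.OverMorphism.ext pullback.condition
    have keyX : ∀ π : P2 ⟶ P', π ≫ kk = c → (yon S).map a2 ≫ (yon S).map π ≫ σ = (yon S).map qX ≫ g := by
      intro π hπ
      have e : qX ≫ a = (a2 ≫ π) ≫ kk := by rw [Category.assoc, hπ, cX]
      have l1 := sL.lift_fst qX (a2 ≫ π) e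
      have l2 := sL.lift_snd qX (a2 ≫ π) e
      generalize sL.lift qX (a2 ≫ π) e = l at l1 l2
      rw [← Category.assoc, ← (yon S).map_comp, ← l2, (yon S).map_comp, Category.assoc, hσa, ← Category.assoc,
        ← (yon S).map_comp, l1]
    have keyY : ∀ π : P2 ⟶ P', π ≫ kk = c → (yon S).map b2 ≫ (yon S).map π ≫ σ = (yon S).map qY ≫ h := by
      intro π hπ
      have e : qY ≫ b = (b2 ≫ π) ≫ kk := by rw [Category.assoc, hπ, cY]
      have l1 := sR.lift_fst qY (b2 ≫ π) e
      have l2 := sR.lift_snd qY (b2 ≫ π) e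
      generalize sR.lift qY (b2 ≫ π) e = l at l1 l2
      rw [← Category.assoc, ← (yon S).map_comp, ← l2, (yon S).map_comp, Category.assoc, hσb, ← Category.assoc,
        ← (yon S).map_comp, l1]
    exact hom_ext_yon hpush' F ((keyX π₁ rfl).trans (keyX π₂ c2.symm).symm)
      ((keyY π₁ rfl).trans (keyY π₂ c2.symm).symm)
  obtain ⟨τ, hτ⟩ := Groth.AlgSp2.exists_desc_of_cover kk σ agree
  have cancel : ∀ {T T' : Over S} (q : T' ⟶ T) [Etale q.left] [Surjective q.left]
      (r₁ r₂ : (yon S).obj T ⟶ F.obj), (yon S).map q ≫ r₁ = (yon S).map q ≫ r₂ → r₁ = r₂ := by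
    intro T T' q _ _ r₁ r₂ hr
    exact yon_cover_ext q hr
  refine ⟨τ, cancel fX _ _ ?_, cancel fY _ _ ?_⟩
  · rw [← Category.assoc, ← (yon S).map_comp, sL.w, (yon S).map_comp, Category.assoc, hτ, hσa]
  · rw [← Category.assoc, ← (yon S).map_comp, sR.w, (yon S).map_comp, Category.assoc, hτ, hσb]

theorem isPushout_ofScheme {Z X Y P : Over S} {i : Z ⟶ X} {j : Z ⟶ Y} {a : X ⟶ P} {b : Y ⟶ P}
    [IsClosedImmersion i.left] [IsAffineHom j.left] (hc : Glue.Covers i.left j.left)
    (hst : CoversStable i.left j.left) (hP : IsPushout i j a b) :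
    IsPushout ((AlgSp.ofScheme S).map i) ((AlgSp.ofScheme S).map j) ((AlgSp.ofScheme S).map a)
      ((AlgSp.ofScheme S).map b) := by
  have key : ∀ (s : PushoutCocone ((AlgSp.ofScheme S).map i) ((AlgSp.ofScheme S).map j)),
      ∃ τ : (yon S).obj P ⟶ s.pt.obj, (yon S).map a ≫ τ = s.inl.hom ∧ (yon S).map b ≫ τ = s.inr.hom :=
    fun s => exists_desc hc hst hP s.pt s.inl.hom s.inr.hom congr($(s.condition).hom)
  choose τ hτa hτb using key
  refine IsPushout.of_isColimit' ⟨by rw [← Functor.map_comp, ← Functor.map_comp, hP.w]⟩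
    (PushoutCocone.IsColimit.mk _ (fun s => ObjectProperty.homMk (τ s)) (fun s => ?_) (fun s => ?_) fun s m m1 m2 => ?_)
  · exact InducedCategory.hom_ext (hτa s)
  · exact InducedCategory.hom_ext (hτb s)
  · exact InducedCategory.hom_ext (hom_ext_yon hP s.pt ((congr($(m1).hom)).trans (hτa s).symm)
      ((congr($(m2).hom)).trans (hτb s).symm))

end Groth.SpecFerrand.AlgSpPush
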