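import Mathlib
import Groth.Agent.KTheory.LocFree
import Groth.Agent.LocFree.Basic
import Groth.Agent.LocFree.ExtPullback

/-!
Tools for local bases: base change matrices, isomorphisms, lifting along closed immersions.
-/

set_option autoImplicit false

universe u

open CategoryTheory CategoryTheory.Limits AlgebraicGeometry TopologicalSpace Opposite Groth.PicAux Matrix

noncomputable section

namespace Groth.SpecFerrand

variable {X Y : Scheme.{u}}

section Matrix

variable {R : Type u} [CommRing R] {A : Type u} [AddCommGroup A] [Module R A] {n : ℕ} {s t : Fin n → A}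

theorem sum_smul_transport (M : Matrix (Fin n) (Fin n) R) (h : ∀ k, t k = ∑ l, M k l • s l) (r : Fin n → R) :
    ∑ k, r k • t k = ∑ l, (r ᵥ* M) l • s l := by
  simp only [h, Finset.smul_sum, smul_smul]
  rw [Finset.sum_comm]
  simp only [Matrix.vecMul, dotProduct, Finset.sum_smul]

theorem bijective_of_det_isUnit (M : Matrix (Fin n) (Fin n) R) (h : ∀ k, t k = ∑ l, M k l • s l)
    (hM : IsUnit M.det) (hs : Function.Bijective fun r : Fin n → R => ∑ l, r l • s l) :
    Function.Bijective fun r : Fin n → R => ∑ l, r l • t l := by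
  have e : (fun r : Fin n → R => ∑ l, r l • t l) = (fun r : Fin n → R => ∑ l, r l • s l) ∘ fun r => r ᵥ* M :=
    funext fun r => sum_smul_transport M h r
  rw [e]
  refine hs.comp ⟨Function.LeftInverse.injective (g := fun r => r ᵥ* M⁻¹) fun r => ?_,
    fun r => ⟨r ᵥ* M⁻¹, ?_⟩⟩
  · simp [Matrix.vecMul_vecMul, Matrix.mul_nonsing_inv _ hM]
  · simp [Matrix.vecMul_vecMul, Matrix.nonsing_inv_mul _ hM]

theorem det_isUnit_of_bases (M : Matrix (Fin n) (Fin n) R) (h : ∀ k, t k = ∑ l, M k l • s l)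
    (hs : Function.Bijective fun r : Fin n → R => ∑ l, r l • s l)
    (ht : Function.Bijective fun r : Fin n → R => ∑ l, r l • t l) : IsUnit M.det := by
  choose N hN using fun k => ht.2 (s k)
  have hmul : (Matrix.of N) * M = 1 := by
    ext k l
    have e : ∑ l, (N k ᵥ* M) l • s l = ∑ l, (Pi.single k (1 : R) : Fin n → R) l • s l := by
      rw [← sum_smul_transport M h]
      simp [Pi.single_apply, ite_smul, hN k]
    have := congrFun (hs.1 e) l
    simpa [Matrix.mul_apply, Matrix.vecMul, dotProduct, Pi.single_apply, Matrix.one_apply, eq_comm] using this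
  exact Matrix.isUnit_det_of_left_inverse hmul

end Matrix

theorem basis_det {M : X.Modules} {n : ℕ} {U : X.Opens} {s t : Fin n → Γ(M, U)} (hs : Basis' M U s)
    (A : Matrix (Fin n) (Fin n) Γ(X, U)) (h : ∀ k, t k = ∑ l, A k l • s l) :
    Basis' M (X.basicOpen A.det) fun k => res M (X.basicOpen_le _) (t k) := by
  intro V hV
  refine bijective_of_det_isUnit ((resX X (hV.trans (X.basicOpen_le _))).mapMatrix A) (fun k => ?_) ?_
    (hs V (hV.trans (X.basicOpen_le _)))
  · rw [res_res, h, res_sum]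
    simp [res_smul]
  · rw [← RingHom.map_det]
    have hu : IsUnit (resX X (X.basicOpen_le A.det) A.det) :=
      RingedSpace.isUnit_res_basicOpen X.toRingedSpace A.det
    simpa using hu.map (resX X hV)

theorem isIso_of_bases {M N : X.Modules} (φ : M ⟶ N)
    (h : ∀ x : X, ∃ (U : X.Opens) (n : ℕ) (s : Fin n → Γ(M, U)), x ∈ U ∧ Basis' M U s ∧
      Basis' N U (fun k => φ.app U (s k))) : IsIso φ := by
  choose U n s hxU hs ht using h
  have loc : ∀ (x : X) (V : X.Opens), V ≤ U x → Function.Bijective (φ.app V) := fun x V hV => by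
    have e : (fun r : Fin (n x) → Γ(X, V) => ∑ i, r i • res N hV (φ.app (U x) (s x i))) =
        (φ.app V : Γ(M, V) → Γ(N, V)) ∘ fun r => ∑ i, r i • res M hV (s x i) := by
      funext r
      simp [map_sum, app_res]
    have hb := ht x V hV
    rw [e] at hb
    exact (Function.Bijective.of_comp_iff _ (hs x V hV)).1 hb
  rw [Scheme.Modules.Hom.isIso_iff_isIso_app]
  intro V
  have hcov : V ≤ ⨆ x, U x ⊓ V := fun x hx => Opens.mem_iSup.2 ⟨x, hxU x, hx⟩
  refine (ConcreteCategory.isIso_iff_bijective _).2 ⟨fun a b hab => ?_, fun c => ?_⟩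
  · refine res_ext _ (fun x => inf_le_right) hcov fun x => (loc x _ inf_le_left).1 ?_
    rw [app_res, app_res, hab]
  · choose a ha using fun x => (loc x (U x ⊓ V) inf_le_left).2 (res N inf_le_right c)
    obtain ⟨y, hy, -⟩ := res_glue (fun x => U x ⊓ V) (fun x => inf_le_right) hcov a fun x x' =>
      (loc x _ (inf_le_left.trans inf_le_left)).1 (by rw [app_res, app_res, ha, ha, res_res, res_res])
    exact ⟨y, res_ext _ (fun x => inf_le_right) hcov fun x => by rw [← app_res, hy, ha]⟩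

theorem pullSec_surjective (ι : Y ⟶ X) [IsClosedImmersion ι] (M : X.Modules) [M.IsQuasicoherent] {O : X.Opens}
    (hO : IsAffineOpen O) :
    Function.Surjective (pullSec ι M : Γ(M, O) → Γ((Scheme.Modules.pullback ι).obj M, ι ⁻¹ᵁ O)) := by
  letI := Groth.QCohMod.sectionsAlg ι (le_refl (ι ⁻¹ᵁ O))
  letI : Module Γ(X, O) Γ((Scheme.Modules.pullback ι).obj M, ι ⁻¹ᵁ O) :=
    Module.compHom _ (ι.appLE O (ι ⁻¹ᵁ O) le_rfl).hom
  haveI : IsScalarTower Γ(X, O) Γ(Y, ι ⁻¹ᵁ O) Γ((Scheme.Modules.pullback ι).obj M, ι ⁻¹ᵁ O) :=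
    IsScalarTower.of_algebraMap_smul fun _ _ => rfl
  intro y
  induction y using (Groth.LocFree.isBaseChange_pullSecₗ ι M (le_refl (ι ⁻¹ᵁ O)) hO (hO.preimage ι)).inductionOn with
  | zero => exact ⟨0, map_zero (((Scheme.Modules.pullbackPushforwardAdjunction ι).unit.app M).app O).hom⟩
  | tmul m => exact ⟨m, (res_self _ _).symm⟩
  | smul c y hy =>
    obtain ⟨m, rfl⟩ := hy
    obtain ⟨r, rfl⟩ := ι.app_surjective O hO c
    exact ⟨r • m, pullSec_smul ι M r m⟩
  | add y y' hy hy' =>
    obtain ⟨m, rfl⟩ := hy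
    obtain ⟨m', rfl⟩ := hy'
    exact ⟨m + m', map_add (((Scheme.Modules.pullbackPushforwardAdjunction ι).unit.app M).app O).hom m m'⟩

theorem subsingleton_of_bot (M : X.Modules) {U : X.Opens} (hU : U ≤ ⊥) : Subsingleton Γ(M, U) :=
  ⟨fun _ _ => res_ext (fun i : PEmpty.{1} => i.elim) (fun i => i.elim) (fun x hx => (hU hx).elim) fun i => i.elim⟩

theorem subsingleton_functions_of_bot {U : X.Opens} (hU : U ≤ ⊥) : Subsingleton Γ(X, U) :=
  ⟨fun _ _ => X.sheaf.eq_of_locally_eq' (fun i : PEmpty.{1} => i.elim) U (fun i => i.elim)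
    (fun x hx => (hU hx).elim) _ _ fun i => i.elim⟩

theorem basis_of_bot (M : X.Modules) (n : ℕ) {U : X.Opens} (hU : U ≤ ⊥) (s : Fin n → Γ(M, U)) :
    Basis' M U s := fun V hV => by
  haveI := subsingleton_of_bot M (hV.trans hU)
  haveI := subsingleton_functions_of_bot (hV.trans hU)
  exact ⟨fun a b _ => Subsingleton.elim a b, fun m => ⟨fun _ => 0, Subsingleton.elim _ _⟩⟩

/-- A lift of a basis of the restriction to a closed subscheme is a basis nearby. -/
theorem exists_basis_near (ι : Y ⟶ X) [IsClosedImmersion ι] {M : X.Modules} {n : ℕ}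
    (hM : FlatMod.IsFinLocFreeOfRank n M) {O : X.Opens} {g : Fin n → Γ(M, O)}
    (hg : Basis' ((Scheme.Modules.pullback ι).obj M) (ι ⁻¹ᵁ O) fun k => pullSec ι M (g k)) (y : Y)
    (hy : ι y ∈ O) : ∃ (V : X.Opens) (hV : V ≤ O), ι y ∈ V ∧ Basis' M V fun k => res M hV (g k) := by
  obtain ⟨U, s, hxU, hs⟩ := Groth.LocFree.isFinLocFreeOfRank_iff.1 hM (ι y)
  let V₀ := U ⊓ O
  have hs₀ := hs.res' (inf_le_left : V₀ ≤ U)
  choose A hA using fun k => (hs₀ V₀ le_rfl).2 (res M (inf_le_right : V₀ ≤ O) (g k))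
  simp only [res_self] at hA
  let Am : Matrix (Fin n) (Fin n) Γ(X, V₀) := Matrix.of A
  have hdet : IsUnit (ι.app V₀ Am.det) := by
    rw [RingHom.map_det]
    refine det_isUnit_of_bases (s := fun l => pullSec ι M (res M (inf_le_left : V₀ ≤ U) (s l)))
      (t := fun k => pullSec ι M (res M (inf_le_right : V₀ ≤ O) (g k))) _ (fun k => ?_) ?_ ?_
    · rw [← hA k, pullSec, map_sum]
      exact Finset.sum_congr rfl fun l _ => pullSec_smul ι M _ _
    · have := (hs₀.pull ι) _ le_rfl
      simpa using this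
    · have := hg (ι ⁻¹ᵁ V₀) (ι.preimage_mono inf_le_right)
      simpa only [← res_pullSec ι M (inf_le_right : V₀ ≤ O)] using this
  have hmem : ι y ∈ X.basicOpen Am.det := by
    show y ∈ ι ⁻¹ᵁ X.basicOpen Am.det
    rw [Scheme.preimage_basicOpen, Scheme.basicOpen_of_isUnit _ hdet]
    exact ⟨hxU, hy⟩
  refine ⟨X.basicOpen Am.det, (X.basicOpen_le _).trans inf_le_right, hmem, ?_⟩
  have := basis_det hs₀ Am (t := fun k => res M (inf_le_right : V₀ ≤ O) (g k)) (fun k => (hA k).symm)
  simpa using this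

end Groth.SpecFerrand
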