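import Mathlib
import Groth.Agent.SpecFerrand.BaseChange
import Groth.Agent.SpecFerrand.Props
import Groth.Agent.Misc8.FibreSquare

/-!
Flatness of Ferrand pushouts over a base and their base change when the pieces are flat.
-/

set_option autoImplicit false

universe u

open CategoryTheory CategoryTheory.Limits AlgebraicGeometry TopologicalSpace

noncomputable section

namespace Groth.SpecFerrand

variable {X Y Z P S : Scheme.{u}} {i : Z ⟶ X} {j : Z ⟶ Y} {a : X ⟶ P} {b : Y ⟶ P}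

namespace SqChart

variable (c : SqChart i j a b) {C : CommRingCat.{u}} (φ : C ⟶ c.R) (W : Spec C ⟶ S) [IsOpenImmersion W]
  {r : P ⟶ S}

theorem flat_comp_p2 (hu : c.u ≫ r = Spec.map φ ≫ W) (h : Flat (a ≫ r)) : (φ ≫ c.p2).hom.Flat := by
  refine flat_of_comp_mono (φ ≫ c.p2) W ?_
  rw [Spec.map_comp, Category.assoc, ← hu, reassoc_of% c.hX.w]
  infer_instance

theorem flat_comp_p1 (hu : c.u ≫ r = Spec.map φ ≫ W) (h : Flat (b ≫ r)) : (φ ≫ c.p1).hom.Flat := by
  refine flat_of_comp_mono (φ ≫ c.p1) W ?_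
  rw [Spec.map_comp, Category.assoc, ← hu, reassoc_of% c.hY.w]
  infer_instance

theorem flat_comp_q (hu : c.u ≫ r = Spec.map φ ≫ W) (h : Flat (j ≫ b ≫ r)) :
    (φ ≫ c.p1 ≫ c.q).hom.Flat := by
  haveI : IsOpenImmersion c.uZ := inferInstance
  refine flat_of_comp_mono (φ ≫ c.p1 ≫ c.q) W ?_
  rw [Spec.map_comp, Spec.map_comp, Category.assoc, Category.assoc, ← hu, reassoc_of% c.hY.w,
    reassoc_of% c.hZY]
  infer_instance

theorem flat_chart_of_pieces (hA : (φ ≫ c.p2).hom.Flat) (hB : (φ ≫ c.p1).hom.Flat)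
    (hD : (φ ≫ c.p1 ≫ c.q).hom.Flat) : φ.hom.Flat := by
  letI := φ.hom.toAlgebra
  letI := (c.p1.hom.comp φ.hom).toAlgebra
  letI := (c.p2.hom.comp φ.hom).toAlgebra
  letI := (c.q.hom.comp (c.p1.hom.comp φ.hom)).toAlgebra
  let p1 : c.R →ₐ[C] c.B := { c.p1.hom with commutes' := fun _ => rfl }
  let p2 : c.R →ₐ[C] c.A := { c.p2.hom with commutes' := fun _ => rfl }
  let q : c.B →ₐ[C] c.D := { c.q.hom with commutes' := fun _ => rfl }
  let p : c.A →ₐ[C] c.D := { c.p.hom with commutes' := fun x => (c.sq.comm' (φ.hom x)).symm }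
  have hsq : Sq p1.toRingHom p2.toRingHom q.toRingHom p.toRingHom := c.sq
  haveI : Module.Flat C c.A := hA
  haveI : Module.Flat C c.B := hB
  haveI : Module.Flat C c.D := hD
  haveI : Module.Flat C (c.B × c.A) := Groth.Misc8.FibreSquare.flat_prod
  exact Groth.Misc8.FibreSquare.flat_of_shortExact (diagLin p1 p2) (diffLin q p) (diagLin_injective hsq)
    (diffLin_surjective hsq) (exact_diag_diff hsq)

end SqChart

namespace Glue

variable [IsClosedImmersion i] [IsAffineHom j]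

/-- A Ferrand pushout of flat pieces is flat. -/
theorem flat_of_isPushout (hc : Covers i j) (hP : IsPushout i j a b) (r : P ⟶ S)
    (hA : Flat (a ≫ r)) (hB : Flat (b ≫ r)) (hD : Flat (j ≫ b ≫ r)) : Flat r := by
  choose C C' c W W' φ γ hW hW' hu hw hx hxW using
    exists_chartData (g := 𝟙 S) (fP := 𝟙 P) (sP := r) hc hP (r := r) (by simp)
  have hflat : ∀ x, Flat ((c x).u ≫ r) := fun x => by
    haveI := hW x
    haveI : Flat (Spec.map (φ x)) := HasRingHomProperty.Spec_iff.2 ((c x).flat_chart_of_pieces (φ x)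
      ((c x).flat_comp_p2 (φ x) (W x) (hu x) hA) ((c x).flat_comp_p1 (φ x) (W x) (hu x) hB)
      ((c x).flat_comp_q (φ x) (W x) (hu x) hD))
    rw [hu x]
    infer_instance
  refine IsZariskiLocalAtSource.of_iSup_eq_top (P := @Flat) (fun x => (c x).u.opensRange) ?_ fun x => ?_
  · exact top_unique fun x _ => Opens.mem_iSup.2 ⟨x, hx x⟩
  · haveI := hflat x
    rw [← Scheme.Hom.isoOpensRange_inv_comp_assoc (c x).u r]
    infer_instance

/-- A Ferrand pushout with glued piece flat over the base commutes with base change. -/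
theorem isPushout_baseChange_of_flat {X' Y' Z' P' S' : Scheme.{u}} (hc : Covers i j) (hp : IsPushout i j a b)
    {r : P ⟶ S} (hD : Flat (j ≫ b ≫ r)) {g : S' ⟶ S} {fP : P' ⟶ P} {sP : P' ⟶ S'} (hP : IsPullback fP sP r g)
    {fX : X' ⟶ X} {fY : Y' ⟶ Y} {fZ : Z' ⟶ Z} {i' : Z' ⟶ X'} {j' : Z' ⟶ Y'} {a' : X' ⟶ P'} {b' : Y' ⟶ P'}
    (hsX : IsPullback fX a' a fP) (hsY : IsPullback fY b' b fP) (hsi : IsPullback fZ i' i fX)
    (hsj : IsPullback fZ j' j fY) (w' : i' ≫ a' = j' ≫ b') : IsPushout i' j' a' b' := by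
  refine isPushout_baseChange hP hsX hsY hsi hsj w' fun x => ?_
  obtain ⟨C, C', c, W, W', φ, γ, hW, hW', hu, hw, hx, hxW⟩ := exists_chartData hc hp hP.w x
  exact ⟨C, C', c, W, W', φ, γ, hW, hW', hu, hw,
    c.chartExact_of_flat_quot φ γ (c.flat_comp_q φ W hu hD), hx, hxW⟩

end Glue

end Groth.SpecFerrand
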