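import Mathlib
import Groth.Agent.SpecFerrand.Props

/-!
Pushouts of schemes from pushouts of ringed spaces, and global functions on pushouts.
-/

set_option autoImplicit false

universe u

open CategoryTheory CategoryTheory.Limits AlgebraicGeometry Opposite

noncomputable section

namespace Groth.SpecFerrand

variable {X Y Z P : Scheme.{u}} {i : Z ⟶ X} {j : Z ⟶ Y} {a : X ⟶ P} {b : Y ⟶ P}

/-- A square of schemes commutes if it does in ringed spaces. -/
theorem comm_of_ringedSpace
    (hpo : IsPushout
      ((Scheme.forgetToLocallyRingedSpace ⋙ LocallyRingedSpace.forgetToSheafedSpace).map i)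
      ((Scheme.forgetToLocallyRingedSpace ⋙ LocallyRingedSpace.forgetToSheafedSpace).map j)
      ((Scheme.forgetToLocallyRingedSpace ⋙ LocallyRingedSpace.forgetToSheafedSpace).map a)
      ((Scheme.forgetToLocallyRingedSpace ⋙ LocallyRingedSpace.forgetToSheafedSpace).map b)) :
    i ≫ a = j ≫ b :=
  (Scheme.forgetToLocallyRingedSpace ⋙ LocallyRingedSpace.forgetToSheafedSpace).map_injective
    (by rw [Functor.map_comp, Functor.map_comp]; exact hpo.w)

/-- A square of schemes that is a pushout of ringed spaces is a pushout of schemes. -/
theorem isPushout_of_ringedSpace (w : i ≫ a = j ≫ b)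
    (hpo : IsPushout
      ((Scheme.forgetToLocallyRingedSpace ⋙ LocallyRingedSpace.forgetToSheafedSpace).map i)
      ((Scheme.forgetToLocallyRingedSpace ⋙ LocallyRingedSpace.forgetToSheafedSpace).map j)
      ((Scheme.forgetToLocallyRingedSpace ⋙ LocallyRingedSpace.forgetToSheafedSpace).map a)
      ((Scheme.forgetToLocallyRingedSpace ⋙ LocallyRingedSpace.forgetToSheafedSpace).map b)) :
    IsPushout i j a b := by
  haveI : ReflectsColimit
      (span (Scheme.forgetToLocallyRingedSpace.map i) (Scheme.forgetToLocallyRingedSpace.map j))
      LocallyRingedSpace.forgetToSheafedSpace.{u} := reflectsColimit_of_reflectsIsomorphisms _ _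
  have h1 : IsPushout (Scheme.forgetToLocallyRingedSpace.map i) (Scheme.forgetToLocallyRingedSpace.map j)
      (Scheme.forgetToLocallyRingedSpace.map a) (Scheme.forgetToLocallyRingedSpace.map b) :=
    IsPushout.of_map LocallyRingedSpace.forgetToSheafedSpace
      (by rw [← Functor.map_comp, ← Functor.map_comp, w]) hpo
  exact IsPushout.of_map Scheme.forgetToLocallyRingedSpace w h1

/-- A commutative square with affine right and bottom maps is covered by good pairs. -/
theorem covers_of_isAffineHom [IsAffineHom a] [IsAffineHom b] (w : i ≫ a = j ≫ b) : Glue.Covers i j :=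
  Glue.covers_of_affine_local a b w fun y => by
    obtain ⟨U, hU, hyU, -⟩ := exists_isAffineOpen_mem_and_subset (x := y) (U := ⊤) trivial
    exact ⟨U, hU, hyU, a ⁻¹ᵁ U, hU.preimage a, le_rfl, fun z hz => by
      show (i ≫ a).base z ∈ U
      rw [w]
      exact hz⟩

/-- Global functions on a pushout are pairs of global functions agreeing on the common part. -/
theorem isPullback_appTop (h : IsPushout i j a b) :
    IsPullback a.appTop b.appTop i.appTop j.appTop := by
  have := (h.map Scheme.Γ.rightOp).unop
  exact this.flip

end Groth.SpecFerrand
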