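import Mathlib
import Groth.Agent.SpecFerrand.FlatPush
import Groth.Agent.SpecFerrand.RingedPush
import Groth.Agent.SpecFerrand.Relative

/-!
Ferrand pushouts of schemes are pushouts of ringed spaces.
-/

set_option autoImplicit false

universe u

open CategoryTheory CategoryTheory.Limits AlgebraicGeometry TopologicalSpace Opposite

noncomputable section

namespace Groth.SpecFerrand

/-- Ringed spaces with carrier in the same universe as their rings. -/
abbrev RS : Type (u + 1) := SheafedSpace.{u + 1, u, u} CommRingCat.{u}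

/-- The comorphism of a map of sheafed spaces into a smaller open. -/
def cLE {A T : RS.{u}} (f : A ⟶ T) (U : Opens T.toPresheafedSpace)
    (W : Opens A.toPresheafedSpace) (h : W ≤ (Opens.map f.hom.base).obj U) :
    T.presheaf.obj (op U) ⟶ A.presheaf.obj (op W) :=
  f.hom.c.app (op U) ≫ A.presheaf.map (homOfLE h).op

theorem cLE_congr {A T : RS.{u}} {f g : A ⟶ T} (e : f = g) (U : Opens T.toPresheafedSpace)
    (W : Opens A.toPresheafedSpace) (h : W ≤ (Opens.map f.hom.base).obj U) :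
    cLE f U W h = cLE g U W (e ▸ h) := by
  subst e; rfl

theorem cLE_map {A T : RS.{u}} (f : A ⟶ T) (U : Opens T.toPresheafedSpace)
    (W : Opens A.toPresheafedSpace) (h : W ≤ (Opens.map f.hom.base).obj U) {W' : Opens A.toPresheafedSpace}
    (h' : W' ≤ W) : cLE f U W h ≫ A.presheaf.map (homOfLE h').op = cLE f U W' (h'.trans h) := by
  simp only [cLE, Category.assoc, ← Functor.map_comp]
  rfl

theorem map_cLE {A T : RS.{u}} (f : A ⟶ T) {U U' : Opens T.toPresheafedSpace} (hU : U' ≤ U)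
    (W : Opens A.toPresheafedSpace) (h : W ≤ (Opens.map f.hom.base).obj U') :
    T.presheaf.map (homOfLE hU).op ≫ cLE f U' W h =
      cLE f U W (h.trans fun _ hx => hU hx) := by
  simp only [cLE]
  rw [f.hom.c.naturality_assoc]
  exact congrArg (f.hom.c.app (op U) ≫ ·) (A.presheaf.map_comp _ _).symm

theorem cLE_comp {A B T : RS.{u}} (f : A ⟶ B) (g : B ⟶ T) (U : Opens T.toPresheafedSpace)
    (V : Opens B.toPresheafedSpace) (W : Opens A.toPresheafedSpace)
    (hV : V ≤ (Opens.map g.hom.base).obj U) (hW : W ≤ (Opens.map f.hom.base).obj V) :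
    cLE g U V hV ≫ cLE f V W hW = cLE (f ≫ g) U W (hW.trans fun _ hx => hV hx) := by
  conv_lhs => rw [cLE, Category.assoc, map_cLE]
  simp only [cLE]
  rw [SheafedSpace.comp_hom_c_app']
  exact (Category.assoc _ _ _).symm

theorem sheafed_hom_ext {A T : RS.{u}} {f g : A ⟶ T} (hb : f.hom.base = g.hom.base)
    (hc : ∀ U, cLE f U ((Opens.map g.hom.base).obj U) (by rw [hb]) = g.hom.c.app (op U)) : f = g := by
  refine SheafedSpace.ext f g hb ?_
  refine NatTrans.ext (funext fun U => ?_)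
  refine Eq.trans ?_ (hc U.unop)
  simp only [cLE, NatTrans.comp_app, Functor.whiskerRight_app]
  congr 1

open Classical in
/-- Recognising pushouts of sheafed spaces. -/
theorem isPushout_sheafedSpace {A B D Q : RS.{u}} {fi : D ⟶ A} {fj : D ⟶ B} {fa : A ⟶ Q}
    {fb : B ⟶ Q} (w : fi ≫ fa = fj ≫ fb) (hsurj : ∀ p, (∃ t, fb.hom.base t = p) ∨ ∃ t, fa.hom.base t = p)
    (hdesc : ∀ {T : Type u} [TopologicalSpace T] (x : A → T) (y : B → T), Continuous x → Continuous y →
      (∀ z, x (fi.hom.base z) = y (fj.hom.base z)) →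
      ∃ h : C(Q, T), (∀ t, h (fa.hom.base t) = x t) ∧ ∀ t, h (fb.hom.base t) = y t)
    (hsec : ∀ V : Opens Q.toPresheafedSpace, IsPullback
      (cLE fa V ((Opens.map fa.hom.base).obj V) le_rfl) (cLE fb V ((Opens.map fb.hom.base).obj V) le_rfl)
      (cLE fi ((Opens.map fa.hom.base).obj V) ((Opens.map fi.hom.base).obj ((Opens.map fa.hom.base).obj V)) le_rfl)
      (cLE fj ((Opens.map fb.hom.base).obj V) ((Opens.map fi.hom.base).obj ((Opens.map fa.hom.base).obj V))
        (fun z hz => by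
          have e : fa.hom.base (fi.hom.base z) = fb.hom.base (fj.hom.base z) := congr($(w).hom.base z)
          show fb.hom.base (fj.hom.base z) ∈ V
          rw [← e]; exact hz))) :
    IsPushout fi fj fa fb := by
  refine ⟨⟨w⟩, ⟨PushoutCocone.isColimitAux' _ fun s => ?_⟩⟩
  let x := s.inl
  let y := s.inr
  have wz : ∀ z, x.hom.base (fi.hom.base z) = y.hom.base (fj.hom.base z) := fun z =>
    congr($(s.condition).hom.base z)
  choose h ha hb using hdesc (fun t => x.hom.base t) (fun t => y.hom.base t)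
    x.hom.base.hom.continuous y.hom.base.hom.continuous wz
  let hh : Q.toPresheafedSpace.carrier ⟶ s.pt.toPresheafedSpace.carrier := TopCat.ofHom h
  have lx : ∀ U, (Opens.map fa.hom.base).obj ((Opens.map hh).obj U) ≤ (Opens.map x.hom.base).obj U := fun U t ht => by
    show x.hom.base t ∈ U
    rw [← ha]; exact ht
  have ly : ∀ U, (Opens.map fb.hom.base).obj ((Opens.map hh).obj U) ≤ (Opens.map y.hom.base).obj U := fun U t ht => by
    show y.hom.base t ∈ U
    rw [← hb]; exact ht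
  have sec := fun U => hsec ((Opens.map hh).obj U)
  let app := fun U => (sec U).lift (cLE x U _ (lx U)) (cLE y U _ (ly U))
    ((cLE_comp fi x U _ _ _ _).trans ((cLE_congr s.condition U _ _).trans (cLE_comp fj y U _ _ _ _).symm))
  have hfx : ∀ U, app U ≫ cLE fa _ _ le_rfl = cLE x U _ (lx U) := fun U => (sec U).lift_fst _ _ _
  have hfy : ∀ U, app U ≫ cLE fb _ _ le_rfl = cLE y U _ (ly U) := fun U => (sec U).lift_snd _ _ _
  have nat : ∀ U V : (Opens s.pt.toPresheafedSpace)ᵒᵖ, ∀ g : U ⟶ V,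
      s.pt.presheaf.map g ≫ app V.unop = app U.unop ≫ Q.presheaf.map ((Opens.map hh).map g.unop).op := fun U V g => by
    refine (sec V.unop).hom_ext ?_ ?_
    · rw [Category.assoc, Category.assoc, hfx]
      have e1 := map_cLE x (U := U.unop) (U' := V.unop) g.unop.le _ (lx V.unop)
      have e2 := map_cLE fa (U := (Opens.map hh).obj U.unop) (U' := (Opens.map hh).obj V.unop)
        ((Opens.map hh).map g.unop).le ((Opens.map fa.hom.base).obj ((Opens.map hh).obj V.unop)) le_rfl
      refine e1.trans (Eq.trans ?_ (congrArg (app U.unop ≫ ·) e2).symm)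
      rw [← cLE_map fa _ _ le_rfl (fun t ht => g.unop.le ht), ← Category.assoc, hfx, cLE_map]
    · rw [Category.assoc, Category.assoc, hfy]
      have e1 := map_cLE y (U := U.unop) (U' := V.unop) g.unop.le _ (ly V.unop)
      have e2 := map_cLE fb (U := (Opens.map hh).obj U.unop) (U' := (Opens.map hh).obj V.unop)
        ((Opens.map hh).map g.unop).le ((Opens.map fb.hom.base).obj ((Opens.map hh).obj V.unop)) le_rfl
      refine e1.trans (Eq.trans ?_ (congrArg (app U.unop ≫ ·) e2).symm)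
      rw [← cLE_map fb _ _ le_rfl (fun t ht => g.unop.le ht), ← Category.assoc, hfy, cLE_map]
  let d : Q ⟶ s.pt := InducedCategory.homMk
    { base := hh
      c := { app := fun U => app U.unop
             naturality := fun U V g => nat U V g } }
  have hd : ∀ U, cLE d U ((Opens.map hh).obj U) le_rfl = app U := fun U => by
    change app U ≫ Q.presheaf.map (𝟙 _) = app U
    rw [CategoryTheory.Functor.map_id, Category.comp_id]
  refine ⟨d, ?_, ?_, fun {m} hm1 hm2 => ?_⟩
  · refine sheafed_hom_ext (TopCat.hom_ext (ContinuousMap.ext ha)) fun U => ?_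
    have e : (Opens.map x.hom.base).obj U ≤ (Opens.map fa.hom.base).obj ((Opens.map hh).obj U) := fun t ht => by
      show h (fa.hom.base t) ∈ U; rw [ha]; exact ht
    refine Eq.trans (cLE_comp fa d U ((Opens.map hh).obj U) _ le_rfl e).symm ?_
    rw [hd, ← cLE_map fa _ _ le_rfl e, ← Category.assoc, hfx, cLE_map]
    exact (congrArg (x.hom.c.app (op U) ≫ ·) ((congrArg A.presheaf.map (Subsingleton.elim _ (𝟙 _))).trans
      (A.presheaf.map_id _))).trans (Category.comp_id _)
  · refine sheafed_hom_ext (TopCat.hom_ext (ContinuousMap.ext hb)) fun U => ?_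
    have e : (Opens.map y.hom.base).obj U ≤ (Opens.map fb.hom.base).obj ((Opens.map hh).obj U) := fun t ht => by
      show h (fb.hom.base t) ∈ U; rw [hb]; exact ht
    refine Eq.trans (cLE_comp fb d U ((Opens.map hh).obj U) _ le_rfl e).symm ?_
    rw [hd, ← cLE_map fb _ _ le_rfl e, ← Category.assoc, hfy, cLE_map]
    exact (congrArg (y.hom.c.app (op U) ≫ ·) ((congrArg B.presheaf.map (Subsingleton.elim _ (𝟙 _))).trans
      (B.presheaf.map_id _))).trans (Category.comp_id _)
  · have hb' : m.hom.base = hh := TopCat.hom_ext (ContinuousMap.ext fun p => by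
      rcases hsurj p with ⟨t, rfl⟩ | ⟨t, rfl⟩
      · exact (congr($(hm2).hom.base t)).trans (hb t).symm
      · exact (congr($(hm1).hom.base t)).trans (ha t).symm)
    refine sheafed_hom_ext hb' fun U => (sec U).hom_ext ?_ ?_
    · exact (cLE_comp fa m U _ _ _ _).trans ((cLE_congr hm1 U _ _).trans (hfx U).symm)
    · exact (cLE_comp fb m U _ _ _ _).trans ((cLE_congr hm2 U _ _).trans (hfy U).symm)


variable {X Y Z P : Scheme.{u}} {i : Z ⟶ X} {j : Z ⟶ Y} {a : X ⟶ P} {b : Y ⟶ P}

section Topology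

variable (hch : ∀ x : P, ∃ c : SqChart i j a b, x ∈ c.u.opensRange)

theorem SqChart.mem_uX (c : SqChart i j a b) {x : X} (hx : a x ∈ c.u.opensRange) : x ∈ c.uX.opensRange := by
  rw [opensRange_of_isPullback c.hX]; exact hx

theorem SqChart.mem_uY (c : SqChart i j a b) {y : Y} (hy : b y ∈ c.u.opensRange) : y ∈ c.uY.opensRange := by
  rw [opensRange_of_isPullback c.hY]; exact hy

theorem SqChart.u_p2 (c : SqChart i j a b) (w : Spec c.A) : c.u (Spec.map c.p2 w) = a (c.uX w) := by
  rw [← Scheme.Hom.comp_apply, c.hX.w, Scheme.Hom.comp_apply]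

theorem SqChart.u_p1 (c : SqChart i j a b) (w : Spec c.B) : c.u (Spec.map c.p1 w) = b (c.uY w) := by
  rw [← Scheme.Hom.comp_apply, c.hY.w, Scheme.Hom.comp_apply]

include hch in
theorem surjective_pair (p : P) : (∃ y, b y = p) ∨ ∃ x, a x = p := by
  obtain ⟨c, Q, rfl⟩ := hch p
  rcases (top_facts c.sq).1 Q with ⟨w, hw⟩ | ⟨w, hw⟩
  · exact .inl ⟨c.uY w, (c.u_p1 w).symm.trans (congrArg c.u hw)⟩
  · exact .inr ⟨c.uX w, (c.u_p2 w).symm.trans (congrArg c.u hw)⟩

include hch in
theorem injective_b : Function.Injective b := fun y y' h => by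
  obtain ⟨c, hc⟩ := hch (b y)
  obtain ⟨w, rfl⟩ := c.mem_uY hc
  obtain ⟨w', rfl⟩ := c.mem_uY (h ▸ hc)
  rw [← c.u_p1, ← c.u_p1] at h
  exact congrArg c.uY (c.sq.comap_fst_injective (c.u.isOpenEmbedding.injective h))

include hch in
theorem overlap_pair {x : X} {y : Y} (h : a x = b y) : ∃ z, i z = x ∧ j z = y := by
  obtain ⟨c, hc⟩ := hch (b y)
  obtain ⟨v, rfl⟩ := c.mem_uY hc
  obtain ⟨w, rfl⟩ := c.mem_uX (h ▸ hc)
  rw [← c.u_p1, ← c.u_p2] at h
  obtain ⟨z, hz1, hz2⟩ := c.sq.topology.1 v w (c.u.isOpenEmbedding.injective h.symm)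
  refine ⟨c.uZ z, ?_, ?_⟩
  · rw [← Scheme.Hom.comp_apply, ← c.hZ.w, Scheme.Hom.comp_apply]
    exact congrArg c.uX hz2
  · rw [← Scheme.Hom.comp_apply, ← c.hZY, Scheme.Hom.comp_apply]
    exact congrArg c.uY hz1

include hch in
theorem injective_off {x x' : X} (h : a x = a x') (hn : a x ∉ Set.range b) : x = x' := by
  obtain ⟨c, hc⟩ := hch (a x)
  obtain ⟨w, rfl⟩ := c.mem_uX hc
  obtain ⟨w', rfl⟩ := c.mem_uX (h ▸ hc)
  rw [← c.u_p2, ← c.u_p2] at h
  refine congrArg c.uX (c.sq.topology.2.1 w w' (c.u.isOpenEmbedding.injective h) ?_)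
  rintro ⟨v, hv⟩
  exact hn ⟨c.uY v, ((c.u_p1 v).symm.trans (congrArg c.u hv)).trans (c.u_p2 w)⟩

include hch in
theorem isOpen_of_preimages {S : Set P} (h1 : IsOpen (b ⁻¹' S)) (h2 : IsOpen (a ⁻¹' S)) : IsOpen S := by
  choose c hc using hch
  have : S = ⋃ p, (c p).u '' ((c p).u ⁻¹' S) := Set.ext fun p =>
    ⟨fun hp => Set.mem_iUnion.2 ⟨p, by obtain ⟨Q, hQ⟩ := hc p; exact ⟨Q, by rwa [Set.mem_preimage, hQ], hQ⟩⟩,
      fun hp => by obtain ⟨p', Q, hQ, rfl⟩ := Set.mem_iUnion.1 hp; exact hQ⟩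
  rw [this]
  refine isOpen_iUnion fun p => (c p).u.isOpenEmbedding.isOpenMap _ ((c p).sq.topology.2.2 _ ?_ ?_)
  · change IsOpen ((fun w => (c p).u (Spec.map (c p).p1 w)) ⁻¹' S)
    simp only [SqChart.u_p1]
    exact h1.preimage (c p).uY.continuous
  · change IsOpen ((fun w => (c p).u (Spec.map (c p).p2 w)) ⁻¹' S)
    simp only [SqChart.u_p2]
    exact h2.preimage (c p).uX.continuous

open Classical in
include hch in
theorem exists_desc_base {T : Type u} [TopologicalSpace T] (x : X → T) (y : Y → T) (hx : Continuous x)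
    (hy : Continuous y) (w : ∀ z, x (i z) = y (j z)) :
    ∃ h : C(P, T), (∀ t, h (a t) = x t) ∧ ∀ t, h (b t) = y t := by
  let h : P → T := fun p =>
    if e : ∃ t, b t = p then y e.choose else x ((surjective_pair hch p).resolve_left e).choose
  have hb : ∀ t, h (b t) = y t := fun t => by
    have e : ∃ t', b t' = b t := ⟨t, rfl⟩
    simp only [h, dif_pos e]
    exact congrArg y (injective_b hch e.choose_spec)
  have ha : ∀ t, h (a t) = x t := fun t => by
    by_cases e : ∃ t', b t' = a t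
    · obtain ⟨t', ht'⟩ := e
      obtain ⟨z, hz1, hz2⟩ := overlap_pair hch ht'.symm
      rw [← ht', hb, ← hz1, w, hz2]
    · simp only [h, dif_neg e]
      exact congrArg x (injective_off hch ((surjective_pair hch (a t)).resolve_left e).choose_spec
        (fun ⟨t', ht'⟩ => e ⟨t', ht'.trans ((surjective_pair hch (a t)).resolve_left e).choose_spec⟩))
  refine ⟨⟨h, continuous_def.2 fun U hU => isOpen_of_preimages hch ?_ ?_⟩, ha, hb⟩
  · convert hU.preimage hy using 1
    exact Set.ext fun t => by simp [hb]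
  · convert hU.preimage hx using 1
    exact Set.ext fun t => by simp [ha]

end Topology

theorem isPullback_resLE_preimage (f : X ⟶ P) (U : P.Opens) (V : X.Opens) (h : V = f ⁻¹ᵁ U) :
    IsPullback V.ι (f.resLE U V h.le) f U.ι := by
  subst h
  rw [Scheme.Hom.resLE_eq_morphismRestrict]
  exact (isPullback_morphismRestrict f U).flip

variable [IsClosedImmersion i] [IsAffineHom j]

/-- Sections of a Ferrand pushout over an open. -/
theorem isPullback_appLE (hc : Glue.Covers i j) (hP : IsPushout i j a b) (U : P.Opens) :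
    IsPullback (a.appLE U (a ⁻¹ᵁ U) le_rfl) (b.appLE U (b ⁻¹ᵁ U) le_rfl)
      (i.appLE (a ⁻¹ᵁ U) (i ⁻¹ᵁ (a ⁻¹ᵁ U)) le_rfl)
      (j.appLE (b ⁻¹ᵁ U) (i ⁻¹ᵁ (a ⁻¹ᵁ U)) (by rw [← Scheme.Hom.comp_preimage, hP.w]; exact le_rfl)) := by
  have hj : i ⁻¹ᵁ (a ⁻¹ᵁ U) = j ⁻¹ᵁ (b ⁻¹ᵁ U) := by
    rw [← Scheme.Hom.comp_preimage, hP.w]; rfl
  have hsX := isPullback_resLE_preimage a U _ rfl
  have hsY := isPullback_resLE_preimage b U _ rfl
  have hsi := isPullback_resLE_preimage i (a ⁻¹ᵁ U) _ rfl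
  have hsj := isPullback_resLE_preimage j (b ⁻¹ᵁ U) _ hj
  have h : IsPushout (i.resLE (a ⁻¹ᵁ U) _ le_rfl) (j.resLE (b ⁻¹ᵁ U) _ hj.le) (a.resLE U _ le_rfl)
      (b.resLE U _ le_rfl) := by
    refine isPushout_baseChange (r := 𝟙 P) (g := U.ι) (fP := U.ι) (sP := 𝟙 _) (IsPullback.of_vert_isIso ⟨by simp⟩) hsX hsY hsi hsj ?_ fun p => ?_
    · rw [← cancel_mono U.ι]
      simp only [Category.assoc, Scheme.Hom.resLE_comp_ι, Scheme.Hom.resLE_comp_ι_assoc, hP.w]
    · obtain ⟨C, C', c, W, W', φ, γ, hW, hW', hu, hw, hx, hxW⟩ :=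
        Glue.exists_chartData hc hP (r := 𝟙 P) (g := U.ι) (fP := U.ι) (sP := 𝟙 _) (by simp) p
      haveI := hW
      haveI := hW'
      exact ⟨C, C', c, W, W', φ, γ, hW, hW', hu, hw,
        c.chartExact_of_flat_left φ γ (flat_of_comp_mono γ W (by rw [← hw]; infer_instance)), hx, hxW⟩
  refine (isPullback_appTop h).of_iso U.topIso (a ⁻¹ᵁ U).topIso (b ⁻¹ᵁ U).topIso (i ⁻¹ᵁ (a ⁻¹ᵁ U)).topIso
    ?_ ?_ ?_ ?_ <;>
  simp only [Scheme.Hom.appTop, Scheme.Hom.resLE_app_top, Category.assoc, Iso.inv_hom_id, Category.comp_id]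

local notation "F" => (Scheme.forgetToLocallyRingedSpace ⋙ LocallyRingedSpace.forgetToSheafedSpace)

/-- Ferrand pushouts of schemes are pushouts of ringed spaces. -/
theorem isPushout_ringedSpace (hc : Glue.Covers i j) (hP : IsPushout i j a b) :
    IsPushout ((F).map i) ((F).map j) ((F).map a) ((F).map b) := by
  have hch : ∀ x : P, ∃ c : SqChart i j a b, x ∈ c.u.opensRange := fun x => by
    obtain ⟨c, hx, -⟩ := Glue.exists_sqChart_le hc hP (V := ⊤) (x := x) trivial
    exact ⟨c, hx⟩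
  have wF : (F).map i ≫ (F).map a = (F).map j ≫ (F).map b := by
    rw [← Functor.map_comp, ← Functor.map_comp, hP.w]
  exact isPushout_sheafedSpace wF (surjective_pair hch) (exists_desc_base hch) (isPullback_appLE hc hP)

end Groth.SpecFerrand
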