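import Mathlib
import Groth.Agent.SpecFerrand.SheafPush

/-!
Sections of a pushout of ringed spaces.
-/

set_option autoImplicit false

universe u

open CategoryTheory CategoryTheory.Limits AlgebraicGeometry TopologicalSpace Opposite

noncomputable section

namespace Groth.SpecFerrand

theorem isPullback_limit_π {C : Type*} [Category C] (G : WalkingSpanᵒᵖ ⥤ C) [HasLimit G] :
    IsPullback (limit.π G (op WalkingSpan.left)) (limit.π G (op WalkingSpan.right))
      (G.map (WalkingSpan.Hom.fst).op) (G.map (WalkingSpan.Hom.snd).op) := by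
  have w : limit.π G (op WalkingSpan.left) ≫ G.map (WalkingSpan.Hom.fst).op =
      limit.π G (op WalkingSpan.right) ≫ G.map (WalkingSpan.Hom.snd).op :=
    (limit.w G _).trans (limit.w G _).symm
  refine ⟨⟨w⟩, ⟨PullbackCone.isLimitAux' _ fun s => ?_⟩⟩
  let c : Cone G :=
    { pt := s.pt
      π :=
        { app := fun j => match j with
            | op WalkingSpan.left => s.fst
            | op WalkingSpan.right => s.snd
            | op WalkingSpan.zero => s.fst ≫ G.map (WalkingSpan.Hom.fst).op
          naturality := fun j k f => by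
            obtain ⟨j⟩ := j
            obtain ⟨k⟩ := k
            obtain ⟨f, rfl⟩ : ∃ g, f = Quiver.Hom.op g := ⟨f.unop, rfl⟩
            rcases f with _ | i
            · simp
            · cases i <;> simp [s.condition] } }
  refine ⟨limit.lift G c, limit.lift_π c (op WalkingSpan.left), limit.lift_π c (op WalkingSpan.right), fun {m} h1 h2 => ?_⟩
  refine limit.hom_ext (F := G) fun j => ?_
  refine Eq.trans ?_ (limit.lift_π c j).symm
  match j with
  | op WalkingSpan.left => exact h1
  | op WalkingSpan.right => exact h2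
  | op WalkingSpan.zero =>
    change m ≫ limit.π G (op WalkingSpan.zero) = s.fst ≫ _
    exact (congrArg (m ≫ ·) (limit.w G (WalkingSpan.Hom.fst).op).symm).trans
      ((Category.assoc _ _ _).symm.trans (congrArg (· ≫ _) h1))

/-- Sections of a pushout of ringed spaces over an open. -/
theorem isPullback_cLE_of_isPushout {A B D Q : RS.{u}} {fi : D ⟶ A} {fj : D ⟶ B} {fa : A ⟶ Q}
    {fb : B ⟶ Q} (h : IsPushout fi fj fa fb) (V : Opens Q.toPresheafedSpace) :
    IsPullback (cLE fa V ((Opens.map fa.hom.base).obj V) le_rfl) (cLE fb V ((Opens.map fb.hom.base).obj V) le_rfl)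
      (cLE fi ((Opens.map fa.hom.base).obj V) ((Opens.map fi.hom.base).obj ((Opens.map fa.hom.base).obj V)) le_rfl)
      (cLE fj ((Opens.map fb.hom.base).obj V) ((Opens.map fi.hom.base).obj ((Opens.map fa.hom.base).obj V))
        (fun z hz => by
          have e : fa.hom.base (fi.hom.base z) = fb.hom.base (fj.hom.base z) := congr($(h.w).hom.base z)
          show fb.hom.base (fj.hom.base z) ∈ V
          rw [← e]; exact hz)) := by
  let K := span fi.hom fj.hom
  have h' : IsPushout fi.hom fj.hom fa.hom fb.hom := h.map SheafedSpace.forgetToPresheafedSpace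
  let e := (IsPushout.of_hasPushout fi.hom fj.hom).isoIsPushout _ _ h'
  have hl : colimit.ι K WalkingSpan.left ≫ e.hom = fa.hom :=
    IsPushout.inl_isoIsPushout_hom _ _ (IsPushout.of_hasPushout fi.hom fj.hom) h'
  have hr : colimit.ι K WalkingSpan.right ≫ e.hom = fb.hom :=
    IsPushout.inr_isoIsPushout_hom _ _ (IsPushout.of_hasPushout fi.hom fj.hom) h'
  let U : Opens (colimit K).carrier := (Opens.map e.hom.base).obj V
  have H := (isPullback_limit_π (PresheafedSpace.componentwiseDiagram K U)).of_iso
    (e₁ := (PresheafedSpace.colimitPresheafObjIsoComponentwiseLimit K U).symm)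
    (e₂ := Iso.refl _) (e₃ := Iso.refl _) (e₄ := Iso.refl _)
    (fst' := (colimit.ι K WalkingSpan.left).c.app (op U)) (snd' := (colimit.ι K WalkingSpan.right).c.app (op U))
    (f' := (PresheafedSpace.componentwiseDiagram K U).map (WalkingSpan.Hom.fst).op)
    (g' := (PresheafedSpace.componentwiseDiagram K U).map (WalkingSpan.Hom.snd).op)
    ((Category.comp_id _).trans (PresheafedSpace.colimitPresheafObjIsoComponentwiseLimit_inv_ι_app K U _).symm)
    ((Category.comp_id _).trans (PresheafedSpace.colimitPresheafObjIsoComponentwiseLimit_inv_ι_app K U _).symm)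
    ((Category.comp_id _).trans (Category.id_comp _).symm) ((Category.comp_id _).trans (Category.id_comp _).symm)
  have eA : (Opens.map (colimit.ι K WalkingSpan.left).base).obj U = (Opens.map fa.hom.base).obj V := by
    rw [← hl]; rfl
  have eB : (Opens.map (colimit.ι K WalkingSpan.right).base).obj U = (Opens.map fb.hom.base).obj V := by
    rw [← hr]; rfl
  have eD : (Opens.map (colimit.ι K WalkingSpan.zero).base).obj U =
      (Opens.map fi.hom.base).obj ((Opens.map fa.hom.base).obj V) := by
    rw [← eA, ← colimit.w K WalkingSpan.Hom.fst]; rfl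
  haveI := PresheafedSpace.c_isIso_of_iso e.hom
  haveI : IsIso (e.hom.c.app (op V)) := inferInstance
  refine H.of_iso (asIso (e.hom.c.app (op V))).symm (A.presheaf.mapIso (eqToIso (congrArg op eA)))
    (B.presheaf.mapIso (eqToIso (congrArg op eB))) (D.presheaf.mapIso (eqToIso (congrArg op eD))) ?_ ?_ ?_ ?_
  · rw [Iso.symm_hom, asIso_inv, IsIso.eq_inv_comp]
    simp only [cLE]
    rw [PresheafedSpace.congr_app hl.symm (op V)]
    simp only [PresheafedSpace.comp_c_app, Category.assoc, Functor.mapIso_hom, eqToIso.hom]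
    refine Eq.trans ?_ (Category.assoc _ _ _).symm
    refine congrArg (fun t => e.hom.c.app (op V) ≫ (colimit.ι K WalkingSpan.left).c.app (op U) ≫ t) ?_
    exact (congrArg A.presheaf.map (Subsingleton.elim _ _)).trans (A.presheaf.map_comp _ _)
  · rw [Iso.symm_hom, asIso_inv, IsIso.eq_inv_comp]
    simp only [cLE]
    rw [PresheafedSpace.congr_app hr.symm (op V)]
    simp only [PresheafedSpace.comp_c_app, Category.assoc, Functor.mapIso_hom, eqToIso.hom]
    refine Eq.trans ?_ (Category.assoc _ _ _).symm
    refine congrArg (fun t => e.hom.c.app (op V) ≫ (colimit.ι K WalkingSpan.right).c.app (op U) ≫ t) ?_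
    exact (congrArg B.presheaf.map (Subsingleton.elim _ _)).trans (B.presheaf.map_comp _ _)
  · change (fi.hom.c.app _ ≫ D.presheaf.map _) ≫ D.presheaf.map _ = A.presheaf.map _ ≫ _ ≫ D.presheaf.map _
    rw [fi.hom.c.naturality_assoc, Category.assoc, ← D.presheaf.map_comp]
    exact congrArg (fi.hom.c.app _ ≫ ·) ((congrArg D.presheaf.map (Subsingleton.elim _ _)).trans (D.presheaf.map_comp _ _))
  · change (fj.hom.c.app _ ≫ D.presheaf.map _) ≫ D.presheaf.map _ = B.presheaf.map _ ≫ _ ≫ D.presheaf.map _
    rw [fj.hom.c.naturality_assoc, Category.assoc, ← D.presheaf.map_comp]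
    exact congrArg (fj.hom.c.app _ ≫ ·) ((congrArg D.presheaf.map (Subsingleton.elim _ _)).trans (D.presheaf.map_comp _ _))

/-- Sections of schemes forming a pushout of ringed spaces. -/
theorem isPullback_appLE_of_ringedSpace {X Y Z P : Scheme.{u}} {i : Z ⟶ X} {j : Z ⟶ Y} {a : X ⟶ P} {b : Y ⟶ P}
    (w : i ≫ a = j ≫ b)
    (h : IsPushout
      ((Scheme.forgetToLocallyRingedSpace ⋙ LocallyRingedSpace.forgetToSheafedSpace).map i)
      ((Scheme.forgetToLocallyRingedSpace ⋙ LocallyRingedSpace.forgetToSheafedSpace).map j)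
      ((Scheme.forgetToLocallyRingedSpace ⋙ LocallyRingedSpace.forgetToSheafedSpace).map a)
      ((Scheme.forgetToLocallyRingedSpace ⋙ LocallyRingedSpace.forgetToSheafedSpace).map b)) (U : P.Opens) :
    IsPullback (a.appLE U (a ⁻¹ᵁ U) le_rfl) (b.appLE U (b ⁻¹ᵁ U) le_rfl)
      (i.appLE (a ⁻¹ᵁ U) (i ⁻¹ᵁ (a ⁻¹ᵁ U)) le_rfl)
      (j.appLE (b ⁻¹ᵁ U) (i ⁻¹ᵁ (a ⁻¹ᵁ U)) (by rw [← Scheme.Hom.comp_preimage, w]; exact le_rfl)) :=
  isPullback_cLE_of_isPushout h U

end Groth.SpecFerrand
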