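import Mathlib
import Groth.Prelude.Def_FlatMod2
import Groth.Agent.PicAux.FreeBasis
import Groth.Agent.SpecFerrand.PushSections

/-!
Homomorphisms of finite locally free modules on a pushout of ringed spaces.
-/

set_option autoImplicit false

universe u

open CategoryTheory CategoryTheory.Limits AlgebraicGeometry TopologicalSpace Opposite Groth.PicAux

noncomputable section

namespace Groth.SpecFerrand

variable {X Y Z T : Scheme.{u}}

/-- A morphism of modules from compatible linear maps on sections. -/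
def modHom {M N : T.Modules} (f : ∀ U : T.Opens, Γ(M, U) → Γ(N, U))
    (hadd : ∀ U (x y : Γ(M, U)), f U (x + y) = f U x + f U y)
    (hlin : ∀ U (r : Γ(T, U)) (x : Γ(M, U)), f U (r • x) = r • f U x)
    (hnat : ∀ U V (h : V ≤ U) (x : Γ(M, U)), f V (res M h x) = res N h (f U x)) : M ⟶ N :=
  ⟨PresheafOfModules.homMk
    { app := fun U => AddCommGrpCat.ofHom (AddMonoidHom.mk' (f U.unop) (hadd U.unop))
      naturality := fun U V g => AddCommGrpCat.ext fun x => hnat U.unop V.unop g.unop.le x }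
    fun U r x => hlin U.unop r x⟩

theorem modHom_app {M N : T.Modules} (f : ∀ U : T.Opens, Γ(M, U) → Γ(N, U)) (hadd hlin hnat) (U : T.Opens)
    (x : Γ(M, U)) : (modHom f hadd hlin hnat).app U x = f U x := rfl

theorem pullbackCongr_pullSec {f g : X ⟶ T} (e : f = g) (M : T.Modules) {U : T.Opens} (m : Γ(M, U))
    (h : f ⁻¹ᵁ U ≤ g ⁻¹ᵁ U) :
    ((Scheme.Modules.pullbackCongr e).app M).hom.app (f ⁻¹ᵁ U) (pullSec f M m) = res _ h (pullSec g M m) := by
  subst e
  rw [res_self]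
  rfl

/-- A morphism out of a pullback is determined by pulled back sections. -/
theorem pullback_hom_ext (g : X ⟶ T) {M : T.Modules} {L : X.Modules}
    {a a' : (Scheme.Modules.pullback g).obj M ⟶ L}
    (h : ∀ (U : T.Opens) (m : Γ(M, U)), a.app (g ⁻¹ᵁ U) (pullSec g M m) = a'.app (g ⁻¹ᵁ U) (pullSec g M m)) :
    a = a' := by
  apply ((Scheme.Modules.pullbackPushforwardAdjunction g).homEquiv _ _).injective
  rw [Adjunction.homEquiv_unit, Adjunction.homEquiv_unit]
  exact Scheme.Modules.hom_ext _ _ fun U => AddCommGrpCat.ext fun m => h U m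

theorem pullSec_add (g : X ⟶ T) (M : T.Modules) {U : T.Opens} (x y : Γ(M, U)) :
    pullSec g M (x + y) = pullSec g M x + pullSec g M y :=
  map_add (((Scheme.Modules.pullbackPushforwardAdjunction g).unit.app M).app U).hom x y

theorem pullSec_sum (g : X ⟶ T) (M : T.Modules) {U : T.Opens} {κ : Type*} (t : Finset κ) (x : κ → Γ(M, U)) :
    pullSec g M (∑ i ∈ t, x i) = ∑ i ∈ t, pullSec g M (x i) :=
  map_sum (((Scheme.Modules.pullbackPushforwardAdjunction g).unit.app M).app U).hom x t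

theorem hsec_ext {A B C D : CommRingCat.{u}} {f : A ⟶ B} {g : A ⟶ C} {h : B ⟶ D} {k : C ⟶ D} (H : IsPullback f g h k)
    {x y : A} (h1 : f x = f y) (h2 : g x = g y) : x = y :=
  Types.ext_of_isPullback (H.map (forget CommRingCat)) h1 h2

theorem hsec_exists {A B C D : CommRingCat.{u}} {f : A ⟶ B} {g : A ⟶ C} {h : B ⟶ D} {k : C ⟶ D} (H : IsPullback f g h k)
    (x : B) (y : C) (e : h x = k y) : ∃ r : A, f r = x ∧ g r = y :=
  Types.exists_of_isPullback (H.map (forget CommRingCat)) x y e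

variable {fX : Z ⟶ X} {fY : Z ⟶ Y} {gX : X ⟶ T} {gY : Y ⟶ T} (hw : fX ≫ gX = fY ≫ gY)

/-- The canonical comparison of the two iterated pullbacks. -/
def pullXi (P : T.Modules) :
    (Scheme.Modules.pullback fX).obj ((Scheme.Modules.pullback gX).obj P) ≅
      (Scheme.Modules.pullback fY).obj ((Scheme.Modules.pullback gY).obj P) :=
  (Scheme.Modules.pullbackComp fX gX).app P ≪≫ (Scheme.Modules.pullbackCongr hw).app P ≪≫
    ((Scheme.Modules.pullbackComp fY gY).app P).symm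

include hw in
theorem preimage_le (U : T.Opens) : fX ⁻¹ᵁ (gX ⁻¹ᵁ U) ≤ fY ⁻¹ᵁ (gY ⁻¹ᵁ U) := by
  rw [← Scheme.Hom.comp_preimage, hw]
  exact le_rfl

theorem pullXi_pullSec (P : T.Modules) {U : T.Opens} (n : Γ(P, U)) :
    (pullXi hw P).hom.app (fX ⁻¹ᵁ (gX ⁻¹ᵁ U)) (pullSec fX _ (pullSec gX P n)) =
      res _ (preimage_le hw U) (pullSec fY _ (pullSec gY P n)) := by
  change ((Scheme.Modules.pullbackComp fY gY).inv.app P).app _
    (((Scheme.Modules.pullbackCongr hw).app P).hom.app _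
      (((Scheme.Modules.pullbackComp fX gX).hom.app P).app _ (pullSec fX _ (pullSec gX P n)))) = _
  rw [pullSec_comp fX gX P n]
  erw [pullbackCongr_pullSec hw P n (preimage_le hw U)]
  refine (app_res _ _ _).trans (congrArg _ ?_)
  rw [← pullSec_comp fY gY P n]
  exact congr(($(Iso.hom_inv_id_app (Scheme.Modules.pullbackComp fY gY) P)).app _
    (pullSec fY _ (pullSec gY P n)))

variable (hsec : ∀ U : T.Opens, IsPullback (gX.appLE U (gX ⁻¹ᵁ U) le_rfl) (gY.appLE U (gY ⁻¹ᵁ U) le_rfl)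
  (fX.appLE (gX ⁻¹ᵁ U) (fX ⁻¹ᵁ (gX ⁻¹ᵁ U)) le_rfl)
  (fY.appLE (gY ⁻¹ᵁ U) (fX ⁻¹ᵁ (gX ⁻¹ᵁ U)) (preimage_le hw U)))

/-- A pair of sections of the pullbacks agreeing on the common piece. -/
def PairCompat (N : T.Modules) {U : T.Opens} (sx : Γ((Scheme.Modules.pullback gX).obj N, gX ⁻¹ᵁ U))
    (sy : Γ((Scheme.Modules.pullback gY).obj N, gY ⁻¹ᵁ U)) : Prop :=
  (pullXi hw N).hom.app (fX ⁻¹ᵁ (gX ⁻¹ᵁ U)) (pullSec fX _ sx) = res _ (preimage_le hw U) (pullSec fY _ sy)

theorem PairCompat.res {N : T.Modules} {U V : T.Opens} (h : V ≤ U)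
    {sx : Γ((Scheme.Modules.pullback gX).obj N, gX ⁻¹ᵁ U)} {sy : Γ((Scheme.Modules.pullback gY).obj N, gY ⁻¹ᵁ U)}
    (hc : PairCompat hw N sx sy) :
    PairCompat hw N (PicAux.res _ (gX.preimage_mono h) sx) (PicAux.res _ (gY.preimage_mono h) sy) := by
  unfold PairCompat at hc ⊢
  rw [← res_pullSec, ← res_pullSec, app_res, hc, res_res, res_res]

include hsec in
theorem existsUnique_of_basis {N : T.Modules} {W : T.Opens} {k : ℕ} {s : Fin k → Γ(N, W)} (hs : Basis' N W s)
    {sx : Γ((Scheme.Modules.pullback gX).obj N, gX ⁻¹ᵁ W)} {sy : Γ((Scheme.Modules.pullback gY).obj N, gY ⁻¹ᵁ W)}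
    (hc : PairCompat hw N sx sy) : ∃! n : Γ(N, W), pullSec gX N n = sx ∧ pullSec gY N n = sy := by
  have hX := hs.pull gX
  have hY := hs.pull gY
  have lift : ∀ (r : Fin k → Γ(T, W)), pullSec gX N (∑ i, r i • res N le_rfl (s i)) =
      ∑ i, gX.app W (r i) • res _ le_rfl (pullSec gX N (s i)) ∧
      pullSec gY N (∑ i, r i • res N le_rfl (s i)) =
      ∑ i, gY.app W (r i) • res _ le_rfl (pullSec gY N (s i)) := fun r => by
    constructor <;>
    · rw [pullSec, map_sum]
      refine Finset.sum_congr rfl fun i _ => ?_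
      rw [res_self, res_self]
      exact pullSec_smul _ _ _ _
  obtain ⟨cX, rfl⟩ := (hX _ le_rfl).2 sx
  obtain ⟨cY, rfl⟩ := (hY _ le_rfl).2 sy
  have eq : ∀ i, (fX.appLE (gX ⁻¹ᵁ W) (fX ⁻¹ᵁ (gX ⁻¹ᵁ W)) le_rfl) (cX i) =
      (fY.appLE (gY ⁻¹ᵁ W) (fX ⁻¹ᵁ (gX ⁻¹ᵁ W)) (preimage_le hw W)) (cY i) := by
    refine congrFun ((((hY.pull fY).res' (preimage_le hw W)) _ le_rfl).1 ?_)
    unfold PairCompat at hc
    simp only [res_self] at hc ⊢
    rw [pullSec_sum, pullSec_sum, map_sum, res_sum] at hc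
    convert hc using 1
    · refine Finset.sum_congr rfl fun i _ => ?_
      change _ = (pullXi hw N).hom.app _ (pullSec fX _ (cX i • pullSec gX N (s i)))
      rw [pullSec_smul, Scheme.Modules.Hom.app_smul, pullXi_pullSec, Scheme.Hom.app_eq_appLE]
    · refine Finset.sum_congr rfl fun i _ => ?_
      change _ = res _ _ (pullSec fY _ (cY i • pullSec gY N (s i)))
      rw [pullSec_smul, res_smul]
      refine congrArg (· • _) ?_
      change _ = (fY.app _ ≫ Z.presheaf.map _) (cY i)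
      rfl
  have heq : ∀ i, ∃ r : Γ(T, W), gX.app W r = cX i ∧ gY.app W r = cY i := fun i => by
    rw [Scheme.Hom.app_eq_appLE, Scheme.Hom.app_eq_appLE]
    exact hsec_exists (hsec W) _ _ (eq i)
  choose r hr1 hr2 using heq
  refine ⟨∑ i, r i • res N le_rfl (s i), ⟨?_, ?_⟩, fun n hn => ?_⟩
  · rw [(lift r).1]; simp only [hr1]
  · rw [(lift r).2]; simp only [hr2]
  · obtain ⟨r', rfl⟩ := (hs W le_rfl).2 n
    obtain ⟨h1, h2⟩ := hn
    rw [(lift r').1] at h1
    rw [(lift r').2] at h2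
    have e1 := (hX _ le_rfl).1 h1
    have e2 := (hY _ le_rfl).1 h2
    refine Finset.sum_congr rfl fun i _ => congrArg (· • _) ?_
    refine hsec_ext (hsec W) ?_ ?_
    · rw [← Scheme.Hom.app_eq_appLE, hr1]; exact congrFun e1 i
    · rw [← Scheme.Hom.app_eq_appLE, hr2]; exact congrFun e2 i

include hsec in
theorem existsUnique_section {N : T.Modules} (hN : FlatMod.IsFinLocFree N) {U : T.Opens}
    {sx : Γ((Scheme.Modules.pullback gX).obj N, gX ⁻¹ᵁ U)} {sy : Γ((Scheme.Modules.pullback gY).obj N, gY ⁻¹ᵁ U)}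
    (hc : PairCompat hw N sx sy) : ∃! n : Γ(N, U), pullSec gX N n = sx ∧ pullSec gY N n = sy := by
  choose W k s hxW hs using fun x : T => exists_basis_of_isFinLocFree hN x
  let V : T → T.Opens := fun x => W x ⊓ U
  have hV : ∀ x, V x ≤ U := fun x => inf_le_right
  have hcov : U ≤ iSup V := fun x hx => Opens.mem_iSup.2 ⟨x, hxW x, hx⟩
  have hb : ∀ (x : T) (O : T.Opens) (hO : O ≤ V x) (hOU : O ≤ U),
      ∃! n : Γ(N, O), pullSec gX N n = res _ (gX.preimage_mono hOU) sx ∧
        pullSec gY N n = res _ (gY.preimage_mono hOU) sy := fun x O hO hOU =>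
    existsUnique_of_basis hw hsec ((hs x).res' (hO.trans inf_le_left)) (hc.res hw hOU)
  choose n hn hnu using fun x => hb x (V x) le_rfl (hV x)
  have hres : ∀ (x : T) (O : T.Opens) (hO : O ≤ V x),
      pullSec gX N (res N hO (n x)) = res _ (gX.preimage_mono (hO.trans (hV x))) sx ∧
        pullSec gY N (res N hO (n x)) = res _ (gY.preimage_mono (hO.trans (hV x))) sy := fun x O hO => by
    rw [← res_pullSec, ← res_pullSec, (hn x).1, (hn x).2, res_res, res_res]
    exact ⟨rfl, rfl⟩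
  obtain ⟨y, hy, -⟩ := res_glue V hV hcov n fun x x' =>
    (hb x (V x ⊓ V x') inf_le_left (inf_le_left.trans (hV x))).unique (hres x _ inf_le_left)
      (hres x' _ inf_le_right)
  have hcX : gX ⁻¹ᵁ U ≤ ⨆ x, gX ⁻¹ᵁ V x := fun p hp => by
    obtain ⟨x, hx⟩ := Opens.mem_iSup.1 (hcov hp)
    exact Opens.mem_iSup.2 ⟨x, hx⟩
  have hcY : gY ⁻¹ᵁ U ≤ ⨆ x, gY ⁻¹ᵁ V x := fun p hp => by
    obtain ⟨x, hx⟩ := Opens.mem_iSup.1 (hcov hp)
    exact Opens.mem_iSup.2 ⟨x, hx⟩
  refine ⟨y, ⟨?_, ?_⟩, fun y' hy' => res_ext V hV hcov fun x => ?_⟩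
  · refine res_ext (fun x => gX ⁻¹ᵁ V x) (fun x => gX.preimage_mono (hV x)) hcX fun x => ?_
    rw [res_pullSec _ _ (hV x), hy, (hn x).1]
  · refine res_ext (fun x => gY ⁻¹ᵁ V x) (fun x => gY.preimage_mono (hV x)) hcY fun x => ?_
    rw [res_pullSec _ _ (hV x), hy, (hn x).2]
  · rw [hy]
    exact hnu x _ ⟨by rw [← res_pullSec, hy'.1], by rw [← res_pullSec, hy'.2]⟩

include hsec in
/-- Pairs of morphisms agreeing on the common piece come from a unique morphism. -/
theorem hom_faithful_full {M N : T.Modules} (hN : FlatMod.IsFinLocFree N) :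
    (∀ φ ψ : M ⟶ N, (Scheme.Modules.pullback gX).map φ = (Scheme.Modules.pullback gX).map ψ →
        (Scheme.Modules.pullback gY).map φ = (Scheme.Modules.pullback gY).map ψ → φ = ψ) ∧
      ∀ (a : (Scheme.Modules.pullback gX).obj M ⟶ (Scheme.Modules.pullback gX).obj N)
        (b : (Scheme.Modules.pullback gY).obj M ⟶ (Scheme.Modules.pullback gY).obj N),
        (Scheme.Modules.pullback fX).map a ≫ (pullXi hw N).hom =
          (pullXi hw M).hom ≫ (Scheme.Modules.pullback fY).map b →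
        ∃ φ : M ⟶ N, (Scheme.Modules.pullback gX).map φ = a ∧ (Scheme.Modules.pullback gY).map φ = b := by
  refine ⟨fun φ ψ hX hY => Scheme.Modules.hom_ext _ _ fun U => AddCommGrpCat.ext fun m => ?_, fun a b hab => ?_⟩
  · have hc : PairCompat hw N (pullSec gX N (φ.app U m)) (pullSec gY N (φ.app U m)) := pullXi_pullSec hw N _
    refine (existsUnique_section hw hsec hN hc).unique ⟨rfl, rfl⟩ ⟨?_, ?_⟩
    · rw [← pullSec_map, ← pullSec_map, hX]
    · rw [← pullSec_map, ← pullSec_map, hY]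
  have hc : ∀ (U : T.Opens) (m : Γ(M, U)),
      PairCompat hw N (a.app _ (pullSec gX M m)) (b.app _ (pullSec gY M m)) := fun U m => by
    unfold PairCompat
    rw [← pullSec_map fX a, ← pullSec_map fY b, ← app_res, ← pullXi_pullSec hw M m]
    exact congr(($hab).app _ (pullSec fX _ (pullSec gX M m)))
  choose f hf hfu using fun U m => existsUnique_section hw hsec hN (hc U m)
  refine ⟨modHom f (fun U x y => ?_) (fun U r x => ?_) (fun U V h x => ?_), ?_, ?_⟩
  · refine (hfu U _ _ ⟨?_, ?_⟩).symm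
    · rw [pullSec_add, pullSec_add, map_add, (hf U x).1, (hf U y).1]
    · rw [pullSec_add, pullSec_add, map_add, (hf U x).2, (hf U y).2]
  · refine (hfu U _ _ ⟨?_, ?_⟩).symm
    · rw [pullSec_smul, pullSec_smul, Scheme.Modules.Hom.app_smul, (hf U x).1]
    · rw [pullSec_smul, pullSec_smul, Scheme.Modules.Hom.app_smul, (hf U x).2]
  · refine (hfu V _ _ ⟨?_, ?_⟩).symm
    · rw [← res_pullSec, ← res_pullSec, (hf U x).1, app_res]
    · rw [← res_pullSec, ← res_pullSec, (hf U x).2, app_res]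
  · exact pullback_hom_ext gX fun U m => (pullSec_map gX _ m).trans (hf U m).1
  · exact pullback_hom_ext gY fun U m => (pullSec_map gY _ m).trans (hf U m).2

end Groth.SpecFerrand
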