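import Mathlib
import Groth.Agent.SpecFerrand.Basic
import Groth.Agent.MiscGeom.MagnetBase
import Groth.Agent.MiscGeom.MagnetRep
import Groth.Prelude.Def_Magnet4

/-!
Diagonalizable monoid schemes: the pushout square of faces, after product with any scheme.
-/

set_option autoImplicit false

universe u

open CategoryTheory CategoryTheory.Limits MonoidalCategory CartesianMonoidalCategory AlgebraicGeometry
open Magnet Groth.MiscGeom.Mag Groth.SpecFerrand

noncomputable section

namespace Groth.SpecFerrand.Magnet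

/-! ### Rings -/

section Ring

variable (A : Type u) [CommRing A] {M : Type} [AddCommMonoid M]

theorem coeff_face {P F : AddSubmonoid M} (hF : Magnet.IsFace P F) (f : MonoidAlgebra A (Multiplicative ↥P))
    (m : ↥F) :
    (faceAlgHom A hF f).coeff (Multiplicative.ofAdd m) =
      f.coeff (Multiplicative.ofAdd (AddSubmonoid.inclusion hF.le m)) := by
  classical
  induction f using MonoidAlgebra.induction_linear with
  | zero => simp
  | add x y hx hy => simp [hx, hy]
  | single n r =>
    obtain ⟨n, rfl⟩ : ∃ n', Multiplicative.ofAdd n' = n := ⟨n.toAdd, rfl⟩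
    by_cases hn : (n : M) ∈ F
    · rw [faceAlgHom_single_of_mem A hF n hn, MonoidAlgebra.coeff_single, MonoidAlgebra.coeff_single,
        Finsupp.single_apply, Finsupp.single_apply]
      refine if_congr ?_ rfl rfl
      rw [Multiplicative.ofAdd.injective.eq_iff, Multiplicative.ofAdd.injective.eq_iff, Subtype.ext_iff,
        Subtype.ext_iff]
      rfl
    · rw [faceAlgHom_single_of_not_mem A hF n hn, MonoidAlgebra.coeff_single, Finsupp.single_apply, if_neg]
      · rfl
      · intro e
        refine hn ?_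
        have := congrArg (fun z : Multiplicative ↥P => ((Multiplicative.toAdd z : ↥P) : M)) e
        simp only [toAdd_ofAdd] at this
        rw [this]
        exact m.2

variable {N N' L L' : AddSubmonoid M} (hNL : N ≤ L) (hN'L' : N' ≤ L')
  (hL : Magnet.IsFace L' L) (hN : Magnet.IsFace N' N)
  (hdiff : (N' : Set M) = (L' : Set M) \ ((L : Set M) \ (N : Set M)))

include hdiff in
theorem sq_face :
    Sq (faceAlgHom A hN).toRingHom (maMap A (AddSubmonoid.inclusion hN'L')).hom
      (maMap A (AddSubmonoid.inclusion hNL)).hom (faceAlgHom A hL).toRingHom := by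
  classical
  have hiff : ∀ x : M, x ∈ N' ↔ x ∈ L' ∧ (x ∈ L → x ∈ N) := by
    intro x
    rw [← SetLike.mem_coe, hdiff]
    simp only [Set.mem_diff, SetLike.mem_coe, not_and, not_not]
  have hmap : ∀ {P Q : AddSubmonoid M} (h : P ≤ Q) (f : MonoidAlgebra A (Multiplicative ↥P))
      (n : Multiplicative ↥P),
      ((maMap A (AddSubmonoid.inclusion h)).hom f).coeff
        ((AddMonoidHom.toMultiplicative (AddSubmonoid.inclusion h)) n) = f.coeff n := by
    intro P Q h f n
    exact Finsupp.mapDomain_apply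
      (f := AddMonoidHom.toMultiplicative (AddSubmonoid.inclusion h))
      (AddSubmonoid.inclusion_injective h) _ _
  refine ⟨?_, ?_, ?_⟩
  · refine MonoidAlgebra.ringHom_ext (fun r => ?_) fun n => ?_
    · simp only [RingHom.comp_apply]
      rw [show (MonoidAlgebra.single (1 : Multiplicative ↥N') r) = algebraMap A _ r from rfl]
      simp only [AlgHom.toRingHom_eq_coe, RingHom.coe_coe, AlgHom.commutes, maMap, CommRingCat.hom_ofHom]
    · obtain ⟨n, rfl⟩ : ∃ n', Multiplicative.ofAdd n' = n := ⟨n.toAdd, rfl⟩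
      simp only [RingHom.comp_apply, AlgHom.toRingHom_eq_coe, RingHom.coe_coe, maMap, CommRingCat.hom_ofHom,
        MonoidAlgebra.mapDomainAlgHom_apply, MonoidAlgebra.mapDomain_single]
      by_cases hn : (n : M) ∈ N
      · rw [faceAlgHom_single_of_mem A hN n hn, MonoidAlgebra.mapDomain_single]
        exact (faceAlgHom_single_of_mem A hL (AddSubmonoid.inclusion hN'L' n) (hNL hn) 1).symm
      · rw [faceAlgHom_single_of_not_mem A hN n hn, MonoidAlgebra.mapDomain_zero]
        exact (faceAlgHom_single_of_not_mem A hL (AddSubmonoid.inclusion hN'L' n)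
          (fun h => hn (((hiff _).mp n.2).2 h)) 1).symm
  · intro f
    exact ⟨_, DFunLike.congr_fun (faceAlgHom_comp_mapDomain A hL) f⟩
  · intro b a hab
    have hsupp : (↑a.coeff.support : Set (Multiplicative ↥L')) ⊆
        Set.range (AddMonoidHom.toMultiplicative (AddSubmonoid.inclusion hN'L')) := by
      intro m hm
      rw [Finset.mem_coe, Finsupp.mem_support_iff] at hm
      refine ⟨Multiplicative.ofAdd ⟨(m.toAdd : M), ?_⟩, rfl⟩
      rw [hiff]
      refine ⟨m.toAdd.2, fun hmL => ?_⟩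
      by_contra hmN
      refine hm ?_
      have h1 : a.coeff m = (faceAlgHom A hL a).coeff (Multiplicative.ofAdd ⟨_, hmL⟩) :=
        (coeff_face A hL a ⟨_, hmL⟩).symm
      rw [h1, show faceAlgHom A hL a = (maMap A (AddSubmonoid.inclusion hNL)).hom b from hab.symm]
      refine Finsupp.mapDomain_notin_range b.coeff _ ?_
      rintro ⟨n, hn⟩
      have := congrArg (fun z => ((Multiplicative.toAdd z : ↥L) : M)) hn
      simp only [toAdd_ofAdd] at this
      exact hmN (this ▸ n.toAdd.2)
    let x := MonoidAlgebra.comapDomain (AddMonoidHom.toMultiplicative (AddSubmonoid.inclusion hN'L'))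
      (AddSubmonoid.inclusion_injective hN'L') a
    have hx2 : (maMap A (AddSubmonoid.inclusion hN'L')).hom x = a :=
      MonoidAlgebra.mapDomain_comapDomain hsupp _
    have hx1 : faceAlgHom A hN x = b := by
      refine MonoidAlgebra.ext (Finsupp.ext fun n => ?_)
      obtain ⟨n, rfl⟩ : ∃ n', Multiplicative.ofAdd n' = n := ⟨n.toAdd, rfl⟩
      rw [coeff_face, ← hmap hNL b, show (maMap A (AddSubmonoid.inclusion hNL)).hom b = faceAlgHom A hL a from hab]
      refine Eq.trans ?_ (coeff_face A hL a _).symm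
      refine ((hmap hN'L' x _).symm.trans ?_)
      rw [hx2]
      rfl
    refine ⟨x, ⟨hx1, hx2⟩, fun y hy => ?_⟩
    exact maMap_injective (A := A) (AddSubmonoid.inclusion hN'L') (AddSubmonoid.inclusion_injective _)
      (hy.2.trans hx2.symm)

end Ring

/-! ### Schemes -/

variable {S : Scheme.{u}} {M : Type} [AddCommMonoid M]

theorem toAMon_faceWhisker {P F : AddSubmonoid M} (hF : Magnet.IsFace P F) (T : Over S) :
    (AMonS.faceMap S hF ▷ T).left ≫ toAMon ↥P T = toAMon ↥F T ≫ (AMon.faceMap (ULift.{u} ℤ) hF).left := by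
  simp only [toAMon, ← Category.assoc]
  rw [show (AMonS.faceMap S hF ▷ T).left ≫ pullback.fst (AMonS S ↥P).hom T.hom =
      pullback.fst (AMonS S ↥F).hom T.hom ≫ (AMonS.faceMap S hF).left from
    congrArg CommaMorphism.left (whiskerRight_fst (AMonS.faceMap S hF) T)]
  simp only [Category.assoc]
  congr 1
  exact pullback.lift_fst _ _ _

variable {A : Type u} [CommRing A] (str : Spec (CommRingCat.of A) ⟶ S)

theorem specMA_faceWhisker {P F : AddSubmonoid M} (hF : Magnet.IsFace P F) :
    (specMA str ↥F).hom ≫ (AMonS.faceMap S hF ▷ Over.mk str).left =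
      Spec.map (CommRingCat.ofHom (faceAlgHom A hF).toRingHom) ≫ (specMA str ↥P).hom := by
  refine (isPullback_toAMon ↥P (Over.mk str)).hom_ext ?_ ?_
  · rw [Category.assoc, toAMon_faceWhisker, ← Category.assoc, specMA_toAMon, Category.assoc, specMA_toAMon,
      AMon.faceMap_left]
    refine (Spec.map_comp _ _).symm.trans (Eq.trans (congrArg Spec.map ?_) (Spec.map_comp _ _))
    refine CommRingCat.hom_ext (MonoidAlgebra.ringHom_ext (fun r => ?_) fun m => ?_)
    · simp only [CommRingCat.hom_comp, RingHom.comp_apply, CommRingCat.hom_ofHom]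
      simp [maCoeff, faceAlgHom, MonoidAlgebra.lift_single, MonoidAlgebra.one_def]
    · obtain ⟨m, rfl⟩ : ∃ m', Multiplicative.ofAdd m' = m := ⟨m.toAdd, rfl⟩
      simp only [CommRingCat.hom_comp, RingHom.comp_apply, CommRingCat.hom_ofHom, AlgHom.toRingHom_eq_coe,
        RingHom.coe_coe, maCoeff]
      by_cases hm : (m : M) ∈ F
      · simp [faceAlgHom_single_of_mem _ hF m hm]
      · simp [faceAlgHom_single_of_not_mem _ hF m hm]
  · rw [Category.assoc, show (AMonS.faceMap S hF ▷ Over.mk str).left ≫ (snd (AMonS S ↥P) (Over.mk str)).left =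
        (snd (AMonS S ↥F) (Over.mk str)).left from congrArg CommaMorphism.left (whiskerRight_snd (AMonS.faceMap S hF) _),
      specMA_snd, Category.assoc, specMA_snd, ← Spec.map_comp]
    exact congrArg Spec.map (CommRingCat.hom_ext (RingHom.ext fun r => ((faceAlgHom A hF).commutes r).symm))

variable {N N' L L' : AddSubmonoid M} (hNL : N ≤ L) (hN'L' : N' ≤ L')
  (hL : Magnet.IsFace L' L) (hN : Magnet.IsFace N' N)
  (hdiff : (N' : Set M) = (L' : Set M) \ ((L : Set M) \ (N : Set M))) {X : Over S}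

include hdiff in
theorem square_comm (T : Over S) :
    (AMonS.faceMap S hL ▷ T) ≫ (AMonS.map S (AddSubmonoid.inclusion hN'L') ▷ T) =
      (AMonS.map S (AddSubmonoid.inclusion hNL) ▷ T) ≫ (AMonS.faceMap S hN ▷ T) := by
  rw [← comp_whiskerRight, ← comp_whiskerRight]
  refine congrArg (· ▷ T) ?_
  simp only [AMonS.map, AMonS.faceMap, ← Functor.map_comp]
  refine congrArg _ (Over.OverMorphism.ext ?_)
  rw [Over.comp_left, Over.comp_left, AMon.faceMap_left, AMon.faceMap_left]
  refine (Spec.map_comp _ _).symm.trans (Eq.trans (congrArg Spec.map ?_) (Spec.map_comp _ _))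
  exact CommRingCat.hom_ext (sq_face (ULift.{u} ℤ) hNL hN'L' hL hN hdiff).comm.symm

include hdiff in
theorem isPushout_left_affine :
    IsPushout (AMonS.faceMap S hL ▷ Over.mk str).left (AMonS.map S (AddSubmonoid.inclusion hNL) ▷ Over.mk str).left
      (AMonS.map S (AddSubmonoid.inclusion hN'L') ▷ Over.mk str).left (AMonS.faceMap S hN ▷ Over.mk str).left :=
  (isPushout_Sp (sq_face A hNL hN'L' hL hN hdiff)).flip.of_iso (specMA str _) (specMA str _) (specMA str _)
    (specMA str _) (specMA_faceWhisker str hL).symm (specMA_whiskerRight str _).symm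
    (specMA_whiskerRight str _).symm (specMA_faceWhisker str hN).symm

include hNL hN'L' hL hN hdiff in
theorem hom_ext {T : Over S} {χ χ' : AMonS S ↥N' ⊗ T ⟶ X}
    (h1 : (AMonS.map S (AddSubmonoid.inclusion hN'L') ▷ T) ≫ χ =
      (AMonS.map S (AddSubmonoid.inclusion hN'L') ▷ T) ≫ χ')
    (h2 : (AMonS.faceMap S hN ▷ T) ≫ χ = (AMonS.faceMap S hN ▷ T) ≫ χ') : χ = χ' := by
  refine whiskerLeft_cover_ext T.left.affineCover fun j => ?_
  let t : Over.mk (T.left.affineCover.f j ≫ T.hom) ⟶ T := Over.homMk (T.left.affineCover.f j)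
  change (_ ◁ t) ≫ χ = (_ ◁ t) ≫ χ'
  refine Over.OverMorphism.ext
    ((isPushout_left_affine (T.left.affineCover.f j ≫ T.hom) hNL hN'L' hL hN hdiff).hom_ext ?_ ?_)
  · exact congrArg CommaMorphism.left (((whisker_exchange_assoc (AMonS.map S (AddSubmonoid.inclusion hN'L')) t χ).symm.trans
      (congrArg ((_ ◁ t) ≫ ·) h1)).trans (whisker_exchange_assoc _ t χ'))
  · exact congrArg CommaMorphism.left (((whisker_exchange_assoc (AMonS.faceMap S hN) t χ).symm.trans
      (congrArg ((_ ◁ t) ≫ ·) h2)).trans (whisker_exchange_assoc _ t χ'))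

include hdiff in
theorem exists_desc_affine (φ : AMonS S ↥L' ⊗ Over.mk str ⟶ X) (ψ : AMonS S ↥N ⊗ Over.mk str ⟶ X)
    (h : (AMonS.faceMap S hL ▷ Over.mk str) ≫ φ = (AMonS.map S (AddSubmonoid.inclusion hNL) ▷ Over.mk str) ≫ ψ) :
    ∃ χ : AMonS S ↥N' ⊗ Over.mk str ⟶ X,
      (AMonS.map S (AddSubmonoid.inclusion hN'L') ▷ Over.mk str) ≫ χ = φ ∧
      (AMonS.faceMap S hN ▷ Over.mk str) ≫ χ = ψ := by
  have hp := isPushout_left_affine str hNL hN'L' hL hN hdiff
  have hw : (AMonS.faceMap S hL ▷ Over.mk str).left ≫ φ.left =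
      (AMonS.map S (AddSubmonoid.inclusion hNL) ▷ Over.mk str).left ≫ ψ.left := congrArg CommaMorphism.left h
  refine ⟨Over.homMk (hp.desc φ.left ψ.left hw) (hp.hom_ext ?_ ?_), Over.OverMorphism.ext ?_, Over.OverMorphism.ext ?_⟩
  · rw [hp.inl_desc_assoc, Over.w, Over.w]
  · rw [hp.inr_desc_assoc, Over.w, Over.w]
  · exact hp.inl_desc _ _ _
  · exact hp.inr_desc _ _ _

include hdiff in
theorem exists_desc (T : Over S) (φ : AMonS S ↥L' ⊗ T ⟶ X) (ψ : AMonS S ↥N ⊗ T ⟶ X)
    (h : (AMonS.faceMap S hL ▷ T) ≫ φ = (AMonS.map S (AddSubmonoid.inclusion hNL) ▷ T) ≫ ψ) :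
    ∃ χ : AMonS S ↥N' ⊗ T ⟶ X,
      (AMonS.map S (AddSubmonoid.inclusion hN'L') ▷ T) ≫ χ = φ ∧ (AMonS.faceMap S hN ▷ T) ≫ χ = ψ := by
  let t := fun j => (Over.homMk (T.left.affineCover.f j) : Over.mk (T.left.affineCover.f j ≫ T.hom) ⟶ T)
  have hj : ∀ j, ∃ χ : AMonS S ↥N' ⊗ Over.mk (T.left.affineCover.f j ≫ T.hom) ⟶ X,
      (AMonS.map S (AddSubmonoid.inclusion hN'L') ▷ _) ≫ χ = (_ ◁ t j) ≫ φ ∧
      (AMonS.faceMap S hN ▷ _) ≫ χ = (_ ◁ t j) ≫ ψ := fun j =>
    exists_desc_affine (T.left.affineCover.f j ≫ T.hom) hNL hN'L' hL hN hdiff _ _ (by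
      change (AMonS.faceMap S hL ▷ _) ≫ (_ ◁ t j) ≫ φ = (_ ▷ _) ≫ (_ ◁ t j) ≫ ψ
      rw [← whisker_exchange_assoc, h, whisker_exchange_assoc])
  choose χ hχ1 hχ2 using hj
  obtain ⟨c, hc⟩ := Groth.MiscGeom.Mag.exists_glue T.left.affineCover χ (by
    intro j k W p q e
    change p ≫ (_ ◁ t j) = q ≫ (_ ◁ t k) at e
    have e1 := congrArg (· ≫ fst _ _) e
    have e2 := congrArg (· ≫ snd _ _) e
    simp only [Category.assoc, whiskerLeft_fst, whiskerLeft_snd] at e1 e2
    let P : Over S := Over.mk (pullback.fst (T.left.affineCover.f j) (T.left.affineCover.f k) ≫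
      T.left.affineCover.f j ≫ T.hom)
    let a : P ⟶ Over.mk (T.left.affineCover.f j ≫ T.hom) :=
      Over.homMk (pullback.fst (T.left.affineCover.f j) (T.left.affineCover.f k))
    let b : P ⟶ Over.mk (T.left.affineCover.f k ≫ T.hom) :=
      Over.homMk (pullback.snd (T.left.affineCover.f j) (T.left.affineCover.f k)) (by
        simp [P, pullback.condition_assoc])
    have hab : a ≫ t j = b ≫ t k := Over.OverMorphism.ext pullback.condition
    let w : W ⟶ P := Over.homMk (pullback.lift (p ≫ snd _ _).left (q ≫ snd _ _).left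
      (congrArg CommaMorphism.left e2 |> fun h => by simpa [t] using h)) (by
        simp only [P, Over.mk_hom]
        rw [pullback.lift_fst_assoc]
        exact Over.w (p ≫ snd _ _))
    have hwa : w ≫ a = p ≫ snd _ _ := Over.OverMorphism.ext (pullback.lift_fst _ _ _)
    have hwb : w ≫ b = q ≫ snd _ _ := Over.OverMorphism.ext (pullback.lift_snd _ _ _)
    have key : (AMonS S ↥N' ◁ a) ≫ χ j = (AMonS S ↥N' ◁ b) ≫ χ k := by
      refine hom_ext hNL hN'L' hL hN hdiff ?_ ?_
      · rw [← whisker_exchange_assoc, ← whisker_exchange_assoc, hχ1, hχ1, ← whiskerLeft_comp_assoc,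
          ← whiskerLeft_comp_assoc, hab]
      · rw [← whisker_exchange_assoc, ← whisker_exchange_assoc, hχ2, hχ2, ← whiskerLeft_comp_assoc,
          ← whiskerLeft_comp_assoc, hab]
    have hp : p = lift (p ≫ fst _ _) w ≫ (AMonS S ↥N' ◁ a) := by
      rw [lift_whiskerLeft, hwa, lift_comp_fst_snd]
    have hq : q = lift (p ≫ fst _ _) w ≫ (AMonS S ↥N' ◁ b) := by
      rw [lift_whiskerLeft, hwb, e1, lift_comp_fst_snd]
    rw [hp, hq, Category.assoc, Category.assoc, key])
  refine ⟨c, ?_, ?_⟩
  · refine whiskerLeft_cover_ext T.left.affineCover fun j => ?_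
    change (_ ◁ t j) ≫ _ = (_ ◁ t j) ≫ _
    rw [whisker_exchange_assoc]
    exact (congrArg (_ ≫ ·) (hc j)).trans (hχ1 j)
  · refine whiskerLeft_cover_ext T.left.affineCover fun j => ?_
    change (_ ◁ t j) ≫ _ = (_ ◁ t j) ≫ _
    rw [whisker_exchange_assoc]
    exact (congrArg (_ ≫ ·) (hc j)).trans (hχ2 j)

include hdiff in
/-- The face square is cocartesian after product with any `T`. -/
theorem isPushout_whisker (T : Over S) :
    IsPushout (AMonS.faceMap S hL ▷ T) (AMonS.map S (AddSubmonoid.inclusion hNL) ▷ T)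
      (AMonS.map S (AddSubmonoid.inclusion hN'L') ▷ T) (AMonS.faceMap S hN ▷ T) := by
  have hd := fun s : PushoutCocone (AMonS.faceMap S hL ▷ T) (AMonS.map S (AddSubmonoid.inclusion hNL) ▷ T) =>
    exists_desc hNL hN'L' hL hN hdiff T s.inl s.inr s.condition
  choose g hg1 hg2 using hd
  exact IsPushout.of_isColimit' ⟨square_comm hNL hN'L' hL hN hdiff T⟩ (PushoutCocone.IsColimit.mk _ g hg1 hg2
    fun s m m1 m2 => hom_ext hNL hN'L' hL hN hdiff (m1.trans (hg1 s).symm) (m2.trans (hg2 s).symm))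

include hdiff in
/-- The face square is cocartesian. -/
theorem isPushout_amonS :
    IsPushout (AMonS.faceMap S hL) (AMonS.map S (AddSubmonoid.inclusion hNL))
      (AMonS.map S (AddSubmonoid.inclusion hN'L')) (AMonS.faceMap S hN) :=
  (isPushout_whisker hNL hN'L' hL hN hdiff (𝟙_ (Over S))).of_iso (ρ_ _) (ρ_ _) (ρ_ _) (ρ_ _)
    (by simp) (by simp) (by simp) (by simp)

end Groth.SpecFerrand.Magnet
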