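import Mathlib
import Groth.Agent.SpecFerrand.Magnet
import Groth.Agent.MiscGeom.MagnetGrading

/-!
Pushouts of affine schemes stay pushouts after product with `A(M)_S`.
-/

set_option autoImplicit false

universe u

open CategoryTheory CategoryTheory.Limits MonoidalCategory CartesianMonoidalCategory AlgebraicGeometry
open Magnet Groth.MiscGeom.Mag Groth.SpecFerrand

noncomputable section

namespace Groth.SpecFerrand.Magnet

variable {B' B A' A : Type u} [CommRing B'] [CommRing B] [CommRing A'] [CommRing A]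
  {p1 : B' →+* B} {p2 : B' →+* A'} {q : B →+* A} {p : A' →+* A}

open MonoidAlgebra in
theorem sq_monoidAlgebra (h : Sq p1 p2 q p) (Q : Type) [AddCommMonoid Q] :
    Sq (mapRingHom (Multiplicative Q) p1) (mapRingHom (Multiplicative Q) p2)
      (mapRingHom (Multiplicative Q) q) (mapRingHom (Multiplicative Q) p) := by
  have hc : ∀ {R R' : Type u} [CommRing R] [CommRing R'] (f : R →+* R')
      (x : MonoidAlgebra R (Multiplicative Q)) (m : Multiplicative Q),
      (mapRingHom (Multiplicative Q) f x).coeff m = f (x.coeff m) := by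
    intro R R' _ _ f x m
    induction x using MonoidAlgebra.induction_linear with
    | zero => simp
    | add a b ha hb => simp only [map_add, MonoidAlgebra.coeff_add, Finsupp.add_apply, ha, hb]
    | single n r =>
      classical
      rw [mapRingHom_single, coeff_single, coeff_single, Finsupp.single_apply, Finsupp.single_apply]
      split_ifs <;> simp
  refine ⟨MonoidAlgebra.ringHom_ext (fun r => by simp [h.comm']) (fun m => by simp), ?_, ?_⟩
  · intro z
    induction z using MonoidAlgebra.induction_linear with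
    | zero => exact ⟨0, map_zero _⟩
    | add a b ha hb =>
      obtain ⟨a', rfl⟩ := ha
      obtain ⟨b', rfl⟩ := hb
      exact ⟨a' + b', map_add _ _ _⟩
    | single n r =>
      obtain ⟨r', rfl⟩ := h.surj r
      exact ⟨single n r', mapRingHom_single _ _ _⟩
  · classical
    intro b a hab
    have hm : ∀ m, ∃ x, p1 x = b.coeff m ∧ p2 x = a.coeff m := fun m =>
      (h.exu _ _ (by rw [← hc q, ← hc p, hab])).exists
    choose x hx1 hx2 using hm
    have hsupp : ∀ m, x m ≠ 0 → m ∈ b.coeff.support ∪ a.coeff.support := by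
      classical
      intro m hm'
      rw [Finset.mem_union, Finsupp.mem_support_iff, Finsupp.mem_support_iff]
      by_contra hh
      push_neg at hh
      exact hm' (h.ext (by rw [hx1, hh.1, map_zero]) (by rw [hx2, hh.2, map_zero]))
    let X : MonoidAlgebra B' (Multiplicative Q) := .ofCoeff (Finsupp.onFinset _ x hsupp)
    refine ⟨X, ⟨MonoidAlgebra.ext (Finsupp.ext fun m => ?_), MonoidAlgebra.ext (Finsupp.ext fun m => ?_)⟩, ?_⟩
    · rw [hc]; exact hx1 m
    · rw [hc]; exact hx2 m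
    · rintro y ⟨hy1, hy2⟩
      refine MonoidAlgebra.ext (Finsupp.ext fun m => h.ext ?_ ?_)
      · rw [← hc p1, hy1]; exact (hx1 m).symm
      · rw [← hc p2, hy2]; exact (hx2 m).symm

variable {S : Scheme.{u}}

/-- A square over `S` which is `Spec` of a fibre square of rings with one surjection. -/
structure AffSq {Z X₁ X₂ W : Over S} (f : Z ⟶ X₁) (g : Z ⟶ X₂) (i : X₁ ⟶ W) (j : X₂ ⟶ W)
    (B' B A' A : CommRingCat.{u}) where
  /-- projection -/
  p1 : B' ⟶ B
  /-- projection -/
  p2 : B' ⟶ A'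
  /-- bottom map -/
  q : B ⟶ A
  /-- right map -/
  p : A' ⟶ A
  sq : Sq p1.hom p2.hom q.hom p.hom
  /-- chart -/
  eZ : Spec A ≅ Z.left
  /-- chart -/
  e1 : Spec B ≅ X₁.left
  /-- chart -/
  e2 : Spec A' ≅ X₂.left
  /-- chart -/
  eW : Spec B' ≅ W.left
  hf : eZ.hom ≫ f.left = Spec.map q ≫ e1.hom
  hg : eZ.hom ≫ g.left = Spec.map p ≫ e2.hom
  hi : e1.hom ≫ i.left = Spec.map p1 ≫ eW.hom
  hj : e2.hom ≫ j.left = Spec.map p2 ≫ eW.hom

variable {Z X₁ X₂ W : Over S} {f : Z ⟶ X₁} {g : Z ⟶ X₂} {i : X₁ ⟶ W} {j : X₂ ⟶ W}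
  {RB' RB RA' RA : CommRingCat.{u}}

theorem AffSq.comm (d : AffSq f g i j RB' RB RA' RA) : f ≫ i = g ≫ j := by
  apply Over.OverMorphism.ext
  rw [← cancel_epi d.eZ.hom, Over.comp_left, Over.comp_left, reassoc_of% d.hf, d.hi, reassoc_of% d.hg, d.hj,
    ← Spec.map_comp_assoc, ← Spec.map_comp_assoc]
  exact congrArg (fun z => Spec.map z ≫ d.eW.hom) (CommRingCat.hom_ext d.sq.comm)

theorem AffSq.isPushout (d : AffSq f g i j RB' RB RA' RA) : IsPushout f g i j := by
  have hp : IsPushout f.left g.left i.left j.left :=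
    (isPushout_Sp d.sq).of_iso d.eZ d.e1 d.e2 d.eW d.hf.symm d.hg.symm d.hi.symm d.hj.symm
  refine IsPushout.of_isColimit' ⟨d.comm⟩ (PushoutCocone.IsColimit.mk _
    (fun s => Over.homMk (hp.desc s.inl.left s.inr.left (congrArg CommaMorphism.left s.condition))
      (hp.hom_ext (by rw [hp.inl_desc_assoc, Over.w, Over.w]) (by rw [hp.inr_desc_assoc, Over.w, Over.w])))
    (fun s => Over.OverMorphism.ext (hp.inl_desc _ _ _)) (fun s => Over.OverMorphism.ext (hp.inr_desc _ _ _))
    fun s m m1 m2 => Over.OverMorphism.ext (hp.hom_ext ((congrArg CommaMorphism.left m1).trans (hp.inl_desc _ _ _).symm)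
      ((congrArg CommaMorphism.left m2).trans (hp.inr_desc _ _ _).symm)))

variable (M : Type) [AddCommMonoid M]

/-- `Spec A[M] ≅ A(M) × X` from a chart of `X`. -/
def chart {R : CommRingCat.{u}} {X : Over S} (e : Spec R ≅ X.left) : Spec (MA R M) ≅ (AMonS S M ⊗ X).left :=
  specMA (e.hom ≫ X.hom) M ≪≫
    (Over.forget S).mapIso (MonoidalCategory.whiskerLeftIso (AMonS S M) (Over.isoMk e : Over.mk (e.hom ≫ X.hom) ≅ X))

theorem chart_natural {R R' : CommRingCat.{u}} {X Y : Over S} (eX : Spec R ≅ X.left) (eY : Spec R' ≅ Y.left)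
    (h : X ⟶ Y) (φ : R' ⟶ R) (w : eX.hom ≫ h.left = Spec.map φ ≫ eY.hom) :
    (chart M eX).hom ≫ (AMonS S M ◁ h).left = Spec.map (maBase φ M) ≫ (chart M eY).hom := by
  let tX : Over.mk (eX.hom ≫ X.hom) ⟶ X := (Over.isoMk eX : Over.mk (eX.hom ≫ X.hom) ≅ X).hom
  let tY : Over.mk (eY.hom ≫ Y.hom) ⟶ Y := (Over.isoMk eY : Over.mk (eY.hom ≫ Y.hom) ≅ Y).hom
  let t : Over.mk (eX.hom ≫ X.hom) ⟶ Over.mk (eY.hom ≫ Y.hom) := Over.homMk (Spec.map φ) (by
    simp only [Over.mk_hom]
    rw [← reassoc_of% w, Over.w h])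
  have e : tX ≫ h = t ≫ tY := Over.OverMorphism.ext w
  change ((specMA (eX.hom ≫ X.hom) M).hom ≫ (AMonS S M ◁ tX).left) ≫ _ =
    Spec.map (maBase φ M) ≫ (specMA (eY.hom ≫ Y.hom) M).hom ≫ (AMonS S M ◁ tY).left
  rw [← Category.assoc (Spec.map _), ← specMA_whiskerLeft' (eY.hom ≫ Y.hom) (eX.hom ≫ X.hom) φ t rfl,
    Category.assoc, Category.assoc, ← Over.comp_left, ← Over.comp_left, ← MonoidalCategory.whiskerLeft_comp,
    ← MonoidalCategory.whiskerLeft_comp, e]

/-- Product with `A(M)` of an affine fibre square. -/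
def AffSq.tensor (d : AffSq f g i j RB' RB RA' RA) :
    AffSq (AMonS S M ◁ f) (AMonS S M ◁ g) (AMonS S M ◁ i) (AMonS S M ◁ j)
      (MA RB' M) (MA RB M) (MA RA' M) (MA RA M) where
  p1 := maBase d.p1 M
  p2 := maBase d.p2 M
  q := maBase d.q M
  p := maBase d.p M
  sq := sq_monoidAlgebra d.sq M
  eZ := chart M d.eZ
  e1 := chart M d.e1
  e2 := chart M d.e2
  eW := chart M d.eW
  hf := chart_natural M d.eZ d.e1 f d.q d.hf
  hg := chart_natural M d.eZ d.e2 g d.p d.hg
  hi := chart_natural M d.e1 d.eW i d.p1 d.hi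
  hj := chart_natural M d.e2 d.eW j d.p2 d.hj

end Groth.SpecFerrand.Magnet
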