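import Mathlib
import Groth.Agent.SpecFerrand.MagnetAct
import Groth.Prelude.Def_Magnet4

/-!
The pushout of `A(F)_T ← A(F)_T × T̄ → A(N)_T × T̄` and its action.
-/

set_option autoImplicit false

universe u

open CategoryTheory CategoryTheory.Limits MonoidalCategory CartesianMonoidalCategory MonObj AlgebraicGeometry
open Magnet Groth.MiscGeom.Mag Groth.SpecFerrand

noncomputable section

namespace Groth.SpecFerrand.Magnet

variable {T : Scheme.{u}} {M : Type} [AddCommMonoid M]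

theorem exists_affSq [IsAffine T] {N F : AddSubmonoid M} (hF : Magnet.IsFace N F) (Tb : Over T)
    [IsClosedImmersion Tb.hom] :
    ∃ (P : Over T) (ν₁ : AMonS T F ⟶ P) (ν₂ : AMonS T N ⊗ Tb ⟶ P) (RB' RB RA' RA : CommRingCat.{u}),
      IsAffine P.left ∧
      Nonempty (AffSq (fst (AMonS T F) Tb) (AMonS.faceMap T hF ▷ Tb) ν₁ ν₂ RB' RB RA' RA) := by
  haveI : IsAffine Tb.left := isAffine_of_isAffineHom Tb.hom
  let φ : Γ(T, ⊤) ⟶ Γ(Tb.left, ⊤) := Tb.hom.appTop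
  have hφs : Function.Surjective φ.hom :=
    (HasAffineProperty.iff_of_isAffine (P := @IsClosedImmersion) (f := Tb.hom)).1 inferInstance |>.2
  let str : Spec Γ(T, ⊤) ⟶ T := T.isoSpec.inv
  let eTb : Spec Γ(Tb.left, ⊤) ≅ Tb.left := Tb.left.isoSpec.symm
  have hTb : Spec.map φ ≫ str = eTb.hom ≫ Tb.hom := Scheme.isoSpec_inv_naturality Tb.hom
  let p : MA Γ(Tb.left, ⊤) N ⟶ MA Γ(Tb.left, ⊤) F := CommRingCat.ofHom (faceAlgHom Γ(Tb.left, ⊤) hF).toRingHom
  let q : MA Γ(T, ⊤) F ⟶ MA Γ(Tb.left, ⊤) F := maBase φ F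
  let R₀ : Subring (MA Γ(T, ⊤) F × MA Γ(Tb.left, ⊤) N) :=
    RingHom.eqLocus (q.hom.comp (RingHom.fst _ _)) (p.hom.comp (RingHom.snd _ _))
  let p1 : CommRingCat.of R₀ ⟶ MA Γ(T, ⊤) F := CommRingCat.ofHom ((RingHom.fst _ _).comp R₀.subtype)
  let p2 : CommRingCat.of R₀ ⟶ MA Γ(Tb.left, ⊤) N := CommRingCat.ofHom ((RingHom.snd _ _).comp R₀.subtype)
  have hsq : Sq p1.hom p2.hom q.hom p.hom :=
    ⟨RingHom.ext fun x => x.2, fun z => ⟨_, DFunLike.congr_fun (faceAlgHom_comp_mapDomain Γ(Tb.left, ⊤) hF) z⟩,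
      fun b a hab => ⟨⟨(b, a), hab⟩, ⟨rfl, rfl⟩, fun y hy => Subtype.ext (Prod.ext hy.1 hy.2)⟩⟩
  let c : Γ(T, ⊤) ⟶ CommRingCat.of R₀ := CommRingCat.ofHom
    (RingHom.codRestrict ((maConst Γ(T, ⊤) F).hom.prod (φ ≫ maConst Γ(Tb.left, ⊤) N).hom) R₀ fun a => by
      change q.hom ((maConst Γ(T, ⊤) F).hom a) = p.hom ((maConst Γ(Tb.left, ⊤) N).hom (φ.hom a))
      refine Eq.trans ?_ ((faceAlgHom Γ(Tb.left, ⊤) hF).commutes (φ.hom a)).symm
      exact congr($(maConst_maBase φ F).hom a))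
  let P : Over T := Over.mk (Spec.map c ≫ str)
  let w1 : Over.mk str ⟶ 𝟙_ (Over T) := toUnit _
  haveI : IsIso w1 := by
    haveI : IsIso w1.left := by
      have : w1.left = str := by
        have := Over.w w1
        simpa using this
      rw [this]; infer_instance
    haveI : IsIso ((Over.forget T).map w1) := this
    exact isIso_of_reflects_iso w1 (Over.forget T)
  haveI : IsIso (fst (AMonS T F) (Over.mk str)).left := by
    have e : fst (AMonS T F) (Over.mk str) = (AMonS T F ◁ w1) ≫ (ρ_ _).hom := by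
      rw [rightUnitor_hom]
      exact (whiskerLeft_fst (AMonS T F) w1).symm
    haveI : IsIso (fst (AMonS T F) (Over.mk str)) := by rw [e]; infer_instance
    exact inferInstanceAs (IsIso ((Over.forget T).map (fst (AMonS T F) (Over.mk str))))
  let e1 : Spec (MA Γ(T, ⊤) F) ≅ (AMonS T F).left :=
    specMA str F ≪≫ asIso (fst (AMonS T F) (Over.mk str)).left
  let eZ : Spec (MA Γ(Tb.left, ⊤) F) ≅ (AMonS T F ⊗ Tb).left := chart F eTb ≪≫ Iso.refl _
  let e2 : Spec (MA Γ(Tb.left, ⊤) N) ≅ (AMonS T N ⊗ Tb).left := chart N eTb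
  have hc1 : c ≫ p1 = maConst _ F := rfl
  have hc2 : c ≫ p2 = φ ≫ maConst _ N := rfl
  have h1w : Spec.map p1 ≫ P.hom = e1.hom ≫ (AMonS T F).hom := by
    change Spec.map p1 ≫ Spec.map c ≫ str = _
    rw [← Spec.map_comp_assoc, hc1, Iso.trans_hom, asIso_hom, Category.assoc, Over.w, ← specMA_snd str,
      Category.assoc]
    exact congrArg (_ ≫ ·) (Over.w (snd (AMonS T F) (Over.mk str)))
  have h2w : Spec.map p2 ≫ P.hom = e2.hom ≫ (AMonS T N ⊗ Tb).hom := by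
    change Spec.map p2 ≫ Spec.map c ≫ str = _
    rw [← Spec.map_comp_assoc, hc2, Spec.map_comp_assoc, hTb]
    simp only [e2, chart, Iso.trans_hom, Category.assoc, Functor.mapIso_hom, Over.forget_map]
    rw [Over.w, ← specMA_snd (eTb.hom ≫ Tb.hom), Category.assoc]
    exact congrArg (_ ≫ ·) (Over.w (snd (AMonS T N) (Over.mk (eTb.hom ≫ Tb.hom))))
  refine ⟨P, Over.homMk (e1.inv ≫ Spec.map p1) (by rw [Category.assoc, h1w, Iso.inv_hom_id_assoc]),
    Over.homMk (e2.inv ≫ Spec.map p2) (by rw [Category.assoc, h2w, Iso.inv_hom_id_assoc]), _, _, _, _, ?_,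
    ⟨{ p1 := p1, p2 := p2, q := q, p := p, sq := hsq, eZ := eZ, e1 := e1, e2 := e2, eW := Iso.refl _,
       hf := ?_, hg := ?_, hi := ?_, hj := ?_ }⟩⟩
  · exact inferInstanceAs (IsAffine (Spec _))
  · let t : Over.mk (eTb.hom ≫ Tb.hom) ⟶ Over.mk str := Over.homMk (Spec.map φ) hTb
    let tb : Over.mk (eTb.hom ≫ Tb.hom) ⟶ Tb := (Over.isoMk eTb : Over.mk (eTb.hom ≫ Tb.hom) ≅ Tb).hom
    change ((specMA (eTb.hom ≫ Tb.hom) F).hom ≫ (AMonS T F ◁ tb).left) ≫ _ =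
      Spec.map q ≫ (specMA str F).hom ≫ (fst (AMonS T F) (Over.mk str)).left
    rw [← Category.assoc (Spec.map q), ← specMA_whiskerLeft' str (eTb.hom ≫ Tb.hom) φ t rfl, Category.assoc,
      Category.assoc, ← Over.comp_left, ← Over.comp_left, whiskerLeft_fst, whiskerLeft_fst]
  · let tb : Over.mk (eTb.hom ≫ Tb.hom) ⟶ Tb := (Over.isoMk eTb : Over.mk (eTb.hom ≫ Tb.hom) ≅ Tb).hom
    change ((specMA (eTb.hom ≫ Tb.hom) F).hom ≫ (AMonS T F ◁ tb).left) ≫ _ =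
      Spec.map p ≫ (specMA (eTb.hom ≫ Tb.hom) N).hom ≫ (AMonS T N ◁ tb).left
    rw [← Category.assoc (Spec.map p), ← specMA_faceWhisker (eTb.hom ≫ Tb.hom) hF, Category.assoc,
      Category.assoc, ← Over.comp_left, ← Over.comp_left, whisker_exchange]
  · simp
  · simp

theorem isEquivariant_whiskerRight {P Q : AddSubmonoid M} {Y : Over T} (f : AMonS T P ⟶ AMonS T Q)
    (hf : MonAct.IsEquivariant (subAct T M P) (subAct T M Q) f) :
    MonAct.IsEquivariant ((subAct T M P).prod (MonAct.trivial (AMonS T M) Y))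
      ((subAct T M Q).prod (MonAct.trivial (AMonS T M) Y)) (f ▷ Y) := by
  rw [MonAct.isEquivariant_iff] at hf ⊢
  intro Z g z
  rw [← lift_comp_fst_snd z, MonAct.lift_prod_act_assoc, lift_whiskerRight, lift_whiskerRight,
    MonAct.lift_prod_act, Category.assoc, hf]

theorem isEquivariant_fst {P : AddSubmonoid M} {Y : Over T} :
    MonAct.IsEquivariant ((subAct T M P).prod (MonAct.trivial (AMonS T M) Y)) (subAct T M P) (fst (AMonS T P) Y) := by
  rw [MonAct.isEquivariant_iff]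
  intro Z g z
  rw [← lift_comp_fst_snd z, MonAct.lift_prod_act_assoc, lift_fst, lift_fst]

theorem exists_action {Z X₁ X₂ W : Over T} {f : Z ⟶ X₁} {g : Z ⟶ X₂} {i : X₁ ⟶ W} {j : X₂ ⟶ W}
    {RB' RB RA' RA : CommRingCat.{u}} (d : AffSq f g i j RB' RB RA' RA)
    (aZ : MonAct (AMonS T M) Z) (a1 : MonAct (AMonS T M) X₁) (a2 : MonAct (AMonS T M) X₂)
    (hf : MonAct.IsEquivariant aZ a1 f) (hg : MonAct.IsEquivariant aZ a2 g) :
    ∃ aW : MonAct (AMonS T M) W, MonAct.IsEquivariant a1 aW i ∧ MonAct.IsEquivariant a2 aW j ∧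
      ∀ (X : Over T) (aX : MonAct (AMonS T M) X) (f₁ : X₁ ⟶ X) (f₂ : X₂ ⟶ X) (w : f ≫ f₁ = g ≫ f₂),
        MonAct.IsEquivariant a1 aX f₁ → MonAct.IsEquivariant a2 aX f₂ →
        MonAct.IsEquivariant aW aX (d.isPushout.desc f₁ f₂ w) := by
  have hA := (d.tensor M).isPushout
  have hAA := ((d.tensor M).tensor M).isPushout
  have hP := d.isPushout
  have hcomp : (AMonS T M ◁ f) ≫ a1.act ≫ i = (AMonS T M ◁ g) ≫ a2.act ≫ j := by
    rw [← Category.assoc, ← hf, Category.assoc, ← Category.assoc (AMonS T M ◁ g), ← hg, Category.assoc, hP.w]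
  let act : AMonS T M ⊗ W ⟶ W := hA.desc (a1.act ≫ i) (a2.act ≫ j) hcomp
  have hi : (AMonS T M ◁ i) ≫ act = a1.act ≫ i := hA.inl_desc _ _ _
  have hj : (AMonS T M ◁ j) ≫ act = a2.act ≫ j := hA.inr_desc _ _ _
  have one : ∀ {V : Over T} (v : V ⟶ W) (aV : MonAct (AMonS T M) V), (AMonS T M ◁ v) ≫ act = aV.act ≫ v →
      v ≫ (λ_ W).inv ≫ (η[AMonS T M] ▷ W) ≫ act = v := by
    intro V v aV hv
    rw [leftUnitor_inv_naturality_assoc, whisker_exchange_assoc, hv, ← Category.assoc (η[AMonS T M] ▷ V),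
      aV.one_act, Iso.inv_hom_id_assoc]
  have mul : ∀ {V : Over T} (v : V ⟶ W) (aV : MonAct (AMonS T M) V), (AMonS T M ◁ v) ≫ act = aV.act ≫ v →
      (AMonS T M ◁ (AMonS T M ◁ v)) ≫ (α_ _ _ W).inv ≫ (μ[AMonS T M] ▷ W) ≫ act =
      (AMonS T M ◁ (AMonS T M ◁ v)) ≫ (AMonS T M ◁ act) ≫ act := by
    intro V v aV hv
    rw [associator_inv_naturality_right_assoc, whisker_exchange_assoc, hv, ← Category.assoc (μ[AMonS T M] ▷ V),
      aV.mul_act, Category.assoc, Category.assoc, Iso.inv_hom_id_assoc, ← MonoidalCategory.whiskerLeft_comp_assoc,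
      hv, MonoidalCategory.whiskerLeft_comp_assoc, hv]
  have hone : (η[AMonS T M] ▷ W) ≫ act = (λ_ W).hom := by
    rw [← cancel_epi (λ_ W).inv, Iso.inv_hom_id]
    refine hP.hom_ext ?_ ?_
    · rw [one i a1 hi, Category.comp_id]
    · rw [one j a2 hj, Category.comp_id]
  have hmul : (μ[AMonS T M] ▷ W) ≫ act = (α_ _ _ W).hom ≫ (AMonS T M ◁ act) ≫ act := by
    rw [← cancel_epi (α_ _ _ W).inv, Iso.inv_hom_id_assoc]
    exact hAA.hom_ext (mul i a1 hi) (mul j a2 hj)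
  refine ⟨⟨act, hone, hmul⟩, hi.symm, hj.symm, fun X aX f₁ f₂ w h₁ h₂ => ?_⟩
  change act ≫ _ = (AMonS T M ◁ _) ≫ aX.act
  refine hA.hom_ext ?_ ?_
  · rw [reassoc_of% hi, hP.inl_desc, ← MonoidalCategory.whiskerLeft_comp_assoc, hP.inl_desc]
    exact h₁
  · rw [reassoc_of% hj, hP.inr_desc, ← MonoidalCategory.whiskerLeft_comp_assoc, hP.inr_desc]
    exact h₂

end Groth.SpecFerrand.Magnet
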