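import Mathlib
import Groth.Agent.SpecFerrand.BaseChange
import Groth.Agent.BlowUpBasics.Global
import Groth.Agent.Calg6.FlatAdic
import Groth.Agent.Misc8.FibreSquare

/-!
Pinching an effective Cartier divisor along a finite flat map: flatness of the powers of the ideal, blow-up.
-/

set_option autoImplicit false

universe u

open CategoryTheory CategoryTheory.Limits AlgebraicGeometry TopologicalSpace MorphismProperty

noncomputable section

namespace Groth.SpecFerrand.Blow

open Groth.BlowUpBasics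

variable {X S : Scheme.{u}}

theorem ker_Spec_map {R S : CommRingCat.{u}} (p : R ⟶ S) :
    (Spec.map p).ker = sheafOf (RingHom.ker p.hom) := by
  rw [Scheme.ker_of_isAffine, sheafOf]
  congr 1
  have h : (Spec.map p).appTop = (Scheme.ΓSpecIso R).hom ≫ p ≫ (Scheme.ΓSpecIso S).inv := by
    simp [Scheme.ΓSpecIso_naturality_assoc]
  rw [h]
  refine le_antisymm (fun x hx => ?_) (Ideal.map_le_iff_le_comap.2 fun y hy => ?_)
  · rw [RingHom.mem_ker] at hx
    have hx' : p ((Scheme.ΓSpecIso R).hom x) = 0 :=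
      ((ConcreteCategory.bijective_of_isIso (Scheme.ΓSpecIso S).inv).1 (hx.trans (map_zero _).symm))
    have := Ideal.mem_map_of_mem (Scheme.ΓSpecIso R).inv.hom (show (Scheme.ΓSpecIso R).hom x ∈ RingHom.ker p.hom from hx')
    rwa [show (Scheme.ΓSpecIso R).inv.hom ((Scheme.ΓSpecIso R).hom x) = x from congr($((Scheme.ΓSpecIso R).hom_inv_id) x)] at this
  · rw [Ideal.mem_comap, RingHom.mem_ker]
    change (Scheme.ΓSpecIso S).inv (p ((Scheme.ΓSpecIso R).hom ((Scheme.ΓSpecIso R).inv y))) = 0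
    rw [show (Scheme.ΓSpecIso R).hom ((Scheme.ΓSpecIso R).inv y) = y from congr($((Scheme.ΓSpecIso R).inv_hom_id) y),
      show p y = 0 from hy, map_zero]

theorem sheafOf_ker_mk {R : Type u} [CommRing R] (K : Ideal R) :
    (Sp (Ideal.Quotient.mk K)).ker = sheafOf K := by
  rw [ker_Spec_map]
  exact congrArg _ Ideal.mk_ker

theorem comap_pow_top {Y : Scheme.{u}} [IsAffine Y] (u : Y ⟶ X) [IsOpenImmersion u] (I : X.IdealSheafData) (n : ℕ) :
    ((I ^ n).comap u).ideal ⟨⊤, isAffineOpen_top Y⟩ = (I.comap u).ideal ⟨⊤, isAffineOpen_top Y⟩ ^ n := by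
  have e : (⊤ : Y.Opens) ≤ u ⁻¹ᵁ u.opensRange := fun y _ => ⟨y, rfl⟩
  rw [ideal_comap u _ ⟨u.opensRange, isAffineOpen_opensRange u⟩ ⟨⊤, isAffineOpen_top Y⟩ e,
    ideal_comap u I ⟨u.opensRange, isAffineOpen_opensRange u⟩ ⟨⊤, isAffineOpen_top Y⟩ e,
    Scheme.IdealSheafData.ideal_pow, Pi.pow_apply, Ideal.map_pow]

theorem comap_pow {R : Type u} [CommRing R] (u : Spec (CommRingCat.of R) ⟶ X) [IsOpenImmersion u]
    (I : X.IdealSheafData) (K : Ideal R) (h : I.comap u = sheafOf K) (n : ℕ) :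
    (I ^ n).comap u = sheafOf (K ^ n) := by
  refine Scheme.IdealSheafData.ext_of_isAffine ?_
  rw [comap_pow_top, h, sheafOf_ideal_top, sheafOf_ideal_top, Ideal.map_pow]

/-- The closed subscheme over an affine chart. -/
theorem isPullback_quot {R : Type u} [CommRing R] (u : Spec (CommRingCat.of R) ⟶ X)
    (I : X.IdealSheafData) (K : Ideal R) (h : I.comap u = sheafOf K) :
    ∃ v : Spec (CommRingCat.of (R ⧸ K)) ⟶ I.subscheme,
      IsPullback (Sp (Ideal.Quotient.mk K)) v u I.subschemeι := by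
  set q := Sp (Ideal.Quotient.mk K)
  haveI : IsClosedImmersion q := IsClosedImmersion.spec_of_surjective _ Ideal.Quotient.mk_surjective
  have hk : q.ker = (pullback.fst u I.subschemeι).ker := by
    rw [sheafOf_ker_mk, ← h]
    rfl
  let e₁ : Spec (CommRingCat.of (R ⧸ K)) ≅ pullback u I.subschemeι :=
    asIso q.toImage ≪≫ eqToIso (by rw [Scheme.Hom.image, Scheme.Hom.image, hk]) ≪≫
      (asIso (pullback.fst u I.subschemeι).toImage).symm
  have he : e₁.hom ≫ pullback.fst u I.subschemeι = q := by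
    have aux : ∀ (J J' : (Spec (CommRingCat.of R)).IdealSheafData) (hJ : J = J'),
        (eqToIso (congrArg Scheme.IdealSheafData.subscheme hJ)).hom ≫ J'.subschemeι = J.subschemeι := by
      rintro J _ rfl; simp
    simp only [e₁, Iso.trans_hom, Category.assoc, Iso.symm_hom, asIso_inv, asIso_hom]
    conv_lhs => rw [show inv (pullback.fst u I.subschemeι).toImage ≫ pullback.fst u I.subschemeι =
      (pullback.fst u I.subschemeι).imageι by rw [IsIso.inv_comp_eq, Scheme.Hom.toImage_imageι]]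
    rw [Scheme.Hom.imageι, aux _ _ hk, ← Scheme.Hom.imageι, Scheme.Hom.toImage_imageι]
  exact ⟨e₁.hom ≫ pullback.snd _ _, (IsPullback.of_hasPullback u I.subschemeι).of_iso e₁.symm (Iso.refl _)
    (Iso.refl _) (Iso.refl _) (by simp [← he]) (by simp) (by simp) (by simp)⟩

/-- Flatness of a closed subscheme can be tested on charts. -/
theorem flat_subscheme (I : X.IdealSheafData) (s : X ⟶ S)
    (H : ∀ x : X, ∃ (C R : CommRingCat.{u}) (u : Spec R ⟶ X) (W : Spec C ⟶ S) (φ : C ⟶ R) (K : Ideal R),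
      IsOpenImmersion u ∧ IsOpenImmersion W ∧ x ∈ Set.range u ∧ u ≫ s = Spec.map φ ≫ W ∧
        I.comap u = sheafOf K ∧ ((Ideal.Quotient.mk K).comp φ.hom).Flat) :
    Flat (I.subschemeι ≫ s) := by
  choose C R u W φ K hu hW hx hcomm hK hflat using H
  have hv := fun x => isPullback_quot (u x) I (K x) (hK x)
  choose v hv using hv
  haveI : ∀ x, IsOpenImmersion (v x) := fun x => MorphismProperty.of_isPullback (hv x) (hu x)
  let 𝒰 : I.subscheme.OpenCover := Scheme.openCoverOfIsOpenCover _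
    (fun z => (v (I.subschemeι z)).opensRange) (.mk <| top_le_iff.mp fun z _ => Opens.mem_iSup.mpr ⟨z, by
      haveI := hu (I.subschemeι z)
      rw [opensRange_of_isPullback (hv (I.subschemeι z))]
      exact hx _⟩)
  refine IsZariskiLocalAtSource.of_openCover 𝒰 fun z => ?_
  change Flat ((v (I.subschemeι z)).opensRange.ι ≫ I.subschemeι ≫ s)
  rw [← Scheme.Hom.isoOpensRange_inv_comp, Category.assoc, MorphismProperty.cancel_left_of_respectsIso @Flat,
    ← reassoc_of% (hv _).w, hcomm]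
  haveI := hW (I.subschemeι z)
  haveI : Flat (Spec.map (φ (I.subschemeι z) ≫ CommRingCat.ofHom (Ideal.Quotient.mk (K (I.subschemeι z))))) :=
    (HasRingHomProperty.Spec_iff (P := @Flat)).2 (hflat _)
  rw [← Category.assoc]
  change Flat ((Spec.map _ ≫ Spec.map _) ≫ _)
  rw [← Spec.map_comp]
  infer_instance

section Ring

variable {C A B D R : Type u} [CommRing C] [CommRing A] [CommRing B] [CommRing D] [CommRing R]

theorem flat_quot_span_pow [Algebra C A] (f : A) (hf : f ∈ nonZeroDivisors A)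
    [Module.Flat C (A ⧸ Ideal.span {f})] : ∀ n : ℕ, Module.Flat C (A ⧸ Ideal.span {f} ^ n)
  | 0 => by
    haveI : Subsingleton (A ⧸ Ideal.span {f} ^ 0) := Ideal.Quotient.subsingleton_iff.2 (by rw [pow_zero, Ideal.one_eq_top])
    infer_instance
  | n + 1 => by
    haveI := flat_quot_span_pow f hf n
    let μ : (A ⧸ Ideal.span {f}) →ₗ[A] A ⧸ Ideal.span {f} ^ (n + 1) :=
      Submodule.mapQ _ _ (LinearMap.mulLeft A (f ^ n)) (fun x hx => by
        obtain ⟨y, rfl⟩ := Ideal.mem_span_singleton'.1 hx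
        rw [Submodule.mem_comap, Ideal.span_singleton_pow, LinearMap.mulLeft_apply, Ideal.mem_span_singleton']
        exact ⟨y, by ring⟩)
    let π : (A ⧸ Ideal.span {f} ^ (n + 1)) →ₗ[A] A ⧸ Ideal.span {f} ^ n :=
      Submodule.factor (Ideal.pow_le_pow_right n.le_succ)
    refine Groth.Calg6.flat_of_extension (A := C) (M₁ := A ⧸ Ideal.span {f}) (M₂ := A ⧸ Ideal.span {f} ^ (n + 1))
      (M₃ := A ⧸ Ideal.span {f} ^ n) (μ.restrictScalars C) (π.restrictScalars C) ?_ ?_
      (fun z => Submodule.factor_surjective (Ideal.pow_le_pow_right n.le_succ) z)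
    · rw [injective_iff_map_eq_zero]
      intro x hx
      obtain ⟨x, rfl⟩ := Ideal.Quotient.mk_surjective x
      have hx' : f ^ n * x ∈ Ideal.span {f} ^ (n + 1) := Ideal.Quotient.eq_zero_iff_mem.1 hx
      rw [Ideal.span_singleton_pow, Ideal.mem_span_singleton'] at hx'
      obtain ⟨y, hy⟩ := hx'
      rw [Ideal.Quotient.eq_zero_iff_mem, Ideal.mem_span_singleton']
      exact ⟨y, (mem_nonZeroDivisors_iff.1 (pow_mem hf n)).1 (y * f - x) (by linear_combination hy) |>
        fun h => sub_eq_zero.1 h⟩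
    · intro x
      obtain ⟨x, rfl⟩ := Ideal.Quotient.mk_surjective x
      constructor
      · intro hx
        have hx' : x ∈ Ideal.span {f} ^ n := Ideal.Quotient.eq_zero_iff_mem.1 hx
        rw [Ideal.span_singleton_pow, Ideal.mem_span_singleton'] at hx'
        obtain ⟨y, rfl⟩ := hx'
        refine ⟨Ideal.Quotient.mk _ y, ?_⟩
        change Ideal.Quotient.mk _ (f ^ n * y) = _
        rw [mul_comm]
      · rintro ⟨y, hy⟩
        obtain ⟨y, rfl⟩ := Ideal.Quotient.mk_surjective y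
        rw [← hy]
        change Ideal.Quotient.mk (Ideal.span {f} ^ n) (f ^ n * y) = 0
        rw [Ideal.Quotient.eq_zero_iff_mem, Ideal.span_singleton_pow, Ideal.mem_span_singleton']
        exact ⟨y, by ring⟩

variable {prY : R →+* B} {prX : R →+* A} {q : B →+* D} {p : A →+* D}

theorem map_ker_fst (h : Sq prY prX q p) : (RingHom.ker prY).map prX = RingHom.ker p := by
  refine le_antisymm (Ideal.map_le_iff_le_comap.2 fun r hr => ?_) fun a ha => ?_
  · rw [Ideal.mem_comap, RingHom.mem_ker, ← h.comm', RingHom.mem_ker.1 hr, map_zero]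
  · obtain ⟨r, ⟨h1, h2⟩, -⟩ := h.exu 0 a (by rw [map_zero, RingHom.mem_ker.1 ha])
    exact h2 ▸ Ideal.mem_map_of_mem _ (RingHom.mem_ker.2 h1)

theorem prX_image_pow (h : Sq prY prX q p) :
    ∀ (n : ℕ), ∀ a ∈ RingHom.ker p ^ (n + 1), ∃ r ∈ RingHom.ker prY ^ (n + 1), prX r = a
  | 0 => fun a ha => by
    rw [zero_add, pow_one] at ha ⊢
    obtain ⟨r, ⟨h1, h2⟩, -⟩ := h.exu 0 a (by rw [map_zero, RingHom.mem_ker.1 ha])
    exact ⟨r, RingHom.mem_ker.2 h1, h2⟩
  | n + 1 => fun a ha => by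
    rw [pow_succ] at ha
    induction ha using Submodule.mul_induction_on' with
    | mem_mul_mem x hx y hy =>
      obtain ⟨r, hr, rfl⟩ := prX_image_pow h n x hx
      obtain ⟨s, ⟨h1, rfl⟩, -⟩ := h.exu 0 y (by rw [map_zero, RingHom.mem_ker.1 hy])
      exact ⟨r * s, by rw [pow_succ]; exact Ideal.mul_mem_mul hr (RingHom.mem_ker.2 h1), map_mul _ _ _⟩
    | add x _ y _ hx hy =>
      obtain ⟨r, hr, rfl⟩ := hx
      obtain ⟨s, hs, rfl⟩ := hy
      exact ⟨r + s, add_mem hr hs, map_add _ _ _⟩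

theorem flat_pinch_quot (h : Sq prY prX q p) (φ : C →+* R) (hB : (prY.comp φ).Flat)
    (hD : ((q.comp prY).comp φ).Flat) (n : ℕ)
    (hA : ((Ideal.Quotient.mk (RingHom.ker p ^ (n + 1))).comp (prX.comp φ)).Flat) :
    ((Ideal.Quotient.mk (RingHom.ker prY ^ (n + 1))).comp φ).Flat := by
  set I := RingHom.ker p ^ (n + 1)
  set J := RingHom.ker prY ^ (n + 1)
  letI := φ.toAlgebra
  letI : Algebra C B := (prY.comp φ).toAlgebra
  letI : Algebra C A := (prX.comp φ).toAlgebra
  letI : Algebra C D := ((q.comp prY).comp φ).toAlgebra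
  haveI : Module.Flat C B := hB
  haveI : Module.Flat C D := hD
  haveI : Module.Flat C (A ⧸ I) := hA
  haveI : Module.Flat C (B × (A ⧸ I)) := Groth.Misc8.FibreSquare.flat_prod
  have hJp : ∀ r ∈ J, prY r = 0 := fun r hr => RingHom.mem_ker.1 (Ideal.pow_le_self (Nat.succ_ne_zero n) hr)
  have hJI : ∀ r ∈ J, prX r ∈ I := fun r hr => by
    have := Ideal.mem_map_of_mem prX hr
    rwa [Ideal.map_pow, map_ker_fst h] at this
  let qA : B →ₐ[C] D := { q with commutes' := fun _ => rfl }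
  let pA : A →ₐ[C] D := { p with commutes' := fun c => (h.comm' (φ c)).symm }
  let pbar : (A ⧸ I) →ₐ[C] D := Ideal.Quotient.liftₐ I pA
    fun a ha => RingHom.mem_ker.1 (Ideal.pow_le_self (Nat.succ_ne_zero n) ha)
  let e₁ : (R ⧸ J) →ₐ[C] B × (A ⧸ I) := Ideal.Quotient.liftₐ J
    (({ prY with commutes' := fun _ => rfl } : R →ₐ[C] B).prod
      ((Ideal.Quotient.mkₐ C I).comp ({ prX with commutes' := fun _ => rfl } : R →ₐ[C] A)))
    fun r hr => Prod.ext (hJp r hr) (Ideal.Quotient.eq_zero_iff_mem.2 (hJI r hr))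
  let g : B × (A ⧸ I) →ₗ[C] D := qA.toLinearMap.coprod (-pbar.toLinearMap)
  have hg : ∀ b a, g (b, Ideal.Quotient.mk I a) = q b - p a := fun b a => by
    simp [g, sub_eq_add_neg, pbar, qA]; rfl
  refine Groth.Misc8.FibreSquare.flat_of_shortExact e₁.toLinearMap g ?_ (fun d => ?_) ?_
  · rw [injective_iff_map_eq_zero]
    intro r hr
    obtain ⟨r, rfl⟩ := Ideal.Quotient.mk_surjective r
    obtain ⟨r', hr', hx⟩ := prX_image_pow h n (prX r) (Ideal.Quotient.eq_zero_iff_mem.1 congr($(hr).2))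
    rw [Ideal.Quotient.eq_zero_iff_mem, ← h.ext ((hJp r' hr').trans congr($(hr).1).symm) hx]
    exact hr'
  · obtain ⟨a, ha⟩ := h.surj (-d)
    exact ⟨(0, Ideal.Quotient.mk I a), by rw [hg, map_zero, zero_sub, ha, neg_neg]⟩
  · rintro ⟨b, a⟩
    obtain ⟨a, rfl⟩ := Ideal.Quotient.mk_surjective a
    rw [hg, sub_eq_zero]
    refine ⟨fun hx => ?_, ?_⟩
    · obtain ⟨r, ⟨h1, h2⟩, -⟩ := h.exu b a hx
      exact ⟨Ideal.Quotient.mk J r, Prod.ext h1 (congrArg (Ideal.Quotient.mk I) h2)⟩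
    · rintro ⟨r, hr⟩
      obtain ⟨r, rfl⟩ := Ideal.Quotient.mk_surjective r
      have h1 : prY r = b := congr($(hr).1)
      have h2 : prX r - a ∈ I := Ideal.Quotient.eq.1 congr($(hr).2)
      have h3 : p (prX r) = p a := sub_eq_zero.1 (by
        rw [← map_sub]; exact RingHom.mem_ker.1 (Ideal.pow_le_self (Nat.succ_ne_zero n) h2))
      rw [← h1, h.comm', h3]

theorem injective_snd (h : Sq prY prX q p) (hq : Function.Injective q) : Function.Injective prX :=
  fun x y hxy => h.ext (hq (by rw [h.comm', h.comm', hxy])) hxy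

theorem exists_lift_local (h : Sq prY prX q p) {T : Type u} [CommRing T] (φ : R →+* T) {a : R}
    (ha : a ∈ RingHom.ker prY) (hnzd : φ a ∈ nonZeroDivisors T)
    (hI : (RingHom.ker prY).map φ = Ideal.span {φ a}) (hq : Function.Injective q) :
    ∃ Ψ : A →+* T, Ψ.comp prX = φ := by
  have hx : ∀ x : A, ∃ r ∈ RingHom.ker prY, prX r = x * prX a := fun x => by
    obtain ⟨r, ⟨h1, h2⟩, -⟩ := h.exu 0 (x * prX a) (by
      rw [map_zero, map_mul, ← h.comm', RingHom.mem_ker.1 ha, map_zero, mul_zero])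
    exact ⟨r, RingHom.mem_ker.2 h1, h2⟩
  choose r hr hrx using hx
  have he : ∀ x, ∃ e, φ (r x) = e * φ a := fun x => by
    have := Ideal.mem_map_of_mem φ (hr x)
    rw [hI, Ideal.mem_span_singleton'] at this
    obtain ⟨e, he⟩ := this
    exact ⟨e, he.symm⟩
  choose e he using he
  have inj := injective_snd h hq
  have cancel : ∀ u v : T, u * φ a = v * φ a → u = v := fun u v huv =>
    sub_eq_zero.1 ((mem_nonZeroDivisors_iff_right.1 hnzd) _ (by rw [sub_mul, huv, sub_self]))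
  refine ⟨{ toFun := e, map_one' := ?_, map_mul' := fun x y => ?_, map_zero' := ?_, map_add' := fun x y => ?_ },
    RingHom.ext fun z => ?_⟩
  · refine cancel _ _ ?_
    rw [← he, one_mul, inj ((hrx 1).trans (one_mul _))]
  · refine cancel _ _ (cancel _ _ ?_)
    have : r (x * y) * a = r x * r y := inj (by rw [map_mul, map_mul, hrx, hrx, hrx]; ring)
    rw [← he, ← map_mul, this, map_mul, he, he]; ring
  · refine cancel _ _ ?_
    rw [← he, zero_mul, inj ((hrx 0).trans ((zero_mul _).trans (map_zero _).symm)), map_zero]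
  · refine cancel _ _ ?_
    rw [← he, add_mul, ← he, ← he, inj (show prX (r (x + y)) = prX (r x + r y) by rw [map_add, hrx, hrx, hrx, add_mul]),
      map_add]
  · refine cancel _ _ ?_
    change e (prX z) * φ a = φ z * φ a
    rw [← he, ← map_mul, inj (show prX (r (prX z)) = prX (z * a) by rw [hrx, map_mul])]

theorem lift_unique (h : Sq prY prX q p) {T : Type u} [CommRing T] {a : R}
    (ha : a ∈ RingHom.ker prY) {Ψ Ψ' : A →+* T} (hΨ : Ψ.comp prX = Ψ'.comp prX)
    (hnzd : Ψ (prX a) ∈ nonZeroDivisors T) : Ψ = Ψ' := by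
  refine RingHom.ext fun x => ?_
  obtain ⟨r, ⟨-, h2⟩, -⟩ := h.exu 0 (x * prX a) (by
    rw [map_zero, map_mul, ← h.comm', RingHom.mem_ker.1 ha, map_zero, mul_zero])
  have e1 : Ψ (prX a) = Ψ' (prX a) := RingHom.congr_fun hΨ a
  have e2 : Ψ (prX r) = Ψ' (prX r) := RingHom.congr_fun hΨ r
  rw [h2, map_mul, map_mul, ← e1] at e2
  exact sub_eq_zero.1 ((mem_nonZeroDivisors_iff_right.1 hnzd) _ (by rw [sub_mul, e2, sub_self]))

/-- Pinching along an injection is inverse to blowing up the conductor. -/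
theorem isBlowUp_Sp (h : Sq prY prX q p) (hq : Function.Injective q)
    (hC : BlowUp.IsEffCartierIdeal ((sheafOf (RingHom.ker prY)).comap (Sp prX))) :
    BlowUp.IsBlowUp (Sp prX) (sheafOf (RingHom.ker prY)) := by
  set J := RingHom.ker prY
  have hext : ∀ {Y : Scheme.{u}} (k k' : Y ⟶ Spec (CommRingCat.of A)), k ≫ Sp prX = k' ≫ Sp prX →
      BlowUp.IsEffCartierIdeal ((sheafOf J).comap (k ≫ Sp prX)) → k = k' := by
    intro Y k k' w hY
    have key : ∀ y : Y, ∃ U : Y.affineOpens, y ∈ U.1 ∧ U.2.fromSpec ≫ k = U.2.fromSpec ≫ k' := fun y => by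
      obtain ⟨U, hyU, -, a, ha, hnzd, -⟩ := exists_local_generator (k ≫ Sp prX) hY y (O := ⊤) trivial
      have e := fromSpec_comp (k ≫ Sp prX) U.2
      obtain ⟨Ψ, hΨ⟩ := Spec.map_surjective (U.2.fromSpec ≫ k)
      obtain ⟨Ψ', hΨ'⟩ := Spec.map_surjective (U.2.fromSpec ≫ k')
      have e1 : Spec.map (CommRingCat.ofHom prX ≫ Ψ) = Spec.map (CommRingCat.ofHom (phi (k ≫ Sp prX) U.1)) := by
        rw [Spec.map_comp, hΨ, Category.assoc, ← e]
      have e2 : Spec.map (CommRingCat.ofHom prX ≫ Ψ') = Spec.map (CommRingCat.ofHom (phi (k ≫ Sp prX) U.1)) := by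
        rw [Spec.map_comp, hΨ', Category.assoc, ← e, w]
      have c1 : Ψ.hom.comp prX = phi (k ≫ Sp prX) U.1 := congr($(Spec.map_injective e1).hom)
      have c2 : Ψ'.hom.comp prX = phi (k ≫ Sp prX) U.1 := congr($(Spec.map_injective e2).hom)
      refine ⟨U, hyU, ?_⟩
      rw [← hΨ, ← hΨ', CommRingCat.hom_ext (lift_unique h ha (c1.trans c2.symm)
        (by rw [show Ψ.hom (prX a) = phi (k ≫ Sp prX) U.1 a from RingHom.congr_fun c1 a]; exact hnzd))]
    choose U hU hk using key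
    exact Scheme.Cover.hom_ext (coverOfAffines U hU) _ _ hk
  refine ⟨hC, fun Y g hg => ?_⟩
  have key : ∀ y : Y, ∃ U : Y.affineOpens, y ∈ U.1 ∧
      ∃ l : Spec Γ(Y, U.1) ⟶ Spec (CommRingCat.of A), l ≫ Sp prX = U.2.fromSpec ≫ g := fun y => by
    obtain ⟨U, hyU, -, a, ha, hnzd, hI⟩ := exists_local_generator g hg y (O := ⊤) trivial
    obtain ⟨Ψ, hΨ⟩ := exists_lift_local h (phi g U.1) ha hnzd hI hq
    refine ⟨U, hyU, Sp Ψ, ?_⟩
    rw [fromSpec_comp g U.2, Sp_comp, hΨ]
  choose U hU l hl using key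
  let 𝒰 : Y.OpenCover := coverOfAffines U hU
  have hcompat : ∀ x y : Y, pullback.fst (𝒰.f x) (𝒰.f y) ≫ l x = pullback.snd _ _ ≫ l y := fun x y => by
    refine hext _ _ ?_ ?_
    · exact (Category.assoc _ _ _).trans ((congrArg _ (hl x)).trans
        ((pullback.condition_assoc g).trans ((congrArg _ (hl y)).symm.trans (Category.assoc _ _ _).symm)))
    · erw [Category.assoc, hl, ← Category.assoc, Scheme.IdealSheafData.comap_comp]
      have h1 : ∀ z : 𝒰.I₀, IsOpenImmersion (𝒰.f z) := fun z ↦ IsAffineOpen.isOpenImmersion_fromSpec (U z).2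
      have h2 : IsOpenImmersion (pullback.fst (𝒰.f x) (𝒰.f y) ≫ 𝒰.f x) :=
        @IsOpenImmersion.comp _ _ _ _ _ (MorphismProperty.pullback_fst (P := @IsOpenImmersion) _ _ (h1 y)) (h1 x)
      exact isEffCartierIdeal_comap_of_flat (pullback.fst (𝒰.f x) (𝒰.f y) ≫ 𝒰.f x) hg
  have hglue : 𝒰.glueMorphisms l hcompat ≫ Sp prX = g := Scheme.Cover.hom_ext (𝒰 := 𝒰) _ _ fun x =>
    (Category.assoc _ _ _).symm.trans ((congrArg (· ≫ Sp prX) (Scheme.Cover.ι_glueMorphisms 𝒰 l hcompat x)).trans (hl x))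
  exact ⟨_, hglue, fun k' hk' => hext _ _ (hk'.trans hglue.symm) (by rw [hk']; exact hg)⟩

end Ring

end Groth.SpecFerrand.Blow
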