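import Mathlib
import Groth.Agent.SpecFerrand.PinchBlow
import Groth.Agent.SpecFerrand.Relative

/-!
Pinching an effective Cartier divisor: scheme-level consequences.
-/

set_option autoImplicit false

universe u

open CategoryTheory CategoryTheory.Limits AlgebraicGeometry TopologicalSpace MorphismProperty

noncomputable section

namespace Groth.SpecFerrand.Blow

open Groth.BlowUpBasics

variable {X S : Scheme.{u}}

theorem comap_ker_of_isPullback {X' Z' Z : Scheme.{u}} {v : Z' ⟶ X'} {w : Z' ⟶ Z} {u : X' ⟶ X} {i : Z ⟶ X}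
    [IsClosedImmersion i] (H : IsPullback v w u i) : i.ker.comap u = v.ker := by
  rw [← Scheme.IdealSheafData.ker_fst_of_isClosedImmersion i u, ← H.isoPullback_hom_fst,
    Scheme.Hom.ker_comp_of_isIso]

theorem comap_fromSpec {U : X.Opens} (hU : IsAffineOpen U) (I : X.IdealSheafData) :
    I.comap hU.fromSpec = sheafOf (I.ideal ⟨U, hU⟩) := by
  refine Scheme.IdealSheafData.ext_of_isAffine ?_
  have e : (⊤ : (Spec Γ(X, U)).Opens) ≤ hU.fromSpec ⁻¹ᵁ U := by rw [hU.fromSpec_preimage_self]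
  rw [ideal_comap hU.fromSpec I ⟨U, hU⟩ ⟨⊤, isAffineOpen_top _⟩ e, sheafOf_ideal_top]
  congr 1
  rw [Scheme.Hom.appLE, hU.fromSpec_app_self, Category.assoc, ← Functor.map_comp]
  simp only [CommRingCat.hom_comp]
  erw [CategoryTheory.Functor.map_id]
  rfl

theorem flat_chart {C R : CommRingCat.{u}} (u : Spec R ⟶ X) [IsOpenImmersion u] (W : Spec C ⟶ S) [IsOpenImmersion W]
    {s : X ⟶ S} {φ : C ⟶ R} (h : u ≫ s = Spec.map φ ≫ W) {I : X.IdealSheafData} {K : Ideal R}
    (hK : I.comap u = sheafOf K) (hflat : Flat (I.subschemeι ≫ s)) :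
    ((Ideal.Quotient.mk K).comp φ.hom).Flat := by
  obtain ⟨v, hv⟩ := isPullback_quot (R := R) u I K hK
  haveI : IsOpenImmersion v := MorphismProperty.of_isPullback hv inferInstance
  refine flat_of_comp_mono (φ ≫ CommRingCat.ofHom (Ideal.Quotient.mk K)) W ?_
  rw [Spec.map_comp, Category.assoc, ← h]
  change Flat (Sp (Ideal.Quotient.mk K) ≫ u ≫ s)
  rw [reassoc_of% hv.w]
  infer_instance

theorem flat_pow_of_effCartier {I : X.IdealSheafData} (hI : BlowUp.IsEffCartierIdeal I) (s : X ⟶ S)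
    (hflat : Flat (I.subschemeι ≫ s)) (n : ℕ) : Flat ((I ^ n).subschemeι ≫ s) := by
  refine flat_subscheme _ s fun x => ?_
  obtain ⟨U, hxU, f, hf, hfU⟩ := hI x
  obtain ⟨W, hW, hxW, -⟩ := exists_isAffineOpen_mem_and_subset (x := s x) (U := ⊤) trivial
  obtain ⟨V, hV, hxV, hle⟩ := exists_isAffineOpen_mem_and_subset (x := x) (U := U.1 ⊓ s ⁻¹ᵁ W) ⟨hxU, hxW⟩
  have hVU : V ≤ U.1 := fun z hz => (hle hz).1
  have hVW : V ≤ s ⁻¹ᵁ W := fun z hz => (hle hz).2
  haveI := hV.isOpenImmersion_fromSpec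
  haveI := hW.isOpenImmersion_fromSpec
  let f' : Γ(X, V) := (X.presheaf.map (homOfLE hVU).op).hom f
  have hf' : f' ∈ nonZeroDivisors Γ(X, V) := restrict_mem_nonZeroDivisors (U := U) (V := ⟨V, hV⟩) hVU hf
  have hIV : I.ideal ⟨V, hV⟩ = Ideal.span {f'} := by
    rw [← I.map_ideal (U := ⟨V, hV⟩) (V := U) hVU, hfU, Ideal.map_span, Set.image_singleton]
    rfl
  have hK : I.comap hV.fromSpec = sheafOf (Ideal.span {f'}) := hIV ▸ comap_fromSpec hV I
  have hc := (IsAffineOpen.SpecMap_appLE_fromSpec s hW hV hVW).symm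
  refine ⟨_, _, hV.fromSpec, hW.fromSpec, s.appLE W V hVW, Ideal.span {f'} ^ n, inferInstance, inferInstance,
    by rw [hV.range_fromSpec]; exact hxV, hc, comap_pow hV.fromSpec I _ hK n, ?_⟩
  have h1 := flat_chart hV.fromSpec hW.fromSpec hc hK hflat
  letI := (s.appLE W V hVW).hom.toAlgebra
  haveI : Module.Flat Γ(S, W) (Γ(X, V) ⧸ Ideal.span {f'}) := h1
  exact flat_quot_span_pow f' hf' n

end Groth.SpecFerrand.Blow
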