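import Mathlib
import Groth.Agent.SpecFerrand.Props

/-!
Finite sets of points in the pushout of two closed immersions.
-/

set_option autoImplicit false

universe u

open CategoryTheory CategoryTheory.Limits AlgebraicGeometry TopologicalSpace

noncomputable section

namespace Groth.SpecFerrand

/-- Prime avoidance in a coset of an ideal. -/
theorem avoid_coset {R : Type u} [CommRing R] (a : R) (I : Ideal R) (s : Finset (PrimeSpectrum R))
    (hI : ∀ p ∈ s, a ∈ p.asIdeal → ¬ I ≤ p.asIdeal) : ∃ h ∈ I, ∀ p ∈ s, a + h ∉ p.asIdeal := by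
  classical
  induction s using Finset.strongInduction with
  | _ s ih =>
    rcases s.eq_empty_or_nonempty with rfl | hs
    · exact ⟨0, I.zero_mem, fun p hp => absurd hp (Finset.notMem_empty p)⟩
    obtain ⟨p, hp, hmin⟩ := s.exists_minimal hs
    obtain ⟨h, hhI, hh⟩ := ih (s.erase p) (Finset.erase_ssubset hp)
      fun q hq => hI q (Finset.mem_of_mem_erase hq)
    by_cases hpa : a + h ∈ p.asIdeal
    · have hJ : ¬ I * (∏ q ∈ s.erase p, q.asIdeal) ≤ p.asIdeal := by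
        rw [p.isPrime.mul_le]
        rintro (hle | hle)
        · refine hI p hp ?_ hle
          simpa using p.asIdeal.sub_mem hpa (hle hhI)
        · obtain ⟨q, hq, hqp⟩ := (Ideal.IsPrime.prod_le p.isPrime).1 hle
          exact Finset.ne_of_mem_erase hq (le_antisymm hqp (hmin (Finset.mem_of_mem_erase hq) hqp))
      obtain ⟨k, hk, hkp⟩ := SetLike.not_le_iff_exists.1 hJ
      refine ⟨h + k, I.add_mem hhI ((Ideal.mul_le_left (I := I) (J := ∏ q ∈ s.erase p, q.asIdeal)) hk), fun q hq => ?_⟩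
      rw [← add_assoc]
      by_cases hqp : q = p
      · subst hqp
        exact fun hc => hkp (by simpa using q.asIdeal.sub_mem hc hpa)
      · intro hc
        have hkq : k ∈ q.asIdeal :=
          Finset.inf_le (f := fun r : PrimeSpectrum R => r.asIdeal) (Finset.mem_erase.2 ⟨hqp, hq⟩) (Ideal.prod_le_inf ((Ideal.mul_le_right (I := I) (J := ∏ q ∈ s.erase p, q.asIdeal)) hk))
        exact hh q (Finset.mem_erase.2 ⟨hqp, hq⟩) (by simpa using q.asIdeal.sub_mem hc hkq)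
    · exact ⟨h, hhI, fun q hq => by
        by_cases hqp : q = p
        · rw [hqp]; exact hpa
        · exact hh q (Finset.mem_erase.2 ⟨hqp, hq⟩)⟩

variable {X : Scheme.{u}} {U : X.Opens} (hU : IsAffineOpen U)

theorem fromSpec_mem_basicOpen (a : Γ(X, U)) (p : Spec Γ(X, U)) :
    hU.fromSpec p ∈ X.basicOpen a ↔ a ∉ p.asIdeal := by
  change p ∈ hU.fromSpec ⁻¹ᵁ X.basicOpen a ↔ _
  rw [hU.fromSpec_preimage_basicOpen]
  rfl

include hU in
theorem exists_coset_basicOpen {T : Set X} (hT : T.Finite) (hTU : T ⊆ U) (a : Γ(X, U)) (I : Ideal Γ(X, U))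
    (hI : ∀ x ∈ T, x ∉ X.basicOpen a → ∃ h ∈ I, x ∈ X.basicOpen h) :
    ∃ h ∈ I, ∀ x ∈ T, x ∈ X.basicOpen (a + h) := by
  haveI := hU.isOpenImmersion_fromSpec
  have hfin : (hU.fromSpec ⁻¹' T).Finite := hT.preimage hU.fromSpec.isOpenEmbedding.injective.injOn
  obtain ⟨h, hhI, hh⟩ := avoid_coset a I hfin.toFinset fun p hp hap hle => by
    obtain ⟨h, hhI, hx⟩ := hI (hU.fromSpec p) (hfin.mem_toFinset.1 hp)
      fun hc => (fromSpec_mem_basicOpen hU a p).1 hc hap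
    exact (fromSpec_mem_basicOpen hU h p).1 hx (hle hhI)
  refine ⟨h, hhI, fun x hx => ?_⟩
  obtain ⟨p, rfl⟩ : x ∈ Set.range hU.fromSpec := by rw [hU.range_fromSpec]; exact hTU hx
  exact (fromSpec_mem_basicOpen hU _ p).2 (hh p (hfin.mem_toFinset.2 hx))

include hU in
theorem exists_basicOpen_finite {T : Set X} (hT : T.Finite) (W : X.Opens) (hWU : W ≤ U) (hTW : T ⊆ W) :
    ∃ f : Γ(X, U), T ⊆ X.basicOpen f ∧ X.basicOpen f ≤ W := by
  haveI := hU.isOpenImmersion_fromSpec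
  let K : Set (PrimeSpectrum Γ(X, U)) := {p | hU.fromSpec p ∉ W}
  obtain ⟨h, hhK, hh⟩ := exists_coset_basicOpen hU hT (hTW.trans hWU) 0 (PrimeSpectrum.vanishingIdeal K)
    fun x hx _ => by
      obtain ⟨f, hfW, hxf⟩ := hU.exists_basicOpen_le (V := W) ⟨x, hTW hx⟩ (hWU (hTW hx))
      refine ⟨f, (PrimeSpectrum.mem_vanishingIdeal _ _).2 fun p hp => ?_, hxf⟩
      by_contra hfp
      exact hp (hfW ((fromSpec_mem_basicOpen hU f p).2 hfp))
  simp only [zero_add] at hh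
  refine ⟨h, hh, fun x hx => ?_⟩
  obtain ⟨p, rfl⟩ : x ∈ Set.range hU.fromSpec := by rw [hU.range_fromSpec]; exact X.basicOpen_le _ hx
  by_contra hp
  exact (fromSpec_mem_basicOpen hU h p).1 hx ((PrimeSpectrum.mem_vanishingIdeal _ _).1 hhK p hp)

namespace Glue

variable {X Y Z : Scheme.{u}} (i : Z ⟶ X) (j : Z ⟶ Y) [IsClosedImmersion i] [IsClosedImmersion j]

/-- A lift of a basic open along a closed immersion, through a given finite set. -/
theorem exists_lift_finite {X Z : Scheme.{u}} (i : Z ⟶ X) [IsClosedImmersion i] {U : X.Opens} (hU : IsAffineOpen U)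
    {E : Set X} (hE : E.Finite) (hEU : E ⊆ U) (c : Γ(Z, i ⁻¹ᵁ U)) (hc : i ⁻¹' E ⊆ Z.basicOpen c) :
    ∃ a : Γ(X, U), E ⊆ X.basicOpen a ∧ i ⁻¹ᵁ X.basicOpen a = Z.basicOpen c := by
  obtain ⟨a, ha⟩ := i.app_surjective U hU c
  have hpre : i ⁻¹ᵁ X.basicOpen a = Z.basicOpen c := by rw [Scheme.preimage_basicOpen, ha]
  obtain ⟨h, hh, hEh⟩ := exists_coset_basicOpen hU hE hEU a (RingHom.ker (i.app U).hom) fun x hx hxa => by
    have hxi : x ∉ Set.range i := by
      rintro ⟨z, rfl⟩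
      exact hxa (show z ∈ i ⁻¹ᵁ X.basicOpen a by rw [hpre]; exact hc hx)
    obtain ⟨g, hg, hxg⟩ := hU.exists_basicOpen_le (V := ⟨_, i.isClosedEmbedding.isClosed_range.isOpen_compl⟩)
      ⟨x, hxi⟩ (hEU hx)
    have hbot : Z.basicOpen (i.app U g) = ⊥ := by
      rw [← Scheme.preimage_basicOpen, eq_bot_iff]
      exact fun z hz => hg hz ⟨z, rfl⟩
    obtain ⟨n, hn⟩ :=
      (Scheme.isNilpotent_iff_basicOpen_eq_bot_of_isCompact (hU.preimage i).isCompact _).2 hbot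
    refine ⟨g ^ (n + 1), by rw [RingHom.mem_ker, map_pow, pow_succ, hn, zero_mul], ?_⟩
    rw [X.basicOpen_pow _ n.succ_pos]
    exact hxg
  refine ⟨a + h, hEh, ?_⟩
  rw [Scheme.preimage_basicOpen, map_add, ha, RingHom.mem_ker.1 hh, add_zero]

theorem exists_goodPair_finite {U₁ : X.Opens} (hU₁ : IsAffineOpen U₁) {U₂ : Y.Opens} (hU₂ : IsAffineOpen U₂)
    {E₁ : Set X} (hE₁ : E₁.Finite) (hEU₁ : E₁ ⊆ U₁) {E₂ : Set Y} (hE₂ : E₂.Finite) (hEU₂ : E₂ ⊆ U₂)
    (heq : i ⁻¹' E₁ = j ⁻¹' E₂) :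
    ∃ k : GoodPair i j, E₁ ⊆ k.U ∧ E₂ ⊆ k.V := by
  have hF : (i ⁻¹' E₁).Finite := hE₁.preimage i.isClosedEmbedding.injective.injOn
  have hWU := hU₁.preimage i
  have hWV := hU₂.preimage j
  obtain ⟨f, hFf, hfW⟩ := exists_basicOpen_finite hWU hF (i ⁻¹ᵁ U₁ ⊓ j ⁻¹ᵁ U₂) inf_le_left
    (fun z hz => ⟨hEU₁ hz, by rw [heq] at hz; exact hEU₂ hz⟩)
  obtain ⟨g, hFg, hgf⟩ := exists_basicOpen_finite hWV hF (Z.basicOpen f) (hfW.trans inf_le_right) hFf
  let g' : Γ(Z, Z.basicOpen f) := Z.presheaf.map (homOfLE (hfW.trans inf_le_right)).op g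
  obtain ⟨c, hc⟩ := hWU.basicOpen_basicOpen_is_basicOpen f g'
  have hcg : Z.basicOpen c = Z.basicOpen g := by
    rw [hc, Scheme.basicOpen_res]; exact inf_eq_right.mpr hgf
  obtain ⟨a, hEa, ha⟩ := exists_lift_finite i hU₁ hE₁ hEU₁ c (by rw [hcg]; exact hFg)
  obtain ⟨b, hEb, hb⟩ := exists_lift_finite j hU₂ hE₂ hEU₂ g (by rw [← heq]; exact hFg)
  exact ⟨⟨X.basicOpen a, Y.basicOpen b, hU₁.basicOpen a, hU₂.basicOpen b, by rw [ha, hb, hcg]⟩, hEa, hEb⟩

end Glue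

end Groth.SpecFerrand
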