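import Mathlib
import Groth.Agent.FlatMor2.IndQuasiAffine
import Groth.Agent.SpecFerrand.Relative
import Groth.Agent.SpecFerrand.FiniteSet

/-!
Separated quasi-finite data over a pushout: good pairs exist and the glued morphism is quasi-finite.
-/

set_option autoImplicit false

universe u

open CategoryTheory CategoryTheory.Limits AlgebraicGeometry TopologicalSpace MorphismProperty

noncomputable section

namespace Groth.SpecFerrand

/-- In a quasi-affine open, a compact fibre of an integral morphism lies in an affine open. -/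
theorem exists_affine_of_quasiAffine {X Y Z : Scheme.{u}} (i : Z ⟶ X) (j : Z ⟶ Y) [IsIntegralHom j] (y : Y)
    (Q : X.Opens) [(Q : Scheme.{u}).IsQuasiAffine] (hQ : j ⁻¹' {y} ⊆ i ⁻¹' (Q : Set X)) :
    ∃ U : X.Opens, IsAffineOpen U ∧ j ⁻¹' {y} ⊆ i ⁻¹' (U : Set X) := by
  classical
  set S := (Q : Scheme.{u})
  let F : Set Γ(S, ⊤) := {f | IsAffineOpen (S.basicOpen f)}
  have hc : IsCompact (j ⁻¹' {y}) := j.isCompact_preimage_singleton y
  obtain ⟨t, htF, htfin, htc⟩ := hc.elim_finite_subcover_image (b := F)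
    (c := fun f => i ⁻¹' ((Q.ι ''ᵁ S.basicOpen f : X.Opens) : Set X))
    (fun f _ => (i ⁻¹ᵁ (Q.ι ''ᵁ S.basicOpen f)).2) (fun z hz => by
      obtain ⟨_, ⟨_, ⟨f, hf, rfl⟩, rfl⟩, hxf, -⟩ :=
        (Scheme.IsQuasiAffine.isBasis_basicOpen S).exists_subset_of_mem_open
          (Set.mem_univ (⟨i z, hQ hz⟩ : S)) isOpen_univ
      exact Set.mem_biUnion (show f ∈ F from hf) ⟨_, hxf, rfl⟩)
  obtain ⟨n, fs, hfs⟩ : ∃ (n : ℕ) (fs : Fin n → Γ(S, ⊤)), Set.range fs = t := by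
    have := htfin.to_subtype
    obtain ⟨n, ⟨e⟩⟩ := Finite.exists_equiv_fin t
    exact ⟨n, fun k => (e.symm k).1, by ext f; exact ⟨by rintro ⟨k, rfl⟩; exact (e.symm k).2,
      fun hf => ⟨e ⟨f, hf⟩, by simp⟩⟩⟩
  obtain ⟨V, hV, hyV, hVQ⟩ : ∃ V : Y.Opens, IsAffineOpen V ∧ y ∈ V ∧ j ⁻¹ᵁ V ≤ i ⁻¹ᵁ Q := by
    have hclosed : IsClosed (j '' (i ⁻¹ᵁ Q : Set Z)ᶜ) := j.isClosedMap _ (i ⁻¹ᵁ Q).2.isClosed_compl
    have hy : y ∈ (j '' (i ⁻¹ᵁ Q : Set Z)ᶜ)ᶜ := by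
      rintro ⟨z, hz, rfl⟩
      exact hz (hQ rfl)
    obtain ⟨V, hV, hyV, hVle⟩ := exists_isAffineOpen_mem_and_subset (U := ⟨_, hclosed.isOpen_compl⟩) hy
    exact ⟨V, hV, hyV, fun z hz => by by_contra h; exact hVle hz ⟨z, h, rfl⟩⟩
  have hjVa : IsAffineOpen (j ⁻¹ᵁ V) := hV.preimage j
  letI := (j.app V).hom.toAlgebra
  haveI : Algebra.IsIntegral Γ(Y, V) Γ(Z, j ⁻¹ᵁ V) := ⟨fun c => j.isIntegral_app V hV c⟩
  let iQ : (j ⁻¹ᵁ V : Scheme.{u}) ⟶ S :=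
    IsOpenImmersion.lift Q.ι ((j ⁻¹ᵁ V).ι ≫ i) (by
      rintro _ ⟨z, rfl⟩
      rw [Scheme.Opens.range_ι]
      exact hVQ z.2)
  have hiQ : iQ ≫ Q.ι = (j ⁻¹ᵁ V).ι ≫ i := IsOpenImmersion.lift_fac ..
  let ρ : Γ(S, ⊤) →+* Γ(Z, j ⁻¹ᵁ V) := ((j ⁻¹ᵁ V).topIso.hom.hom).comp iQ.appTop.hom
  have hρ : ∀ (f : Γ(S, ⊤)) (w : Spec Γ(Z, j ⁻¹ᵁ V)) (z : (j ⁻¹ᵁ V : Scheme.{u})),
      hjVa.fromSpec w = (j ⁻¹ᵁ V).ι z → (iQ z ∈ S.basicOpen f ↔ ρ f ∉ w.asIdeal) := by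
    intro f w z hwz
    rw [← fromSpec_mem_basicOpen hjVa (ρ f) w, hwz]
    change z ∈ iQ ⁻¹ᵁ S.basicOpen f ↔ z ∈ (j ⁻¹ᵁ V).ι ⁻¹ᵁ Z.basicOpen (ρ f)
    rw [Scheme.preimage_basicOpen_top, ← Scheme.Opens.toSpecΓ_preimage_basicOpen]
    rw [← Scheme.toSpecΓ_preimage_basicOpen]
    have e : (j ⁻¹ᵁ V).topIso.inv (ρ f) = iQ.appTop f := congr($((j ⁻¹ᵁ V).topIso.hom_inv_id) (iQ.appTop f))
    rw [← e]
    exact Iff.rfl
  obtain ⟨py, hpy⟩ : y ∈ Set.range hV.fromSpec := by rw [hV.range_fromSpec]; exact hyV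
  have hfib' : ∀ w : Spec Γ(Z, j ⁻¹ᵁ V), j (hjVa.fromSpec w) = hV.fromSpec (Spec.map (j.app V) w) := by
    intro w
    have e := IsAffineOpen.SpecMap_appLE_fromSpec j hV hjVa le_rfl
    rw [← Scheme.Hom.comp_apply, ← Scheme.Hom.comp_apply, ← e, Scheme.Hom.app_eq_appLE]
  obtain ⟨G, hG, hGw⟩ := Glue.exists_avoid (fun k => ρ (fs k)) py (fun w hw => by
    have hz : j (hjVa.fromSpec w) = y := by
      rw [hfib', ← hpy]
      exact congrArg hV.fromSpec hw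
    obtain ⟨f, hf, q, hq, hqf⟩ : ∃ f ∈ t, ∃ q ∈ S.basicOpen f, Q.ι q = i (hjVa.fromSpec w) := by
      simpa using htc hz
    obtain ⟨z, hzw⟩ : ∃ z : (j ⁻¹ᵁ V : Scheme.{u}), hjVa.fromSpec w = (j ⁻¹ᵁ V).ι z :=
      ⟨⟨hjVa.fromSpec w, (Set.ext_iff.1 hjVa.range_fromSpec _).1 ⟨w, rfl⟩⟩, rfl⟩
    obtain ⟨k, rfl⟩ := hfs.symm ▸ hf
    refine ⟨k, (hρ _ w z hzw).1 ?_⟩
    have : iQ z = q := Q.ι.isOpenEmbedding.injective (by
      rw [← Scheme.Hom.comp_apply, hiQ, Scheme.Hom.comp_apply, ← hzw, hqf])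
    rw [this]; exact hq)
  let f : Γ(S, ⊤) := MvPolynomial.aeval fs G
  have hfle : PrimeSpectrum.basicOpen f ≤ S.toSpecΓ.opensRange := by
    intro p hp
    have hle : Ideal.span (Set.range (MvPolynomial.X : Fin n → MvPolynomial (Fin n) ℤ)) ≤
        p.asIdeal.comap (MvPolynomial.aeval fs).toRingHom → False := fun h => hp (h hG)
    by_contra hpn
    refine hle (Ideal.span_le.2 ?_)
    rintro _ ⟨k, rfl⟩
    simp only [SetLike.mem_coe, Ideal.mem_comap, AlgHom.toRingHom_eq_coe, RingHom.coe_coe, MvPolynomial.aeval_X]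
    by_contra hk
    refine hpn ?_
    have haff : IsAffineOpen (S.basicOpen (fs k)) := htF (hfs ▸ ⟨k, rfl⟩)
    have hsub : PrimeSpectrum.basicOpen (fs k) ≤ S.toSpecΓ.opensRange := by
      have := isLocalization_basicOpen_of_qcqs (X := S) (U := ⊤) isCompact_univ isQuasiSeparated_univ (fs k)
      intro p' hp'
      obtain ⟨p'', rfl⟩ : p' ∈ Set.range (PrimeSpectrum.comap
          (algebraMap Γ(S, ⊤) Γ(S, S.basicOpen (fs k)))) := by
        rw [PrimeSpectrum.localization_away_comap_range _ (fs k)]; exact hp'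
      refine ⟨(S.basicOpen (fs k)).ι (haff.isoSpec.inv p''), ?_⟩
      rw [← Scheme.Hom.comp_apply, ← Scheme.Hom.comp_apply, ← Scheme.Opens.toSpecΓ_SpecMap_presheaf_map_top]
      change ((haff.isoSpec.inv ≫ haff.isoSpec.hom) ≫ Spec.map _) p'' = _
      rw [Iso.inv_hom_id, Category.id_comp]
      rfl
    exact hsub hk
  have haffU : IsAffineOpen (S.basicOpen f) := by
    rw [← Scheme.toSpecΓ_preimage_basicOpen]
    refine (IsAffineOpen.Spec_basicOpen f).preimage_of_isOpenImmersion _ hfle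
  refine ⟨Q.ι ''ᵁ S.basicOpen f, haffU.image_of_isOpenImmersion _, fun z hz => ?_⟩
  have hzV : z ∈ j ⁻¹ᵁ V := by show j z ∈ V; rw [show j z = y from hz]; exact hyV
  obtain ⟨w, hw⟩ : z ∈ Set.range hjVa.fromSpec := by rw [hjVa.range_fromSpec]; exact hzV
  refine ⟨iQ ⟨z, hzV⟩, (hρ f w ⟨z, hzV⟩ hw).2 ?_, congr($(hiQ) ⟨z, hzV⟩)⟩
  have hwp : PrimeSpectrum.comap (algebraMap Γ(Y, V) Γ(Z, j ⁻¹ᵁ V)) w = py := by
    haveI := hV.isOpenImmersion_fromSpec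
    refine hV.fromSpec.isOpenEmbedding.injective ?_
    rw [hpy, ← show j (hjVa.fromSpec w) = y by rw [hw]; exact hz, hfib']
    rfl
  have e : ρ f = MvPolynomial.aeval (fun k => ρ (fs k)) G :=
    MvPolynomial.comp_aeval_apply (R := ℤ) (f := fs) ρ.toIntAlgHom G
  rw [e]
  exact hGw w hwp

theorem finite_fibre {R B A D R' B' A' D' : CommRingCat.{u}} {p1 : R ⟶ B} {p2 : R ⟶ A} {q : B ⟶ D} {p : A ⟶ D}
    (sq : Sq p1.hom p2.hom q.hom p.hom) {p1' : R' ⟶ B'} {p2' : R' ⟶ A'} {q' : B' ⟶ D'} {p' : A' ⟶ D'}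
    (sq' : Sq p1'.hom p2'.hom q'.hom p'.hom) {ψ : R ⟶ R'} {β : B ⟶ B'} {α : A ⟶ A'}
    (hY : IsPushout p1 ψ β p1') (hX : IsPushout p2 ψ α p2')
    [LocallyQuasiFinite (Spec.map β)] [LocallyQuasiFinite (Spec.map α)] (P : Spec R) :
    (Spec.map ψ ⁻¹' {P}).Finite := by
  have hpb : IsPullback (Spec.map β) (Spec.map p1') (Spec.map p1) (Spec.map ψ) :=
    isPullback_SpecMap_of_isPushout _ _ _ _ hY
  by_cases hP : ∃ y, Spec.map p1 y = P
  · obtain ⟨y, rfl⟩ := hP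
    refine ((Scheme.Hom.finite_preimage_singleton (Spec.map β) y).image (Spec.map p1')).subset fun Q hQ => ?_
    obtain ⟨z, hz1, hz2⟩ := Scheme.Pullback.exists_preimage_pullback y Q (show Spec.map p1 y = Spec.map ψ Q from hQ.symm)
    refine ⟨hpb.isoPullback.inv z, ?_, ?_⟩
    · show (hpb.isoPullback.inv ≫ Spec.map β) z = y
      rw [hpb.isoPullback_inv_fst]; exact hz1
    · rw [← Scheme.Hom.comp_apply, hpb.isoPullback_inv_snd]; exact hz2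
  · have hsub : (Spec.map p2 ⁻¹' {P}).Subsingleton := fun x hx x' hx' =>
      sq.topology.2.1 x x' (hx.trans hx'.symm) (by
        rintro ⟨y, hy⟩
        exact hP ⟨y, hy.trans hx⟩)
    refine ((Scheme.Hom.finite_preimage (Spec.map α) hsub.finite).image (Spec.map p2')).subset fun Q hQ => ?_
    rcases (top_facts sq').1 Q with ⟨y', rfl⟩ | ⟨x', rfl⟩
    · refine absurd ⟨Spec.map β y', ?_⟩ hP
      rw [← Scheme.Hom.comp_apply, hpb.w]
      exact hQ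
    · refine ⟨x', ?_, rfl⟩
      show (Spec.map α ≫ Spec.map p2) x' = P
      rw [(isPullback_SpecMap_of_isPushout _ _ _ _ hX).w]
      exact hQ

end Groth.SpecFerrand
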