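import Groth.Prelude.Def_W4c3jacimperfPinch
import Groth.Agent.SpecFerrand.BaseChange

/-!
Base change of pinchings with projective cokernel.
-/

set_option autoImplicit false

universe u

open CategoryTheory CategoryTheory.Limits AlgebraicGeometry TopologicalSpace

noncomputable section

namespace Groth.SpecFerrand

theorem appLE_congr {X Y : Scheme.{u}} {g g' : X ⟶ Y} (h : g = g') (U : Y.Opens) (W : X.Opens)
    (e : W ≤ g ⁻¹ᵁ U) (e' : W ≤ g' ⁻¹ᵁ U) : g.appLE U W e = g'.appLE U W e' := by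
  subst h; rfl

theorem projective_range {C B A : Type u} [CommRing C] [CommRing B] [CommRing A] [Algebra C B] [Algebra C A]
    (q : B →ₐ[C] A) (h : Pinch.CokerProjective C q.toRingHom) :
    Module.Projective C (A ⧸ LinearMap.range q.toLinearMap) := by
  have e : Submodule.span C (Set.range q.toRingHom) = LinearMap.range q.toLinearMap :=
    (congrArg (Submodule.span C) (LinearMap.coe_range q.toLinearMap).symm).trans (Submodule.span_eq _)
  haveI : Module.Projective C (A ⧸ Submodule.span C (Set.range q.toRingHom)) := h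
  exact Module.Projective.of_equiv (Submodule.quotEquivOfEq _ _ e)

theorem app_injective_of_flat_surjective {Z T : Scheme.{u}} (ξ : Z ⟶ T) [IsAffineHom ξ] [Flat ξ] [Surjective ξ]
    {V : T.Opens} (hV : IsAffineOpen V) : Function.Injective (ξ.app V).hom := by
  refine RingHom.FaithfullyFlat.injective (RingHom.FaithfullyFlat.iff_flat_and_comap_surjective.2 ⟨?_, fun w => ?_⟩)
  · rw [Scheme.Hom.app_eq_appLE]
    exact HasRingHomProperty.appLE @Flat ξ ‹_› ⟨V, hV⟩ ⟨_, hV.preimage ξ⟩ le_rfl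
  · obtain ⟨z, hz⟩ := ξ.surjective (hV.fromSpec w)
    haveI := hV.isOpenImmersion_fromSpec
    obtain ⟨z', rfl⟩ : z ∈ Set.range (hV.preimage ξ).fromSpec := by
      rw [(hV.preimage ξ).range_fromSpec]
      show ξ z ∈ V
      rw [hz]
      exact (Set.ext_iff.1 hV.range_fromSpec _).1 ⟨w, rfl⟩
    refine ⟨z', hV.fromSpec.isOpenEmbedding.injective (Eq.trans ?_ hz)⟩
    rw [← Scheme.Hom.comp_apply, ← IsAffineOpen.SpecMap_appLE_fromSpec ξ hV (hV.preimage ξ) le_rfl,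
      ← Scheme.Hom.app_eq_appLE]
    rfl

namespace Glue

variable {X Y T Z P : Scheme.{u}} {f : X ⟶ Y} {t : T ⟶ Y} {ξ : Z ⟶ T} {ι : Z ⟶ X}
  [IsAffineHom t] [IsClosedImmersion ι] [IsIntegralHom ξ] [Flat ξ] [Surjective ξ] {a : X ⟶ P} {b : T ⟶ P}

theorem exists_exact_chart (hsq : ι ≫ f = ξ ≫ t)
    (hstd : ∀ y : Y, ∃ U : Y.Opens, IsAffineOpen U ∧ y ∈ U ∧ ∃ V : X.Opens, IsAffineOpen V ∧
      V ≤ f ⁻¹ᵁ U ∧ ∀ z : Z, (ξ ≫ t).base z ∈ U → ι.base z ∈ V)
    (hP : IsPushout ι ξ a b)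
    (hv : ∀ U : Y.affineOpens, @Pinch.CokerProjective Γ(Y, U) Γ(Z, (ξ ≫ t) ⁻¹ᵁ U) Γ(T, t ⁻¹ᵁ U) _ _ _
      ((ξ ≫ t).app U).hom.toAlgebra (ξ.app (t ⁻¹ᵁ U)).hom)
    (p : P ⟶ Y) (hap : a ≫ p = f) (hbp : b ≫ p = t) (x : P) :
    ∃ (U : Y.Opens) (hU : IsAffineOpen U) (c : SqChart ι ξ a b) (φ : Γ(Y, U) ⟶ c.R),
      c.u ≫ p = Spec.map φ ≫ hU.fromSpec ∧ x ∈ c.u.opensRange ∧
      ∀ {C' : CommRingCat.{u}} (γ : Γ(Y, U) ⟶ C'), c.ChartExact φ γ := by
  have hc := covers_of_affine_local f t hsq hstd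
  obtain ⟨-, hb, -, -⟩ := facts_of_isPushout hc hP
  by_cases hxb : x ∈ Set.range b
  · obtain ⟨w, rfl⟩ := hxb
    obtain ⟨U, hU, hwU, V, hV, hVU, hz⟩ := hstd (t w)
    let k : GoodPair ι ξ := ⟨V, t ⁻¹ᵁ U, hV, hU.preimage t, by
      ext z
      refine ⟨fun h => ?_, fun h => hz z h⟩
      show (ξ ≫ t).base z ∈ U
      rw [← hsq]
      exact hVU h⟩
    let c := sqChart hc hP k
    have hle : k.W ≤ (ι ≫ f) ⁻¹ᵁ U := fun z hz' => by rw [hsq]; exact hz'
    have hmem' : t.app U ≫ k.pY = f.appLE U V hVU ≫ k.pX := by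
      rw [GoodPair.pY, GoodPair.pX, Scheme.Hom.app_eq_appLE, Scheme.Hom.appLE_comp_appLE,
        Scheme.Hom.appLE_comp_appLE]
      exact appLE_congr hsq.symm _ _ _ _
    have hmem : ∀ r : Γ(Y, U), k.pY (t.app U r) = k.pX (f.appLE U V hVU r) := fun r => congr($(hmem') r)
    let φ : Γ(Y, U) ⟶ c.R := CommRingCat.ofHom
      (((t.app U).hom.prod (f.appLE U V hVU).hom).codRestrict k.R hmem)
    have hu : c.u ≫ p = Spec.map φ ≫ hU.fromSpec := by
      refine (isPushout_Sp k.sq).hom_ext ?_ ?_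
      · change Spec.map c.p1 ≫ c.u ≫ p = Spec.map c.p1 ≫ Spec.map φ ≫ hU.fromSpec
        rw [reassoc_of% c.hY.w, hbp, ← Spec.map_comp_assoc]
        have e : φ ≫ c.p1 = t.appLE U (t ⁻¹ᵁ U) le_rfl := by rw [← Scheme.Hom.app_eq_appLE]; rfl
        rw [e]
        exact (IsAffineOpen.SpecMap_appLE_fromSpec t hU (hU.preimage t) le_rfl).symm
      · change Spec.map c.p2 ≫ c.u ≫ p = Spec.map c.p2 ≫ Spec.map φ ≫ hU.fromSpec
        rw [reassoc_of% c.hX.w, hap, ← Spec.map_comp_assoc]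
        have e : φ ≫ c.p2 = f.appLE U V hVU := rfl
        rw [e]
        exact (IsAffineOpen.SpecMap_appLE_fromSpec f hU hV hVU).symm
    refine ⟨U, hU, c, φ, hu, ?_, fun {C'} γ => ?_⟩
    · obtain ⟨w', hw'⟩ : w ∈ Set.range k.fY := by rw [GoodPair.fY, k.affV.range_fromSpec]; exact hwU
      exact ⟨Spec.map c.p1 w', by rw [← Scheme.Hom.comp_apply, c.hY.w, Scheme.Hom.comp_apply]; exact congrArg (b ·) hw'⟩
    letI := γ.hom.toAlgebra
    letI := φ.hom.toAlgebra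
    letI : Algebra Γ(Y, U) c.B := (c.p1.hom.comp φ.hom).toAlgebra
    letI : Algebra Γ(Y, U) c.A := (c.p2.hom.comp φ.hom).toAlgebra
    letI : Algebra Γ(Y, U) c.D := ((ξ ≫ t).app U).hom.toAlgebra
    have hq : ∀ r, c.q ((c.p1.hom.comp φ.hom) r) = (ξ ≫ t).app U r := fun r => by
      change k.pY (t.app U r) = _
      rw [GoodPair.pY, ← Scheme.Hom.app_eq_appLE]
      rfl
    let q : c.B →ₐ[Γ(Y, U)] c.D := { c.q.hom with commutes' := hq }
    let p' : c.A →ₐ[Γ(Y, U)] c.D :=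
      { c.p.hom with commutes' := fun r => (c.sq.comm' (φ.hom r)).symm.trans (hq r) }
    have hq' : q.toRingHom = (ξ.app (t ⁻¹ᵁ U)).hom := by
      change k.pY.hom = _
      rw [GoodPair.pY, ← Scheme.Hom.app_eq_appLE]
    haveI := projective_range q (by rw [hq']; exact hv ⟨U, hU⟩)
    refine tensorExact_of_coker_projective (q := q) (p := p') c.sq ?_
    change Function.Injective q.toRingHom
    rw [hq']
    exact app_injective_of_flat_surjective ξ (hU.preimage t)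
  · obtain ⟨U, hU, hxU, -⟩ := exists_isAffineOpen_mem_and_subset (x := p x) (U := ⊤) trivial
    obtain ⟨c, hxc, hcle⟩ := exists_sqChart_le hc hP
      (V := p ⁻¹ᵁ U ⊓ ⟨(Set.range b)ᶜ, b.isClosedEmbedding.isClosed_range.isOpen_compl⟩) (x := x) ⟨hxU, hxb⟩
    haveI := hU.isOpenImmersion_fromSpec
    let l := IsOpenImmersion.lift hU.fromSpec (c.u ≫ p) (by
      rintro _ ⟨Q, rfl⟩; rw [hU.range_fromSpec]; exact (hcle ⟨Q, rfl⟩).1)
    obtain ⟨φ, hφ⟩ := Spec.map_surjective l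
    haveI : Subsingleton c.B := by
      rw [← PrimeSpectrum.isEmpty_iff_subsingleton]
      exact ⟨fun Q => (hcle ⟨Spec.map c.p1 Q, rfl⟩).2
        ⟨c.uY Q, by rw [← Scheme.Hom.comp_apply, ← c.hY.w, Scheme.Hom.comp_apply]⟩⟩
    haveI : Subsingleton c.D := subsingleton_of_zero_eq_one
      (by rw [← map_zero c.q.hom, ← map_one c.q.hom, Subsingleton.elim (0 : c.B) 1])
    refine ⟨U, hU, c, φ, by rw [hφ, IsOpenImmersion.lift_fac], hxc, fun γ => c.chartExact_of_flat_quot φ γ ?_⟩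
    letI := (φ ≫ c.p1 ≫ c.q).hom.toAlgebra
    exact (inferInstance : Module.Flat Γ(Y, U) c.D)

end Glue

end Groth.SpecFerrand
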