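import Mathlib
import Groth.Agent.SpecFerrand.PushHom
import Groth.Agent.SpecFerrand.BasisTools

/-!
Glueing finite locally free modules along a pushout of ringed spaces.
-/

set_option autoImplicit false

universe u

open CategoryTheory CategoryTheory.Limits AlgebraicGeometry TopologicalSpace Opposite Groth.PicAux

noncomputable section

namespace Groth.SpecFerrand

variable {X Y Z T : Scheme.{u}} {fX : Z ⟶ X} {fY : Z ⟶ Y} {gX : X ⟶ T} {gY : Y ⟶ T}
  (hw : fX ≫ gX = fY ≫ gY)

theorem exists_section_of_isPullback {A B C D : T.Modules} {f : A ⟶ B} {g : A ⟶ C} {h : B ⟶ D} {k : C ⟶ D}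
    (H : IsPullback f g h k) (U : T.Opens) :
    (∀ m m' : Γ(A, U), f.app U m = f.app U m' → g.app U m = g.app U m' → m = m') ∧
    ∀ (x : Γ(B, U)) (y : Γ(C, U)), h.app U x = k.app U y → ∃ m : Γ(A, U), f.app U m = x ∧ g.app U m = y := by
  have H' := ((H.map (Scheme.Modules.toPresheaf T)).map ((evaluation _ Ab.{u}).obj (op U))).map (forget Ab.{u})
  exact ⟨fun m m' => Types.ext_of_isPullback H', fun x y => Types.exists_of_isPullback H' x y⟩

variable {LX : X.Modules} {LY : Y.Modules}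
  (σ : (Scheme.Modules.pullback fX).obj LX ≅ (Scheme.Modules.pullback fY).obj LY)

/-- Sections agreeing through `σ`. -/
def Glued {U : T.Opens} (sx : Γ(LX, gX ⁻¹ᵁ U)) (sy : Γ(LY, gY ⁻¹ᵁ U)) : Prop :=
  σ.hom.app (fX ⁻¹ᵁ (gX ⁻¹ᵁ U)) (pullSec fX LX sx) = res _ (preimage_le hw U) (pullSec fY LY sy)

theorem Glued.res {U V : T.Opens} (h : V ≤ U) {sx : Γ(LX, gX ⁻¹ᵁ U)} {sy : Γ(LY, gY ⁻¹ᵁ U)}
    (hc : Glued hw σ sx sy) :
    Glued hw σ (PicAux.res LX (gX.preimage_mono h) sx) (PicAux.res LY (gY.preimage_mono h) sy) := by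
  unfold Glued at hc ⊢
  rw [← res_pullSec, ← res_pullSec, app_res, hc, res_res, res_res]

variable (hsec : ∀ U : T.Opens, IsPullback (gX.appLE U (gX ⁻¹ᵁ U) le_rfl) (gY.appLE U (gY ⁻¹ᵁ U) le_rfl)
  (fX.appLE (gX ⁻¹ᵁ U) (fX ⁻¹ᵁ (gX ⁻¹ᵁ U)) le_rfl)
  (fY.appLE (gY ⁻¹ᵁ U) (fX ⁻¹ᵁ (gX ⁻¹ᵁ U)) (preimage_le hw U)))

include hsec in
theorem resX_app_eq (U : T.Opens) (r : Γ(T, U)) :
    resX Z (preimage_le hw U) (fY.app _ (gY.app U r)) = fX.app _ (gX.app U r) := by
  rw [Scheme.Hom.app_eq_appLE gX, Scheme.Hom.app_eq_appLE gY, Scheme.Hom.app_eq_appLE fX]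
  exact congr(($((hsec U).w)).hom r).symm

variable (gX) in
/-- The common target of the two pieces. -/
abbrev glueTarget (LY : Y.Modules) : T.Modules :=
  (Scheme.Modules.pushforward gX).obj ((Scheme.Modules.pushforward fX).obj ((Scheme.Modules.pullback fY).obj LY))

variable (gX) in
/-- Restriction from `X` to the common piece, read through `σ`. -/
def glueX : (Scheme.Modules.pushforward gX).obj LX ⟶ glueTarget (fX := fX) (fY := fY) gX LY :=
  modHom (fun U s => σ.hom.app (fX ⁻¹ᵁ (gX ⁻¹ᵁ U)) (pullSec fX LX (U := gX ⁻¹ᵁ U) s))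
    (fun U x y => (congrArg _ (pullSec_add fX LX (U := gX ⁻¹ᵁ U) x y)).trans
      (map_add (σ.hom.app (fX ⁻¹ᵁ (gX ⁻¹ᵁ U))).hom _ _))
    (fun U r x => (congrArg _ (pullSec_smul fX LX (U := gX ⁻¹ᵁ U) (gX.app U r) x)).trans
      (Scheme.Modules.Hom.app_smul σ.hom _ _))
    (fun U V h x => (congrArg _ (res_pullSec fX LX (gX.preimage_mono h) x).symm).trans
      (app_res σ.hom (fX.preimage_mono (gX.preimage_mono h)) _))

/-- Restriction from `Y` to the common piece. -/
def glueY (LY : Y.Modules) :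
    (Scheme.Modules.pushforward gY).obj LY ⟶ glueTarget (fX := fX) (fY := fY) gX LY :=
  modHom (fun U s => (res ((Scheme.Modules.pullback fY).obj LY) (preimage_le hw U)
      (pullSec fY LY (U := gY ⁻¹ᵁ U) s) : Γ((Scheme.Modules.pullback fY).obj LY, fX ⁻¹ᵁ (gX ⁻¹ᵁ U))))
    (fun U x y => (congrArg (res ((Scheme.Modules.pullback fY).obj LY) (preimage_le hw U))
      (pullSec_add fY LY (U := gY ⁻¹ᵁ U) x y)).trans (res_add _ _ _))
    (fun U r x => ((congrArg (res ((Scheme.Modules.pullback fY).obj LY) (preimage_le hw U))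
      (pullSec_smul fY LY (U := gY ⁻¹ᵁ U) (gY.app U r) x)).trans (res_smul _ _ _)).trans
        (congrArg (· • _) (resX_app_eq hw hsec U r)))
    (fun U V h x => ((congrArg (res ((Scheme.Modules.pullback fY).obj LY) (preimage_le hw V))
      (res_pullSec fY LY (gY.preimage_mono h) x).symm).trans (res_res _ _ _)).trans
        (res_res (M := (Scheme.Modules.pullback fY).obj LY) (preimage_le hw U)
          (fX.preimage_mono (gX.preimage_mono h)) (pullSec fY LY (U := gY ⁻¹ᵁ U) x)).symm)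

include hsec in
/-- Locally free modules on the two pieces with compatible bases glue. -/
theorem exists_glued {n : ℕ}
    (hb : ∀ t : T, ∃ (W : T.Opens) (g : Fin n → Γ(LX, gX ⁻¹ᵁ W)) (e : Fin n → Γ(LY, gY ⁻¹ᵁ W)), t ∈ W ∧
      Basis' LX (gX ⁻¹ᵁ W) g ∧ Basis' LY (gY ⁻¹ᵁ W) e ∧ ∀ k, Glued hw σ (g k) (e k)) :
    ∃ (M : T.Modules) (eX : (Scheme.Modules.pullback gX).obj M ≅ LX)
      (eY : (Scheme.Modules.pullback gY).obj M ≅ LY),
      FlatMod.IsFinLocFreeOfRank n M ∧
      (pullXi hw M).hom ≫ (Scheme.Modules.pullback fY).map eY.hom =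
        (Scheme.Modules.pullback fX).map eX.hom ≫ σ.hom := by
  let cx := glueX gX σ
  let cy := glueY hw hsec LY
  let pa : Limits.pullback cx cy ⟶ (Scheme.Modules.pushforward gX).obj LX := Limits.pullback.fst cx cy
  let pb : Limits.pullback cx cy ⟶ (Scheme.Modules.pushforward gY).obj LY := Limits.pullback.snd cx cy
  have sec := exists_section_of_isPullback (IsPullback.of_hasPullback cx cy)
  have hglued : ∀ (U : T.Opens) (m : Γ(Limits.pullback cx cy, U)),
      Glued hw σ (pa.app U m : Γ(LX, gX ⁻¹ᵁ U)) (pb.app U m : Γ(LY, gY ⁻¹ᵁ U)) := fun U m =>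
    congr(($(Limits.pullback.condition (f := cx) (g := cy))).app U m)
  choose W g e htW hg he hge using hb
  choose m hm1 hm2 using fun (t : T) (k : Fin n) => (sec (W t)).2 (g t k) (e t k) (hge t k)
  have hsum : ∀ (t : T) (V : T.Opens) (hV : V ≤ W t) (r : Fin n → Γ(T, V)),
      (pa.app V (∑ k, r k • res _ hV (m t k)) : Γ(LX, gX ⁻¹ᵁ V)) =
        ∑ k, gX.app V (r k) • res LX (gX.preimage_mono hV) (g t k) ∧
      (pb.app V (∑ k, r k • res _ hV (m t k)) : Γ(LY, gY ⁻¹ᵁ V)) =
        ∑ k, gY.app V (r k) • res LY (gY.preimage_mono hV) (e t k) := fun t V hV r => by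
    constructor
    · refine (map_sum (pa.app V).hom _ _).trans (Finset.sum_congr rfl fun k _ => ?_)
      refine (Scheme.Modules.Hom.app_smul pa _ _).trans ?_
      have hk : (pa.app V (res (Limits.pullback cx cy) hV (m t k)) : Γ(LX, gX ⁻¹ᵁ V)) =
          res LX (gX.preimage_mono hV) (g t k) :=
        (app_res pa hV (m t k)).trans (congrArg (res LX (gX.preimage_mono hV)) (hm1 t k))
      exact congrArg (fun z : Γ(LX, gX ⁻¹ᵁ V) => gX.app V (r k) • z) hk
    · refine (map_sum (pb.app V).hom _ _).trans (Finset.sum_congr rfl fun k _ => ?_)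
      refine (Scheme.Modules.Hom.app_smul pb _ _).trans ?_
      have hk : (pb.app V (res (Limits.pullback cx cy) hV (m t k)) : Γ(LY, gY ⁻¹ᵁ V)) =
          res LY (gY.preimage_mono hV) (e t k) :=
        (app_res pb hV (m t k)).trans (congrArg (res LY (gY.preimage_mono hV)) (hm2 t k))
      exact congrArg (fun z : Γ(LY, gY ⁻¹ᵁ V) => gY.app V (r k) • z) hk
  have hbasis : ∀ t, Basis' (Limits.pullback cx cy) (W t) (m t) := fun t V hV => by
    refine ⟨fun r r' err => funext fun k => hsec_ext (hsec V) ?_ ?_, fun x => ?_⟩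
    · rw [← Scheme.Hom.app_eq_appLE]
      refine congrFun ((hg t (gX ⁻¹ᵁ V) (gX.preimage_mono hV)).1 (a₁ := fun k => gX.app V (r k))
        (a₂ := fun k => gX.app V (r' k)) ?_) k
      exact ((hsum t V hV r).1.symm.trans (congrArg (fun z => pa.app V z) err)).trans (hsum t V hV r').1
    · rw [← Scheme.Hom.app_eq_appLE]
      refine congrFun ((he t (gY ⁻¹ᵁ V) (gY.preimage_mono hV)).1 (a₁ := fun k => gY.app V (r k))
        (a₂ := fun k => gY.app V (r' k)) ?_) k
      exact ((hsum t V hV r).2.symm.trans (congrArg (fun z => pb.app V z) err)).trans (hsum t V hV r').2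
    · obtain ⟨cX, hcX⟩ := (hg t (gX ⁻¹ᵁ V) (gX.preimage_mono hV)).2 (pa.app V x)
      obtain ⟨cY, hcY⟩ := (he t (gY ⁻¹ᵁ V) (gY.preimage_mono hV)).2 (pb.app V x)
      have eq : ∀ k, (fX.appLE (gX ⁻¹ᵁ V) (fX ⁻¹ᵁ (gX ⁻¹ᵁ V)) le_rfl) (cX k) =
          (fY.appLE (gY ⁻¹ᵁ V) (fX ⁻¹ᵁ (gX ⁻¹ᵁ V)) (preimage_le hw V)) (cY k) := by
        refine congrFun ((((((he t).res' (gY.preimage_mono hV)).pull fY).res' (preimage_le hw V)) _ le_rfl).1 ?_)
        have hc := hglued V x
        unfold Glued at hc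
        rw [← hcX, ← hcY, pullSec_sum, pullSec_sum, map_sum, res_sum] at hc
        simp only [res_self]
        convert hc using 1
        · refine Finset.sum_congr rfl fun k _ => ?_
          rw [pullSec_smul, Scheme.Modules.Hom.app_smul, Scheme.Hom.app_eq_appLE]
          exact congrArg (_ • ·) ((hge t k).res hw σ hV).symm
        · refine Finset.sum_congr rfl fun k _ => ?_
          rw [pullSec_smul, res_smul]
          rfl
      have heq : ∀ k, ∃ r : Γ(T, V), gX.app V r = cX k ∧ gY.app V r = cY k := fun k => by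
        rw [Scheme.Hom.app_eq_appLE, Scheme.Hom.app_eq_appLE]
        exact hsec_exists (hsec V) _ _ (eq k)
      choose r hr1 hr2 using heq
      refine ⟨r, (sec V).1 _ _ ?_ ?_⟩
      · refine ((hsum t V hV r).1).trans ?_
        simp only [hr1]
        exact hcX
      · refine ((hsum t V hV r).2).trans ?_
        simp only [hr2]
        exact hcY
  let φX := ((Scheme.Modules.pullbackPushforwardAdjunction gX).homEquiv _ _).symm pa
  let φY := ((Scheme.Modules.pullbackPushforwardAdjunction gY).homEquiv _ _).symm pb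
  have hφX : ∀ (U : T.Opens) (x : Γ(Limits.pullback cx cy, U)),
      φX.app (gX ⁻¹ᵁ U) (pullSec gX _ x) = pa.app U x := fun U x => by
    have := ((Scheme.Modules.pullbackPushforwardAdjunction gX).homEquiv _ _).apply_symm_apply pa
    rw [Adjunction.homEquiv_unit] at this
    exact congr(($this).app U x)
  have hφY : ∀ (U : T.Opens) (x : Γ(Limits.pullback cx cy, U)),
      φY.app (gY ⁻¹ᵁ U) (pullSec gY _ x) = pb.app U x := fun U x => by
    have := ((Scheme.Modules.pullbackPushforwardAdjunction gY).homEquiv _ _).apply_symm_apply pb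
    rw [Adjunction.homEquiv_unit] at this
    exact congr(($this).app U x)
  haveI : IsIso φX := isIso_of_bases φX fun p =>
    ⟨gX ⁻¹ᵁ W (gX p), n, _, htW (gX p), (hbasis (gX p)).pull gX, by
      convert hg (gX p) using 1
      exact funext fun k => (hφX _ _).trans (hm1 (gX p) k)⟩
  haveI : IsIso φY := isIso_of_bases φY fun p =>
    ⟨gY ⁻¹ᵁ W (gY p), n, _, htW (gY p), (hbasis (gY p)).pull gY, by
      convert he (gY p) using 1
      exact funext fun k => (hφY _ _).trans (hm2 (gY p) k)⟩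
  refine ⟨Limits.pullback cx cy, asIso φX, asIso φY,
    Groth.LocFree.isFinLocFreeOfRank_iff.2 fun t => ⟨W t, m t, htW t, hbasis t⟩, ?_⟩
  refine pullback_hom_ext fX fun V s => ?_
  let A₁ := (Scheme.Modules.pullback fX).map φX ≫ σ.hom
  let A₂ := (pullXi hw (Limits.pullback cx cy)).hom ≫ (Scheme.Modules.pullback fY).map φY
  have key : ((Scheme.Modules.pullbackPushforwardAdjunction fX).homEquiv _ _) A₂ =
      ((Scheme.Modules.pullbackPushforwardAdjunction fX).homEquiv _ _) A₁ := by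
    refine pullback_hom_ext gX fun U x => ?_
    rw [Adjunction.homEquiv_unit, Adjunction.homEquiv_unit]
    change A₂.app (fX ⁻¹ᵁ (gX ⁻¹ᵁ U)) (pullSec fX _ (pullSec gX _ x)) =
      A₁.app (fX ⁻¹ᵁ (gX ⁻¹ᵁ U)) (pullSec fX _ (pullSec gX _ x))
    change ((Scheme.Modules.pullback fY).map φY).app _ ((pullXi hw _).hom.app _ _) =
      σ.hom.app _ (((Scheme.Modules.pullback fX).map φX).app _ _)
    rw [pullXi_pullSec, pullSec_map, hφX, app_res, pullSec_map, hφY]
    exact (hglued U x).symm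
  exact congr(($(((Scheme.Modules.pullbackPushforwardAdjunction fX).homEquiv _ _).injective key)).app _
    (pullSec fX _ s))

end Groth.SpecFerrand
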